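import Cfsg.Agent.JT2.A
import Cfsg.Agent.MacW.A

/-! Basic facts on the frame `EF`. -/

set_option autoImplicit false
set_option linter.unusedSectionVars false

namespace Cfsg.Agent.JT2

open Cfsg.Agent.BG Subgroup

variable {G : Type*} [Group G] [Finite G] {t ρ x y g r u a : G} {V Q P B : Subgroup G}

theorem inv2 (t2 : t * t = 1) : t⁻¹ = t := inv_eq_of_mul_eq_one_right t2

theorem mem_sup_inv (hn : t ∈ N[Q]) (t2 : t * t = 1) : x ∈ Q ⊔ zpowers t ↔ x ∈ Q ∨ t * x ∈ Q := by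
  constructor
  · intro h
    obtain ⟨a, ha, b, ⟨m, rfl⟩, rfl⟩ := (mem_sup_norml (zpowers_le.2 hn)).1 h
    rcases Invol.zpow_invol t2 m with e | e <;> simp only [e]
    · exact .inl (by simpa using ha)
    · exact .inr (by simpa [inv2 t2, mul_assoc] using conj_mem_of_norm hn ha)
  · rintro (h | h)
    · exact mem_sup_left h
    · have := mul_mem (mem_sup_right (mem_zpowers t)) (mem_sup_left (T := zpowers t) h)
      rwa [← mul_assoc, t2, one_mul] at this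

theorem card_sup_inv (hn : t ∈ N[Q]) (t2 : t * t = 1) (h : t ∉ Q) : #(Q ⊔ zpowers t : Subgroup G) = 2 * #Q := by
  have h1 : Q ⊓ zpowers t = ⊥ := (eq_bot_iff_forall _).2 fun x ⟨h1, m, h2⟩ => by
    rcases Invol.zpow_invol t2 m with e | e
    · exact h2 ▸ e
    · exact (h (by rw [← e, show t ^ m = x from h2]; exact h1)).elim
  have := card_sup_mul_inf (A := Q) (.inr (zpowers_le.2 hn))
  rw [h1, card_bot, mul_one, Nat.card_zpowers, Invol.orderOf_two_iff.2 ⟨t2, fun e => h (e ▸ one_mem _)⟩] at this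
  omega

theorem pg2 (t2 : t * t = 1) : IsPGroup 2 (zpowers t) :=
  Invol.isPGroup_zpowers (n := 1) (by rw [pow_one, pow_two, t2])

theorem fixp {p : ℕ} [Fact p.Prime] (hr : IsPGroup p (zpowers r)) (Y : Set G) (hY : ∀ y ∈ Y, r * y * r⁻¹ ∈ Y)
    (hp : ¬ p ∣ Nat.card Y) : ∃ y ∈ Y, r * y = y * r := by
  have h1 : ∀ n : ℕ, ∀ y ∈ Y, r ^ n * y * (r ^ n)⁻¹ ∈ Y := fun n => by
    induction n with
    | zero => simp
    | succ n ih => intro y hy; simpa [pow_succ', mul_assoc] using hY _ (ih y hy)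
  have h2 : ∀ g : zpowers r, ∀ y ∈ Y, g * y * (g : G)⁻¹ ∈ Y := fun g y hy => by
    obtain ⟨n, e⟩ := mem_powers_iff_mem_zpowers.2 g.2
    exact (show r ^ n = g from e) ▸ h1 n y hy
  let : MulAction (zpowers r) Y :=
    { smul := fun g y => ⟨_, h2 g y y.2⟩
      one_smul := fun y => Subtype.ext (by change (1 : G) * y * (1 : G)⁻¹ = y; simp)
      mul_smul := fun a b y => Subtype.ext (by
        change ((a : G) * b) * y * ((a : G) * b)⁻¹ = a * (b * y * (b : G)⁻¹) * (a : G)⁻¹; group) }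
  obtain ⟨y, hy⟩ := hr.nonempty_fixed_point_of_prime_not_dvd_card Y hp
  have : r * y * r⁻¹ = y := congrArg Subtype.val (hy ⟨r, mem_zpowers r⟩)
  exact ⟨y, y.2, mul_inv_eq_iff_eq_mul.1 this⟩

theorem exists_pelt (h : g ∉ B) : ∃ p : ℕ, p.Prime ∧ ∃ r ∈ zpowers g, IsPGroup p (zpowers r) ∧ r ∉ B := by
  have h1 : B.relIndex (zpowers g) ≠ 1 := fun e => h (relIndex_eq_one.1 e (mem_zpowers g))
  have := Fact.mk (Nat.minFac_prime h1)
  obtain ⟨R, hR⟩ := Sylow_exists (B.relIndex (zpowers g)).minFac (zpowers g)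
  by_contra! H
  refine hR.not_dvd ((Nat.minFac_dvd _).trans (relIndex_dvd_of_le_left _ fun r hr => ?_))
  exact H _ this.out r (hR.le hr) (hR.pg.to_le (zpowers_le.2 hr))

namespace EF
variable (h : EF t V ρ)
include h

theorem t1 : t ≠ 1 := fun e => h.tV (e ▸ one_mem _)
theorem tNV : t ∈ N[V] := cent_sub V (le_cent1_iff.1 h.Vt)
theorem vt (hv : x ∈ V) : x * t = t * x := mem_cent1.1 (h.Vt hv)
theorem iV (hv : x ∈ V) : x⁻¹ = x := inv2 (h.eV x hv)
theorem cV (hx : x ∈ V) (hy : y ∈ V) : x * y = y * x := by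
  rw [← h.iV (mul_mem hx hy), mul_inv_rev, h.iV hx, h.iV hy]
theorem S2 (hx : x ∈ V ⊔ zpowers t) : x * x = 1 := by
  rcases (mem_sup_inv h.tNV h.t2).1 hx with e | e
  · exact h.eV x e
  · have := h.eV _ e
    have e2 := h.vt e
    rw [mul_assoc, mul_right_inj] at e2
    rwa [mul_assoc, ← mul_assoc x, e2, ← mul_assoc, ← mul_assoc, h.t2, one_mul] at this

theorem le2 (hy : IsConj t y) (hP : IsPGroup 2 P) (hle : P ≤ C1[y]) : #P ≤ 2 * #V ∧ ∀ x ∈ P, x * x = 1 := by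
  obtain ⟨c, rfl⟩ := isConj_iff.1 hy
  obtain ⟨g, -, hg⟩ := Sylow_subJ (pHallJ c h.syl) (C1_conj c t ▸ hle) hP
  refine ⟨(card_le_of_le hg).trans (by rw [card_cj, card_cj, card_sup_inv h.tNV h.t2 h.tV]), fun x hx => ?_⟩
  obtain ⟨_, ⟨s, hs, rfl⟩, rfl⟩ := hg hx
  rw [← map_mul, ← map_mul, h.S2 hs, map_one, map_one]

theorem cj2 (hy : IsConj t y) : y * y = 1 := by
  obtain ⟨c, rfl⟩ := isConj_iff.1 hy
  rw [conj_mul, h.t2, mul_one, mul_inv_cancel]

theorem cj1 (hy : IsConj t y) : y ≠ 1 := fun e => h.t1 (isConj_one_left.1 (e ▸ hy))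

theorem k2 (hy : IsConj t y) (hyV : y ∉ V) (hVy : V ≤ C1[y]) (hP : IsPGroup 2 P) (VP : V ≤ P) (yP : y ∈ P)
    (hx : x ∈ P) (e : x * y = y * x) : x ∈ V ∨ y * x ∈ V := by
  have n : y ∈ N[V] := cent_sub V (le_cent1_iff.1 hVy)
  rw [← mem_sup_inv n (h.cj2 hy), eq_of_le_of_card_ge (H := V ⊔ zpowers y) (K := P ⊓ C1[y])
    (sup_le (le_inf VP hVy) (zpowers_le.2 ⟨yP, cent1_self y⟩))
    (card_sup_inv n (h.cj2 hy) hyV ▸ (h.le2 hy (hP.to_le inf_le_left) inf_le_right).1)]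
  exact ⟨hx, mem_cent1.2 e⟩

theorem nsq (hy : IsConj t y) : x * x ≠ y := fun e => h.cj1 hy (e ▸ (h.le2 hy (P := zpowers x)
  (Invol.isPGroup_zpowers (n := 2) (by rw [show x ^ 2 ^ 2 = x * x * (x * x) by simp [pow_succ, mul_assoc], e, h.cj2 hy]))
  (zpowers_le.2 (mem_cent1.2 (by rw [← e, mul_assoc])))).2 x (mem_zpowers x))

theorem cen2 (h1 : g ∈ C1[t]) (h2 : g ∈ N[V]) (h3 : IsPGroup 2 (zpowers g)) : g ∈ C[V] := by
  have := Fact.mk Nat.prime_two
  rcases h.k2 (IsConj.refl t) h.tV h.Vt (P := V ⊔ zpowers t ⊔ zpowers g) (pgroup_sup (.inr (zpowers_le.2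
    (normsY (C := zpowers g) (zpowers_le.2 h2) (zpowers_le.2 (cent1_le_norm_zpowers t h1)) (mem_zpowers g))))
    h.syl.pg h3) (le_sup_left.trans le_sup_left) (mem_sup_left (mem_sup_right (mem_zpowers t)))
    (mem_sup_right (mem_zpowers g)) (mem_cent1.1 h1) with e | e
  · exact mem_cent.2 fun a ha => h.cV ha e
  · refine mem_cent.2 fun a ha => mul_left_cancel (a := t) ?_
    rw [← mul_assoc, ← h.vt ha, mul_assoc, h.cV ha e, mul_assoc]

theorem fpf (hg : g ∈ zpowers ρ) (n : g ∉ C[V]) (hx : x ∈ V) (e : g * x = x * g) : x = 1 := by_contra fun x1 => by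
  refine n (mem_cent.2 fun w hw => ?_)
  by_cases w1 : w = 1
  · simp [w1]
  obtain ⟨k, rfl⟩ := h.tr x hx w hw x1 w1
  obtain ⟨m, rfl⟩ := hg
  have c : Commute (ρ ^ k) (ρ ^ m) := (Commute.refl ρ).pow_left k |>.zpow_right m
  exact ((c.mul_left e.symm).mul_left c.inv_left).eq

theorem exr (hg : g ∈ zpowers ρ) (n : g ∉ C[V]) : ∃ p : ℕ, p.Prime ∧ p ≠ 2 ∧ ∃ r ∈ zpowers g,
    IsPGroup p (zpowers r) ∧ r ∉ C[V] := by
  obtain ⟨p, hp, r, h1, h2, h3⟩ := exists_pelt n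
  have h4 := zpowers_le.2 hg h1
  exact ⟨p, hp, fun e => h3 (h.cen2 (zpowers_le.2 h.ρt h4) (zpowers_le.2 h.ρN h4) (e ▸ h2)), r, h1, h2, h3⟩

theorem ex3 (x y : G) : ∃ v ∈ V, v ≠ 1 ∧ v ≠ x ∧ v ≠ y := by
  by_contra! H
  have : #V ≤ Nat.card ({1, x, y} : Set G) := Nat.card_le_card_of_injective
    (fun v : V => (⟨v, by by_cases e : (v : G) = 1; simp [e]; by_cases e' : (v : G) = x; simp [e']; simp [H v v.2 e e']⟩ :
      ({1, x, y} : Set G))) fun a b e => Subtype.ext (congrArg (·.1) e)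
  have h3 : Nat.card ({1, x, y} : Set G) ≤ 3 := (Set.ncard_insert_le _ _).trans (by
    have := (Set.ncard_insert_le x {y}); simp at this ⊢; omega)
  have := h.c4
  omega

theorem ρC : ρ ∉ C[V] := fun e => by
  obtain ⟨u, hu, u1, -⟩ := h.ex3 1 1
  obtain ⟨v, hv, v1, uv, -⟩ := h.ex3 u u
  obtain ⟨k, hk⟩ := h.tr u hu v hv u1 v1
  exact uv (hk ▸ conj_eq_of_cent (pow_mem e k) hu)

end EF

end Cfsg.Agent.JT2
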