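import Cfsg.Agent.Gold.Iso
import Cfsg.Agent.Loc.TT
import Cfsg.Agent.Sig.Dich
import Cfsg.Agent.Flav.F1

/-! Involution centralizers of type `Z₂ × L₂(q)`: the frames `EF` (elementary Sylow 2-subgroup `⟨t⟩ × V` of `C(t)`),
`DF` (`⟨t⟩ × D`, `D = ⟨c, s⟩` dihedral of order `2^(n+3)`), `CQ` (chain data). -/

set_option autoImplicit false
set_option linter.unusedSectionVars false

namespace Cfsg.Agent.JT2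

open Cfsg.Agent.BG Subgroup

variable {G : Type*} [Group G]

structure EF (t : G) (V : Subgroup G) (ρ : G) : Prop where
  t2 : t * t = 1
  tV : t ∉ V
  eV : ∀ v ∈ V, v * v = 1
  c4 : 4 ≤ #V
  Vt : V ≤ C1[t]
  syl : SylowIn 2 (V ⊔ zpowers t) C1[t]
  ρt : ρ ∈ C1[t]
  ρN : ρ ∈ N[V]
  tr : ∀ u ∈ V, ∀ v ∈ V, u ≠ 1 → v ≠ 1 → ∃ k : ℕ, ρ ^ k * u * (ρ ^ k)⁻¹ = v
  nρ : ∀ g ∈ C1[t], g ∈ N[V] → ∃ k : ℕ, ∀ v ∈ V,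
    g * ρ * g⁻¹ * v * (g * ρ * g⁻¹)⁻¹ = ρ ^ k * v * (ρ ^ k)⁻¹

structure DF (t c s : G) (n : ℕ) : Prop where
  t2 : t * t = 1
  oc : orderOf c = 2 ^ (n + 2)
  s2 : s * s = 1
  sc : s * c * s⁻¹ = c⁻¹
  sC : s ∉ zpowers c
  tD : t ∉ zpowers c ⊔ zpowers s
  ct : c ∈ C1[t]
  st : s ∈ C1[t]
  syl : SylowIn 2 (zpowers c ⊔ zpowers s ⊔ zpowers t) C1[t]
  fus : ∀ k : ℕ, ∃ ρ ∈ C1[t], ρ * c ^ 2 ^ (n + 1) * ρ⁻¹ = c ^ k * s ∧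
    ρ * (c ^ k * s) * ρ⁻¹ = c ^ 2 ^ (n + 1) * (c ^ k * s)

structure CQ (t : G) (V : Subgroup G) (ρ : G) (Q : Subgroup G) : Prop extends EF t V ρ where
  pQ : IsPGroup 2 Q
  VQ : V ≤ Q
  QV : Q ≤ C[V]
  tN : t ∈ N[Q]
  tQ : t ∉ Q
  ρQ : ρ ∈ N[Q]
  nc : ∀ x ∈ Q, ¬ IsConj t x

/-- one class in the coset `tQ` -/
def One (t : G) (Q : Subgroup G) : Prop := ∀ u ∈ Q, IsConj t (t * u) → ∃ a ∈ Q, t * u = a * t * a⁻¹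

/-- the whole coset `tQ` is fused to `t` -/
def All (t : G) (Q : Subgroup G) : Prop := ∀ u ∈ Q, IsConj t (t * u)

/-- the exceptional case of the chain -/
def Beta (t : G) (V Q : Subgroup G) : Prop := All t Q ∧ ¬ SylowIn 2 (Q ⊔ zpowers t) ⊤ ∧
  ∀ g ∈ C[V], g ∈ N[(Q ⊔ zpowers t : Subgroup G)] → ∃ a ∈ Q, g * t * g⁻¹ = a * t * a⁻¹

end Cfsg.Agent.JT2
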