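import Cfsg.Agent.JT2.C1
import Cfsg.Agent.ZD.C1b

/-! The chain, part 2: classes in the coset `tQ`, the inductive step and the theorem `chain`. -/

set_option autoImplicit false
set_option linter.unusedSectionVars false

namespace Cfsg.Agent.JT2

open Cfsg.Agent.BG Subgroup

variable {G : Type*} [Group G] [Finite G] {t ρ x y g r u a w c : G} {V Q P B A N : Subgroup G}

/-- the `Q`-class of `y` -/
def cls (Q : Subgroup G) (y : G) : Set G := {z | ∃ a ∈ Q, z = a * y * a⁻¹}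

theorem card_cls (Q : Subgroup G) (y : G) : Nat.card (cls Q y) * #(Q ⊓ C1[y] : Subgroup G) = #Q := by
  let : MulAction Q G := MulAction.compHom G (MulAut.conj.comp Q.subtype)
  have h1 : MulAction.orbit Q y = cls Q y := Set.ext fun z => ⟨fun ⟨a, e⟩ => ⟨a, a.2, e.symm⟩, fun ⟨a, ha, e⟩ =>
    ⟨⟨a, ha⟩, e.symm⟩⟩
  have h2 : MulAction.stabilizer Q y = (Q ⊓ C1[y]).subgroupOf Q := Subgroup.ext fun a => by
    rw [mem_subgroupOf, mem_inf, and_iff_right a.2, mem_cent1, ← mul_inv_eq_iff_eq_mul]; rfl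
  rw [Nat.card_coe_set_eq, ← h1, ← MulAction.index_stabilizer, ← card_subgroupOf inf_le_left, ← h2, index_mul_card]

theorem card_coset (t : G) (Q : Subgroup G) : Nat.card {z | t * z ∈ Q} = #Q :=
  Nat.card_congr ((Equiv.mulLeft t).subtypeEquiv fun _ => Iff.rfl)

theorem exists_sq (hP : IsPGroup 2 P) (hx : x ∈ P) (h : x ∉ N) : ∃ e ∈ P, e ∉ N ∧ e * e ∈ N := by
  obtain ⟨k, hk⟩ := hP ⟨x, hx⟩
  replace hk : x ^ 2 ^ k ∈ N := by rw [show x ^ 2 ^ k = 1 from congrArg Subtype.val hk]; exact one_mem N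
  induction k with
  | zero => exact (h (by simpa using hk)).elim
  | succ k ih =>
    by_cases e : x ^ 2 ^ k ∈ N
    · exact ih e
    · exact ⟨_, pow_mem hx _, e, by rwa [← pow_add, ← two_mul, ← pow_succ']⟩

theorem EF.chg (h : EF t V ρ) (hc : c ∈ C[V]) (ht : c * ρ ∈ C1[t]) : EF t V (c * ρ) := by
  have k : ∀ k : ℕ, ∀ v ∈ V, (c * ρ) ^ k * v * ((c * ρ) ^ k)⁻¹ = ρ ^ k * v * (ρ ^ k)⁻¹ := fun k v hv => by
    induction k with
    | zero => simp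
    | succ k ih =>
      rw [← conj_eq_of_cent hc (conj_mem_of_norm (pow_mem h.ρN (k + 1)) hv), pow_succ' (c * ρ), pow_succ' ρ,
        show ρ * ρ ^ k * v * (ρ * ρ ^ k)⁻¹ = ρ * (ρ ^ k * v * (ρ ^ k)⁻¹) * ρ⁻¹ by
          simp only [mul_assoc, mul_inv_rev], ← ih]
      simp only [mul_assoc, mul_inv_rev]
  refine ⟨h.t2, h.tV, h.eV, h.c4, h.Vt, h.syl, ht, mul_mem (cent_sub V hc) h.ρN, fun u hu v hv u1 v1 =>
    (h.tr u hu v hv u1 v1).imp fun n e => (k n u hu).trans e, fun g g1 g2 => (h.nρ g g1 g2).imp fun n e v hv => ?_⟩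
  rw [k n v hv, ← conj_eq_of_cent (conj_mem_of_norm (cent_norm V g2) hc) (conj_mem_of_norm (pow_mem h.ρN n) hv),
    ← e v hv]
  group

namespace C0
variable (h : C0 t V ρ Q)
include h

theorem tcl (h1 : t * y ∈ Q) (hx : x ∈ cls Q y) : t * x ∈ Q := by
  obtain ⟨a, ha, rfl⟩ := hx
  simpa [mul_assoc] using mul_mem (mul_mem (conj_mem_of_norm h.tN ha) h1) (inv_mem ha)

theorem tρ (hr : r ∈ zpowers ρ) (h1 : t * y ∈ Q) : t * (r * y * r⁻¹) ∈ Q := by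
  have := conj_mem_of_norm (zpowers_le.2 h.ρQ hr) h1
  rwa [← conj_mul, mul_inv_eq_iff_eq_mul.2 (mem_cent1.1 (zpowers_le.2 h.ρt hr))] at this

theorem st (hg : g ∈ zpowers ρ) (hy : IsConj t y) (h1 : t * y ∈ Q) (n : y ∉ cls Q t) (e : g * y * g⁻¹ ∈ cls Q y) :
    g ∈ C[V] := by_contra fun ng => by
  obtain ⟨p, hp, p2, r, r1, r2, r3⟩ := h.exr hg ng
  have := Fact.mk hp
  have := Fact.mk Nat.prime_two
  obtain ⟨b, hb, e⟩ := e
  have k : ∀ n : ℕ, ∀ z ∈ cls Q y, g ^ n * z * (g ^ n)⁻¹ ∈ cls Q y := fun n => by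
    induction n with
    | zero => simp
    | succ n ih =>
      intro z hz
      obtain ⟨a, ha, e'⟩ := ih z hz
      refine ⟨_, mul_mem (conj_mem_of_norm (zpowers_le.2 h.ρQ hg) ha) hb, ?_⟩
      rw [pow_succ', show g * g ^ n * z * (g * g ^ n)⁻¹ = g * (g ^ n * z * (g ^ n)⁻¹) * g⁻¹ by group, e',
        show g * (a * y * a⁻¹) * g⁻¹ = g * a * g⁻¹ * (g * y * g⁻¹) * (g * a * g⁻¹)⁻¹ by group, e]
      group
  obtain ⟨m, rfl⟩ := mem_powers_iff_mem_zpowers.2 r1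
  obtain ⟨d, hd, d3⟩ := fixp r2 (cls Q y) (k m) fun e => by
    obtain ⟨k, hk⟩ := h.pQ.exists_card_eq
    exact p2 ((Nat.prime_dvd_prime_iff_eq hp Nat.prime_two).1 (hp.dvd_of_dvd_pow
      (hk ▸ card_cls Q y ▸ e.mul_right _ : p ∣ 2 ^ k)))
  have d1 := h.tcl h1 hd
  obtain ⟨a, ha, rfl⟩ := hd
  rcases h.cfix (zpowers_le.2 hg r1) r3 (h.memN.2 (.inr d1)) d3 with e1 | e1
  · exact h.tQ (by simpa [e1] using d1)
  · exact n ⟨a⁻¹, inv_mem ha, by rw [← e1]; group⟩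

theorem cover (hy : IsConj t y) (h1 : t * y ∈ Q) (n : y ∉ cls Q t) (hx : t * x ∈ Q) :
    x ∈ cls Q t ∨ ∃ k : ℕ, x ∈ cls Q (ρ ^ k * y * (ρ ^ k)⁻¹) := by
  classical
  obtain ⟨v0, hv, v1, -⟩ := h.ex3 1 1
  choose! k hk using fun v (a : v ∈ V) (b : v ≠ 1) => h.tr v0 hv v a v1 b
  have pm := fun k : ℕ => pow_mem (mem_zpowers ρ) k
  let z : G → G := fun v => if v = 1 then t else ρ ^ k v * y * (ρ ^ k v)⁻¹
  have z1 : ∀ v, IsConj t (z v) ∧ t * z v ∈ Q := fun v => by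
    simp only [z]; split_ifs
    exacts [⟨.refl t, h.t2 ▸ one_mem _⟩, ⟨hy.trans (isConj_iff.2 ⟨_, rfl⟩), h.tρ (pm _) h1⟩]
  have dis : ∀ j : ℕ, ∀ c ∈ Q, t ≠ c * (ρ ^ j * y * (ρ ^ j)⁻¹) * c⁻¹ := fun j c hc e =>
    n ⟨_, conj_mem_of_norm' (pow_mem h.ρQ j) (inv_mem hc), by
      have := mem_cent1.1 (pow_mem h.ρt j)
      generalize ρ ^ j = b at this e ⊢
      rw [show b⁻¹ * c⁻¹ * b * t * (b⁻¹ * c⁻¹ * b)⁻¹ = b⁻¹ * c⁻¹ * (b * t) * b⁻¹ * c * b by group, this]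
      conv_rhs => rw [e]
      group⟩
  let F : V × (Q ⧸ V.subgroupOf Q) → G := fun p => (p.2.out : G) * z p.1 * (p.2.out : G)⁻¹
  have inj : Function.Injective F := fun p q e => by
    have hc := mul_mem (inv_mem p.2.out.2) q.2.out.2
    have e1 : z p.1 = (p.2.out : G)⁻¹ * q.2.out * z q.1 * ((p.2.out : G)⁻¹ * q.2.out)⁻¹ := by
      rw [show z p.1 = (p.2.out : G)⁻¹ * F p * p.2.out by simp only [F]; group, e]; simp only [F]; group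
    generalize hc' : (p.2.out : G)⁻¹ * q.2.out = c at hc e1
    have e2 : p.1 = q.1 := Subtype.ext (by
      simp only [z] at e1
      split_ifs at e1 with a b b
      · rw [a, b]
      · exact (dis _ c hc e1).elim
      · exact (dis _ _ (inv_mem hc) (by rw [e1]; group)).elim
      · have := h.st (mul_mem (inv_mem (pm (k q.1))) (pm (k p.1))) hy h1 n
          ⟨_, conj_mem_of_norm' (pow_mem h.ρQ (k q.1)) hc, by
            rw [show (ρ ^ k q.1)⁻¹ * ρ ^ k p.1 * y * ((ρ ^ k q.1)⁻¹ * ρ ^ k p.1)⁻¹ = (ρ ^ k q.1)⁻¹ *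
              (ρ ^ k p.1 * y * (ρ ^ k p.1)⁻¹) * ρ ^ k q.1 by group, e1]; group⟩
        rw [← hk _ p.1.2 a, ← hk _ q.1.2 b]
        conv_rhs => rw [← conj_eq_of_cent this hv]
        simp only [mul_assoc, mul_inv_rev, mul_inv_cancel_left, inv_inv, mul_inv_cancel, mul_one])
    refine Prod.ext e2 ?_
    rw [← p.2.out_eq', ← q.2.out_eq', QuotientGroup.eq, mem_subgroupOf]
    show (p.2.out : G)⁻¹ * q.2.out ∈ V
    rw [hc']
    rw [e2] at e1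
    exact h.ky (z1 q.1).1 (z1 q.1).2 hc (mul_inv_eq_iff_eq_mul.1 e1.symm)
  have : Set.range F = {z | t * z ∈ Q} := Set.eq_of_subset_of_ncard_le (by
    rintro _ ⟨p, rfl⟩; exact h.tcl (z1 _).2 ⟨_, p.2.out.2, rfl⟩) (by
      rw [Set.ncard_range_of_injective inj, ← Nat.card_coe_set_eq, card_coset, Nat.card_prod]
      exact (card_mul_relIndex h.VQ).ge)
  obtain ⟨p, rfl⟩ := this.ge hx
  simp only [F, z]; split_ifs
  exacts [.inl ⟨_, p.2.out.2, rfl⟩, .inr ⟨_, _, p.2.out.2, rfl⟩]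

theorem dich : One t Q ∨ All t Q := or_iff_not_imp_left.2 fun n u hu => by
  simp only [One, not_forall] at n
  obtain ⟨w, hw, c, n⟩ := n
  have k : ∀ u ∈ Q, t * (t * u) ∈ Q := fun u hu => by rwa [← mul_assoc, h.t2, one_mul]
  rcases h.cover c (k w hw) n (k u hu) with ⟨a, -, e⟩ | ⟨j, a, -, e⟩ <;> rw [e]
  · exact isConj_iff.2 ⟨_, rfl⟩
  · exact (c.trans (isConj_iff.2 ⟨_, rfl⟩)).trans (isConj_iff.2 ⟨_, rfl⟩)

theorem cN (hP : IsPGroup 2 P) (l : Q ⊔ zpowers t ≤ P) (hg : g ∈ P) (e : g * t = t * g) : g ∈ Q ⊔ zpowers t :=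
  h.memN.2 ((h.k2 (.refl t) h.tV h.Vt hP (h.VQ.trans (le_sup_left.trans l)) (l h.tM) hg e).imp (fun e => h.VQ e)
    fun e => h.VQ e)

theorem clN (hP : IsPGroup 2 P) (l : Q ⊔ zpowers t ≤ P) (hg : g ∈ P) (e : g * t * g⁻¹ ∈ cls Q t) :
    g ∈ Q ⊔ zpowers t := by
  obtain ⟨a, ha, e⟩ := e
  simpa using mul_mem (mem_sup_left ha) (h.cN hP l (mul_mem (inv_mem (l (mem_sup_left ha))) hg)
    (cm_eq (by rw [cm, cm, e])))

theorem tcj (hV : ∀ v ∈ V, ¬ IsConj t v) (hg : g ∈ N[(Q ⊔ zpowers t : Subgroup G)]) : t * (g * t * g⁻¹) ∈ Q :=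
  (h.memN.1 (conj_mem_of_norm hg h.tM)).resolve_left fun e => h.nc hV _ e (isConj_iff.2 ⟨_, rfl⟩)

theorem NQ (hV : ∀ v ∈ V, ¬ IsConj t v) (al : All t Q) : N[(Q ⊔ zpowers t : Subgroup G)] ≤ N[Q] :=
  le_norm_iff.2 fun g hg a ha => (h.memN.1 (conj_mem_of_norm hg (mem_sup_left ha))).resolve_right fun e => by
    have := al _ e
    rw [← mul_assoc, h.t2, one_mul] at this
    exact h.nc hV a ha (this.trans (isConj_iff.2 ⟨g, rfl⟩).symm)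

theorem step (hV : ∀ v ∈ V, ¬ IsConj t v) (al : All t Q) (g1 : g ∈ C[V]) (g2 : g ∈ N[(Q ⊔ zpowers t : Subgroup G)])
    (g3 : g * t * g⁻¹ ∉ cls Q t) : ∃ ρ' Q', C0 t V ρ' Q' ∧ #Q < #Q' := by
  classical
  have := Fact.mk Nat.prime_two
  obtain ⟨K, hK⟩ : ∃ K, K = C[V] ⊓ N[(Q ⊔ zpowers t : Subgroup G)] := ⟨_, rfl⟩
  have NK : Q ⊔ zpowers t ≤ K := hK ▸ le_inf h.NV (normG _)
  have ρK : zpowers ρ ≤ N[K] := hK ▸ normsI (norms_cent (zpowers_le.2 h.ρN)) (norms_norm h.ρM)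
  have K1 : K ≤ C[V] := hK ▸ inf_le_left
  have K2 : K ≤ N[(Q ⊔ zpowers t : Subgroup G)] := hK ▸ inf_le_right
  have rt : ∀ {r}, r ∈ C1[t] → r * t * r⁻¹ = t := fun hr => mul_inv_eq_iff_eq_mul.2 (mem_cent1.1 hr)
  have sub : ∀ {P}, P ≤ K → cls P t ⊆ {z | t * z ∈ Q} := by rintro P l _ ⟨a, ha, rfl⟩; exact h.tcj hV (K2 (l ha))
  have cK : cls K t = {z | t * z ∈ Q} := (sub le_rfl).antisymm fun x hx => by
    rcases h.cover (isConj_iff.2 ⟨g, rfl⟩) (h.tcj hV g2) g3 hx with ⟨a, ha, e⟩ | ⟨j, a, ha, e⟩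
    · exact ⟨a, NK (mem_sup_left ha), e⟩
    · refine ⟨_, mul_mem (NK (mem_sup_left ha)) (conj_mem_of_norm (ρK (pow_mem (mem_zpowers ρ) j))
        (show g ∈ K from hK ▸ mem_inf.2 ⟨g1, g2⟩)), ?_⟩
      conv_rhs => rw [← rt (pow_mem h.ρt j)]
      rw [e]; group
  obtain ⟨M, hM, NM⟩ := Sylow_superset NK h.pN
  have cM : cls M t = {z | t * z ∈ Q} := Set.eq_of_subset_of_ncard_le (sub hM.le) (by
    have h1 := card_cls K t
    have h2 := card_cls M t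
    rw [cK, card_coset] at h1
    obtain ⟨m, hm⟩ := card_dvd_of_le (le_inf ((sup_le_sup_right h.VQ _).trans NK) h.syl.le :
      V ⊔ zpowers t ≤ K ⊓ C1[t])
    obtain ⟨i, hi⟩ := h.pQ.exists_card_eq
    obtain ⟨j, hj⟩ := h.syl.pg.exists_card_eq
    have h3 : #Q * #(V ⊔ zpowers t : Subgroup G) ∣ #M := Nat.Coprime.dvd_of_dvd_mul_right (k := _) (n := M.relIndex K)
      (by rw [hi, hj, ← pow_add]; exact ((Nat.Prime.coprime_iff_not_dvd Nat.prime_two).2 hM.not_dvd).pow_left _)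
      ⟨m, by rw [card_mul_relIndex hM.le, ← h1, hm, mul_assoc]⟩
    have h4 := (h.le2 (.refl t) (hM.pg.to_le inf_le_left) (inf_le_right : M ⊓ C1[t] ≤ _)).1
    have h5 := Nat.le_of_dvd Nat.card_pos h3
    have h6 := h.c4
    rw [card_sup_inv h.tNV h.t2 h.tV] at h5
    rw [← Nat.card_coe_set_eq, ← Nat.card_coe_set_eq, card_coset]
    exact Nat.le_of_mul_le_mul_right (c := 2 * #V) (by nlinarith) (by omega))
  obtain ⟨k, hk, e⟩ := Sylow_trans hM (pHallJnorm (ρK (mem_zpowers ρ)) hM)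
  obtain ⟨n, hn, e'⟩ := cM.ge (h.tcj hV (K2 (inv_mem hk)))
  obtain ⟨σ, hσ⟩ : ∃ σ, σ = n⁻¹ * k⁻¹ * ρ := ⟨_, rfl⟩
  have s1 : σ ∈ C1[t] := mem_cent1.2 (by
    rw [hσ, mul_assoc, mem_cent1.1 h.ρt, ← mul_assoc, ← mul_assoc, mul_left_inj,
      show n⁻¹ * k⁻¹ * t = n⁻¹ * (k⁻¹ * t * k⁻¹⁻¹) * k⁻¹ by group, e']; group)
  have s2 : σ ∈ N[M] := by
    rw [hσ, mul_assoc]
    exact mul_mem (inv_mem (normG M hn)) (mem_norm.2 (by rw [cj_mul, e, cj_inv_cj]))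
  have s3 : σ ∈ N[(Q ⊔ zpowers t : Subgroup G)] :=
    hσ ▸ mul_mem (K2 (mul_mem (inv_mem (hM.le hn)) (inv_mem hk))) (h.ρM (mem_zpowers ρ))
  have h0 : EF t V σ := hσ ▸ h.toEF.chg (K1 (mul_mem (inv_mem (hM.le hn)) (inv_mem hk))) (hσ ▸ s1)
  obtain ⟨τ, hτ⟩ : ∃ τ, τ = constt ({2} : Set ℕ)ᶜ σ := ⟨_, rfl⟩
  have od : Odd (orderOf τ) := Nat.odd_iff.2 (Nat.two_dvd_ne_zero.1
    ((p'natE Nat.prime_two).1 (hτ ▸ p_elt_constt _ σ)))
  have t1 : τ ∈ C1[t] := hτ ▸ constt_mem _ s1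
  have t2 : τ ∈ N[M] := hτ ▸ constt_mem _ s2
  have t3 : τ ∈ N[(Q ⊔ zpowers t : Subgroup G)] := hτ ▸ constt_mem _ s3
  have h1 : EF t V τ := by
    have e : τ = (constt {2} σ)⁻¹ * σ := by rw [hτ, eq_inv_mul_iff_mul_eq, consttC]
    exact e ▸ h0.chg (inv_mem (h0.cen2 (constt_mem _ s1) (constt_mem _ h0.ρN)
      (PiNat.pg (p_elt_zpowers.2 (p_elt_constt _ σ))))) (e ▸ t1)
  have h2 : C0 t V τ Q := ⟨h1, h.pQ, h.VQ, h.QV, h.tN, h.tQ, h.NQ hV al t3⟩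
  obtain ⟨m, hm, em⟩ := cM.ge (h.tcj hV g2)
  obtain ⟨f, f1, f2, f3⟩ := exists_sq (N := Q ⊔ zpowers t) hM.pg hm fun e => g3 (em ▸ by
    rcases h.memN.1 e with e | e
    · exact ⟨m, e, rfl⟩
    · refine ⟨_, conj_mem_of_norm h.tN e, ?_⟩
      rw [← mul_assoc t t, h.t2, one_mul]; group)
  have sq : ∀ x ∈ M, x * x ∈ Q := fun x hx => by
    refine (h.memN.1 ?_).resolve_right fun e => h.nsq (x := x) (al _ e) (by rw [← mul_assoc t t, h.t2, one_mul])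
    rcases h2.cover (isConj_iff.2 ⟨f, rfl⟩) (h.tcj hV (K2 (hM.le f1))) (fun e => f2 (h.clN hM.pg NM f1 e))
      (h.tcj hV (K2 (hM.le hx))) with e | ⟨j, a, ha, e⟩
    · exact mul_mem (h.clN hM.pg NM hx e) (h.clN hM.pg NM hx e)
    have b1 := conj_mem_of_norm (pow_mem t2 j) f1
    have b2 := conj_mem_of_norm (pow_mem t3 j) f3
    rw [← conj_mul] at b2
    rw [show τ ^ j * (f * t * f⁻¹) * (τ ^ j)⁻¹ = τ ^ j * f * (τ ^ j)⁻¹ * (τ ^ j * t * (τ ^ j)⁻¹) *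
      (τ ^ j * f * (τ ^ j)⁻¹)⁻¹ by group, rt (pow_mem t1 j)] at e
    generalize τ ^ j * f * (τ ^ j)⁻¹ = b at b1 b2 e
    have b3 := h.cN hM.pg NM (mul_mem (inv_mem (mul_mem (NM (mem_sup_left ha)) b1)) hx)
      (cm_eq (by rw [cm, cm, e]; group))
    simpa [mul_assoc] using mul_mem (mul_mem (mul_mem (mem_sup_left ha) (conj_mem_of_norm (K2 (hM.le b1))
      (mul_mem b3 (mem_sup_left ha)))) b2) b3
  obtain ⟨A, a1, a2, a3, -⟩ := ZD.exists_index_two (le_sup_left.trans NM) sq (NM h.tM) h.tQ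
  let χ : G → ℤˣ := fun x => if x ∈ A then 1 else -1
  let Φ : G → ℤˣ := fun x => ∏ i ∈ Finset.range (orderOf τ), χ (τ ^ i * x * (τ ^ i)⁻¹)
  have mχ : ∀ a ∈ M, ∀ b ∈ M, χ (a * b) = χ a * χ b := fun a ha b hb => by
    simp only [χ, Invol.mul_mem_iff_of_relIndex_two a3 ha hb]
    by_cases e : a ∈ A <;> by_cases e' : b ∈ A <;> simp [e, e']
  have mΦ : ∀ a ∈ M, ∀ b ∈ M, Φ (a * b) = Φ a * Φ b := fun a ha b hb => by
    simp only [Φ, ← Finset.prod_mul_distrib, ← conj_mul]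
    exact Finset.prod_congr rfl fun i _ => mχ _ (conj_mem_of_norm (pow_mem t2 i) ha) _ (conj_mem_of_norm (pow_mem t2 i) hb)
  have qΦ : ∀ a ∈ Q, Φ a = 1 := fun a ha =>
    Finset.prod_eq_one fun i _ => if_pos (a1 (conj_mem_of_norm (pow_mem h2.ρQ i) ha))
  have tΦ : Φ t = -1 := by simp [Φ, rt (pow_mem t1 _), χ, a2, od.neg_one_pow]
  have cΦ : ∀ a, Φ (τ * a * τ⁻¹) = Φ a := fun a => by
    have e1 := Finset.prod_range_succ (fun i => χ (τ ^ i * a * (τ ^ i)⁻¹)) (orderOf τ)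
    rw [Finset.prod_range_succ', pow_orderOf_eq_one, pow_zero, mul_left_inj] at e1
    refine Eq.trans (Finset.prod_congr rfl fun i _ => ?_) e1
    rw [pow_succ]; congr 1; group
  let Q' : Subgroup G :=
    { carrier := {x | x ∈ M ∧ Φ x = 1}
      one_mem' := ⟨one_mem _, qΦ _ (one_mem _)⟩
      mul_mem' := fun {a b} ha hb => ⟨mul_mem ha.1 hb.1, by rw [mΦ a ha.1 b hb.1, ha.2, hb.2, mul_one]⟩
      inv_mem' := fun {a} ha => ⟨inv_mem ha.1, by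
        have := mΦ a ha.1 _ (inv_mem ha.1)
        rwa [mul_inv_cancel, qΦ _ (one_mem _), ha.2, one_mul, eq_comm] at this⟩ }
  have QQ : Q ≤ Q' := fun a ha => ⟨NM (mem_sup_left ha), qΦ a ha⟩
  have tM := NM h.tM
  refine ⟨τ, Q', ⟨h1, hM.pg.to_le fun a ha => ha.1, h.VQ.trans QQ, fun a ha => K1 (hM.le ha.1),
    mem_normalizer_fintype fun a ha => ⟨mul_mem (mul_mem tM ha.1) (inv_mem tM), ?_⟩, fun e => by simpa [tΦ] using e.2,
    mem_normalizer_fintype fun a ha => ⟨conj_mem_of_norm t2 ha.1, (cΦ a).trans ha.2⟩⟩,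
    proper_card (lt_of_le_of_ne QQ fun e => f2 (h.memN.2 ?_))⟩
  · rw [inv2 h.t2, mΦ _ (mul_mem tM ha.1) _ tM, mΦ _ tM _ ha.1, ha.2, tΦ]; simp
  · rw [e]
    exact (Int.units_eq_one_or (Φ f)).imp (fun e => ⟨f1, e⟩) fun e =>
      ⟨mul_mem tM f1, by rw [mΦ _ tM _ f1, tΦ, e]; simp⟩

end C0

theorem chain (h : EF t V ρ) (hV : ∀ v ∈ V, ¬ IsConj t v) : ∃ ρ' Q, CQ t V ρ' Q ∧
    ((SylowIn 2 (Q ⊔ zpowers t) ⊤ ∧ (One t Q ∨ All t Q)) ∨ Beta t V Q) := by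
  have := Fact.mk Nat.prime_two
  obtain ⟨⟨σ, Q⟩, h1, mx⟩ := Set.exists_max_image {p : G × Subgroup G | C0 t V p.1 p.2} (fun p => #p.2)
    (Set.toFinite _) ⟨⟨ρ, V⟩, h, h.syl.pg.to_le le_sup_left, le_rfl, le_cent_iff.2 fun _ a _ b => h.cV a b, h.tNV,
      h.tV, h.ρN⟩
  have h1 : C0 t V σ Q := h1
  refine ⟨σ, Q, ⟨h1.toEF, h1.pQ, h1.VQ, h1.QV, h1.tN, h1.tQ, h1.ρQ, h1.nc hV⟩, ?_⟩
  by_cases hS : SylowIn 2 (Q ⊔ zpowers t) ⊤
  · exact .inl ⟨hS, h1.dich⟩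
  refine .inr ⟨h1.dich.resolve_left fun o => ?_, hS, fun g g1 g2 => by_contra fun n => ?_⟩
  · obtain ⟨T, hT, l⟩ := Sylow_superset le_top h1.pN
    obtain ⟨g, ⟨g1, g2⟩, g3⟩ := SetLike.exists_of_lt
      (nilpotent_proper_norm (pgroup_nil hT.pg) (lt_of_le_of_ne l fun e => hS (e ▸ hT)))
    have e : t * (t * (g * t * g⁻¹)) = g * t * g⁻¹ := by rw [← mul_assoc, h.t2, one_mul]
    exact g3 (h1.clN hT.pg l g1 (e ▸ o _ (h1.tcj hV g2) (e.symm ▸ isConj_iff.2 ⟨_, rfl⟩)))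
  · have al := h1.dich.resolve_left fun o => by
      have e : t * (t * (g * t * g⁻¹)) = g * t * g⁻¹ := by rw [← mul_assoc, h.t2, one_mul]
      exact n (e ▸ o _ (h1.tcj hV g2) (e.symm ▸ isConj_iff.2 ⟨_, rfl⟩))
    obtain ⟨τ, Q', h2, lt⟩ := h1.step hV al g1 g2 n
    exact lt.not_ge (mx ⟨τ, Q'⟩ h2)

end Cfsg.Agent.JT2
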