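import Cfsg.Agent.JT2.B

/-! The chain, part 1: no conjugate of `t` lies in `Q`. -/

set_option autoImplicit false
set_option linter.unusedSectionVars false

namespace Cfsg.Agent.JT2

open Cfsg.Agent.BG Subgroup

variable {G : Type*} [Group G] [Finite G] {t ρ x y g r u a w : G} {V Q P B A N : Subgroup G}

structure C0 (t : G) (V : Subgroup G) (ρ : G) (Q : Subgroup G) : Prop extends EF t V ρ where
  pQ : IsPGroup 2 Q
  VQ : V ≤ Q
  QV : Q ≤ C[V]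
  tN : t ∈ N[Q]
  tQ : t ∉ Q
  ρQ : ρ ∈ N[Q]

theorem CQ.c0 (h : CQ t V ρ Q) : C0 t V ρ Q := ⟨h.toEF, h.pQ, h.VQ, h.QV, h.tN, h.tQ, h.ρQ⟩

/-- elements of `P` whose commutators with `Y` lie in `A` -/
def Lay (P A : Subgroup G) (Y : Set G) (n : P ≤ N[A]) : Subgroup G where
  carrier := {g | g ∈ P ∧ ∀ y ∈ Y, g * y * g⁻¹ * y⁻¹ ∈ A}
  one_mem' := ⟨one_mem _, fun y _ => by simp⟩
  mul_mem' := fun {a b} ha hb => ⟨mul_mem ha.1 hb.1, fun y hy => by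
    simpa [mul_assoc] using mul_mem (conj_mem_of_norm (n ha.1) (hb.2 y hy)) (ha.2 y hy)⟩
  inv_mem' := fun {a} ha => ⟨inv_mem ha.1, fun y hy => by
    simpa [mul_assoc] using conj_mem_of_norm' (n ha.1) (inv_mem (ha.2 y hy))⟩

theorem lay_norm (n : P ≤ N[A]) (h1 : g ∈ N[P]) (h2 : g ∈ N[A]) (h3 : g ∈ N[N]) : g ∈ N[Lay P A N n] :=
  mem_normalizer_fintype fun a ha => ⟨conj_mem_of_norm h1 ha.1, fun y hy => by
    simpa [mul_assoc] using conj_mem_of_norm h2 (ha.2 _ (conj_mem_of_norm' h3 hy))⟩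

theorem le_lay (n : P ≤ N[A]) (h1 : A ≤ P) (h2 : N ≤ N[A]) : A ≤ Lay P A N n := fun a ha =>
  ⟨h1 ha, fun y hy => by simpa [mul_assoc] using mul_mem ha (conj_mem_of_norm (h2 hy) (inv_mem ha))⟩

theorem ex_lay (hN : IsPGroup 2 N) (QN : Q ⊴ N) (n : N ≤ N[A]) (hx : x ∈ Q) (h : x ∉ A) :
    ∃ g ∈ Lay Q A N (QN.le.trans n), g ∉ A := by
  have := Fact.mk Nat.prime_two
  have := normal_subgroupOf_of_le_normalizer n
  let π := QuotientGroup.mk' (A.subgroupOf N)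
  have := Normal.map QN.subgroupOf π (QuotientGroup.mk'_surjective _)
  obtain ⟨⟨_, ⟨g, hg, rfl⟩, h2⟩, h3⟩ := ne_bot_iff_exists_ne_one.1 (meet_center_nil (M := ⊤)
    (pgroup_nil ((hN.to_quotient _).to_subgroup ⊤)) (normal_top ((Q.subgroupOf N).map π)) fun e => h (by
      have : π ⟨x, QN.le hx⟩ = 1 := mem_bot.1 (e ▸ mem_map_of_mem π hx)
      exact mem_subgroupOf.1 ((QuotientGroup.eq_one_iff (N := A.subgroupOf N) _).1 this)))
  refine ⟨g, ⟨hg, fun y hy => ?_⟩, fun e => h3 (Subtype.ext ((QuotientGroup.eq_one_iff _).2 e))⟩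
  have e := mem_cent.1 h2.2 (π ⟨y, hy⟩) (mem_top _)
  have : π (g * ⟨y, hy⟩ * g⁻¹ * ⟨y, hy⟩⁻¹) = 1 := by simp only [map_mul, map_inv, ← e]; simp
  exact mem_subgroupOf.1 ((QuotientGroup.eq_one_iff (N := A.subgroupOf N) _).1 this)

theorem two_le_lt (h : A < B) : 2 * #A ≤ #B := by
  obtain ⟨k, hk⟩ := card_dvd_of_le h.le
  have := Nat.card_pos (α := B)
  have : k ≠ 1 := fun e => h.ne (eq_of_le_of_card_ge h.le (by rw [hk, e, mul_one]))
  rcases k with _ | _ | k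
  · omega
  · omega
  · rw [hk]; nlinarith

/-- the commutator with `t` -/
def cm (t g : G) : G := g * t * g⁻¹ * t⁻¹

theorem cm_cj (h : r ∈ C1[t]) : cm t (r * g * r⁻¹) = r * cm t g * r⁻¹ := by
  have : r * t * r⁻¹ = t := mul_inv_eq_iff_eq_mul.2 (mem_cent1.1 h)
  conv_lhs => rw [← this]
  simp [cm, mul_assoc]

theorem cm_r (h : r ∈ C1[t]) : cm t (g * r) = cm t g := by
  rw [cm, mul_assoc g, mem_cent1.1 h, cm]; group

theorem cm_mul (a b : G) : cm t (a * b) = a * cm t b * a⁻¹ * cm t a := by simp [cm, mul_assoc]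

theorem cm_eq (h : cm t a = cm t g) : a⁻¹ * g * t = t * (a⁻¹ * g) := by
  have : g * t * g⁻¹ = a * t * a⁻¹ := mul_right_cancel h.symm
  rw [show a⁻¹ * g * t = a⁻¹ * (g * t * g⁻¹) * g by group, this]; group

namespace C0
variable (h : C0 t V ρ Q)
include h

theorem memN : x ∈ Q ⊔ zpowers t ↔ x ∈ Q ∨ t * x ∈ Q := mem_sup_inv h.tN h.t2
theorem QN : Q ⊴ Q ⊔ zpowers t := normalYl (zpowers_le.2 h.tN)
theorem pN : IsPGroup 2 (Q ⊔ zpowers t : Subgroup G) :=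
  have := Fact.mk Nat.prime_two
  pgroup_sup (.inr (zpowers_le.2 h.tN)) h.pQ (pg2 h.t2)
theorem NV : Q ⊔ zpowers t ≤ C[V] := sup_le h.QV (zpowers_le.2 (le_cent1_iff.1 h.Vt))
theorem tM : t ∈ Q ⊔ zpowers t := mem_sup_right (mem_zpowers t)
theorem ρM : zpowers ρ ≤ N[(Q ⊔ zpowers t : Subgroup G)] :=
  normsY (zpowers_le.2 h.ρQ) ((zpowers_le.2 h.ρt).trans (cent1_le_norm_zpowers t))
theorem ky (hy : IsConj t y) (h1 : t * y ∈ Q) (hx : x ∈ Q) (e : x * y = y * x) : x ∈ V := by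
  have n : y ∉ Q := fun e => h.tQ (by simpa using mul_mem h1 (inv_mem e))
  exact (h.k2 hy (fun e => n (h.VQ e)) (le_cent1_iff.2 (h.NV (h.memN.2 (.inr h1)))) h.pN (h.VQ.trans le_sup_left)
    (h.memN.2 (.inr h1)) (mem_sup_left hx) e).resolve_right fun e => n (by simpa using mul_mem (h.VQ e) (inv_mem hx))
theorem kQ (hx : x ∈ Q) (e : x * t = t * x) : x ∈ V := h.ky (IsConj.refl t) (h.t2 ▸ one_mem _) hx e

theorem cfix (hr : r ∈ zpowers ρ) (n : r ∉ C[V]) (hx : x ∈ Q ⊔ zpowers t) (e : r * x = x * r) : x = 1 ∨ x = t := by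
  have := Fact.mk Nat.prime_two
  have rt := mem_cent1.1 (zpowers_le.2 h.ρt hr)
  have tn : zpowers t ≤ N[(Q ⊓ C1[r] : Subgroup G)] :=
    normsI (zpowers_le.2 h.tN) (norms_cent1 (zpowers_le.2 (mem_cent1.2 rt.symm)))
  have key : Q ⊓ C1[r] = ⊥ := by_contra fun ne => by
    obtain ⟨⟨b, h1, h2⟩, h3⟩ := ne_bot_iff_exists_ne_one.1 (meet_center_nil
      (pgroup_nil (pgroup_sup (.inr tn) (h.pQ.to_le inf_le_left) (pg2 h.t2))) (normalYl tn) ne)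
    exact h3 (Subtype.ext (h.fpf hr n (h.kQ h1.1 (mem_cent.1 h2.2 t (mem_sup_right (mem_zpowers t))).symm)
      (mem_cent1.1 h1.2).symm))
  rcases h.memN.1 hx with e1 | e1
  · exact .inl (mem_bot.1 (key ▸ ⟨e1, mem_cent1.2 e.symm⟩))
  · have : t * x = 1 := mem_bot.1 (key ▸ ⟨e1, mem_cent1.2 (by rw [mul_assoc, ← e, ← mul_assoc, ← rt, mul_assoc])⟩)
    exact .inr ((eq_inv_of_mul_eq_one_right this).trans (inv2 h.t2))

theorem sur (f : G → G) (f1 : f 1 = 1) (hB : ρ ∈ N[B]) (hf : ∀ r ∈ C1[t], ∀ b, f (r * b * r⁻¹) = r * f b * r⁻¹)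
    (hg : g ∈ B) (h1 : f g ∈ V) (h2 : f g ≠ 1) (v : G) (hv : v ∈ V) : ∃ b ∈ B, f b = v := by
  by_cases e : v = 1
  · exact ⟨1, one_mem _, f1.trans e.symm⟩
  obtain ⟨k, rfl⟩ := h.tr _ h1 v hv h2 e
  exact ⟨_, conj_mem_of_norm (pow_mem hB k) hg, hf _ (pow_mem h.ρt k) _⟩

theorem cmV (ha : a ∈ Q) (hg : g ∈ Q) (e : cm t a = cm t g) : a⁻¹ * g ∈ V := h.kQ (mul_mem (inv_mem ha) hg) (cm_eq e)
theorem cm1 (hg : g ∈ Q) (e : cm t g = 1) : g ∈ V := by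
  simpa using h.cmV (one_mem _) hg (by rw [e]; simp [cm])

theorem nc (hV : ∀ v ∈ V, ¬ IsConj t v) (x : G) (hx : x ∈ Q) : ¬ IsConj t x := fun c => by
  have xV : x ∉ V := fun e => hV x e c
  have x2 := h.cj2 c
  have c1 : cm t 1 = 1 := by simp [cm]
  have nV : Q ⊔ zpowers t ≤ N[V] := cents_norm h.NV
  obtain ⟨U, hU⟩ : ∃ U, U = Lay Q V (Q ⊔ zpowers t : Subgroup G) (h.QN.le.trans nV) := ⟨_, rfl⟩
  obtain ⟨u0, a1, a2⟩ := ex_lay h.pN h.QN nV hx xV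
  rw [← hU] at a1
  have UQ : U ≤ Q := fun a ha => (hU ▸ ha).1
  have uV : ∀ u ∈ U, cm t u ∈ V := fun a ha => (hU ▸ ha).2 t h.tM
  have VU : V ≤ U := hU ▸ le_lay _ h.VQ nV
  have ρU : zpowers ρ ≤ N[U] := fun r hr => hU ▸ lay_norm _ (zpowers_le.2 h.ρQ hr) (zpowers_le.2 h.ρN hr) (h.ρM hr)
  have nU : Q ⊔ zpowers t ≤ N[U] := fun r hr => hU ▸ lay_norm _ (h.QN.norm hr) (nV hr) (normG _ hr)
  have s1 := h.sur (cm t) c1 (ρU (mem_zpowers ρ)) (fun r hr b => cm_cj hr) a1 (uV _ a1) fun e => a2 (h.cm1 (UQ a1) e)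
  have kx : ∀ g ∈ Q ⊔ zpowers t, g * x = x * g → g ∈ V ∨ x * g ∈ V := fun g hg e =>
    h.k2 c xV (le_cent1_iff.2 (h.QV hx)) h.pN (h.VQ.trans le_sup_left) (mem_sup_left hx) hg e
  have xU : x ∉ U := fun xU => by
    have n1 : cm t x ≠ 1 := fun e => xV (h.cm1 hx e)
    have sq : ∀ u ∈ U, u * u = 1 := fun u hu => by
      by_cases e : cm t u = 1
      · exact h.eV _ (h.cm1 (UQ hu) e)
      obtain ⟨k, hk⟩ := h.tr _ (uV x xU) _ (uV u hu) n1 e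
      have h1 := conj_mem_of_norm (pow_mem h.ρQ k) hx
      have h2 := h.cmV h1 (UQ hu) ((cm_cj (pow_mem h.ρt k)).trans hk)
      generalize hy : ρ ^ k * x * (ρ ^ k)⁻¹ = y at h1 h2
      have h3 : y * y = 1 := by rw [← hy, conj_mul, x2, mul_one, mul_inv_cancel]
      rw [show u = y * (y⁻¹ * u) by group, mul_assoc, ← mul_assoc (y⁻¹ * u), mem_cent.1 (h.QV h1) _ h2, mul_assoc y,
        h.eV _ h2, mul_one, h3]
    obtain ⟨v, hv, v1, v2, -⟩ := h.ex3 (cm t x) 1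
    obtain ⟨u, hu, rfl⟩ := s1 v hv
    rcases kx u (mem_sup_left (UQ hu)) (by
      rw [← inv2 (sq _ (mul_mem hu xU)), mul_inv_rev, inv2 x2, inv2 (sq u hu)]) with e | e
    · exact v1 (by simpa [c1] using cm_r (g := 1) (h.Vt e))
    · refine v2 ?_
      rw [show u = x * (x * u) by rw [← mul_assoc, x2, one_mul], cm_r (h.Vt e)]
  obtain ⟨W, hW⟩ : ∃ W, W = Lay Q U (Q ⊔ zpowers t : Subgroup G) (h.QN.le.trans nU) := ⟨_, rfl⟩
  obtain ⟨g0, b1, b2⟩ := ex_lay h.pN h.QN nU hx xU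
  rw [← hW] at b1
  have WQ : W ≤ Q := fun a ha => (hW ▸ ha).1
  have wU : ∀ u ∈ W, cm t u ∈ U := fun a ha => (hW ▸ ha).2 t h.tM
  have s2 := h.sur (B := W) (fun g => cm t (cm t g)) (by simp only [c1])
    (hW ▸ lay_norm _ h.ρQ (ρU (mem_zpowers ρ)) (h.ρM (mem_zpowers ρ))) (fun r hr b => by simp only [cm_cj hr]) b1
    (uV _ (wU _ b1)) fun e => b2 (by
      obtain ⟨u, hu, e'⟩ := s1 _ (h.cm1 (UQ (wU _ b1)) e)
      simpa using mul_mem hu (VU (h.cmV (UQ hu) (WQ b1) e')))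
  have ti : ∀ u ∈ U, t * u * t⁻¹ = u⁻¹ := fun u hu => by
    obtain ⟨g, hg, e⟩ := s2 _ (uV u hu)
    have h1 := h.cmV (UQ (wU g hg)) (UQ hu) e
    obtain ⟨u', hu', e'⟩ := s1 _ h1
    have h2 : u * t = g * u' * t * (g * u')⁻¹ := by
      have := cm_mul (t := t) g u'
      rw [e', conj_eq_of_cent (h.QV (WQ hg)) h1, mem_cent.1 (h.QV (UQ (wU g hg))) _ h1, mul_inv_cancel_left] at this
      rw [← this, cm]; group
    have h3 : u * t * (u * t) = 1 := h.cj2 (h2 ▸ isConj_iff.2 ⟨_, rfl⟩)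
    rw [inv2 h.t2, eq_inv_iff_mul_eq_one, show t * u * t * u = u⁻¹ * (u * t * (u * t)) * u by group, h3]; group
  have ab : ∀ a ∈ U, ∀ b ∈ U, a * b = b * a := fun a ha b hb => by
    have := ti _ (mul_mem ha hb)
    rw [← conj_mul, ti a ha, ti b hb, ← mul_inv_rev, inv_inj] at this
    exact this.symm
  have cW : #U * #V ≤ #W := by
    choose! s s3 s4 using s2
    rw [← Nat.card_prod]
    have k : ∀ u ∈ U, ∀ v ∈ V, cm t (cm t (u * s v)) = v := fun u hu v hv => by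
      rw [cm_mul u, ab u hu _ (wU _ (s3 v hv)), mul_inv_cancel_right, cm_r (h.Vt (uV u hu)), s4 v hv]
    refine Nat.card_le_card_of_injective (fun p : U × V => (⟨p.1 * s p.2, mul_mem
      ((hW ▸ le_lay _ UQ nU : U ≤ W) p.1.2) (s3 _ p.2.2)⟩ : W)) fun p q e => ?_
    have e1 : (p.1 : G) * s p.2 = q.1 * s q.2 := congrArg (·.1) e
    have e2 : p.2 = q.2 := Subtype.ext (by rw [← k _ p.1.2 _ p.2.2, e1, k _ q.1.2 _ q.2.2])
    exact Prod.ext (Subtype.ext (mul_right_cancel (e2 ▸ e1))) e2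
  have WL : W < Lay (Q ⊔ zpowers t) U {x} nU := by
    refine lt_of_le_of_ne (fun g hg => ⟨mem_sup_left (WQ hg), fun y hy => hy ▸ (hW ▸ hg).2 x (mem_sup_left hx)⟩)
      fun e => h.tQ (WQ (e ▸ ⟨h.tM, fun y hy => ?_⟩))
    have : x ∈ W := e ▸ ⟨mem_sup_left hx, fun y hy => by rw [hy]; simp⟩
    rw [hy]
    simpa [cm, mul_assoc] using inv_mem (wU x this)
  have nx : x ∈ N[V] := cent_sub _ (h.QV hx)
  have cL := MacW.fib (Lay (Q ⊔ zpowers t) U {x} nU) (fun g => g * x * g⁻¹ * x⁻¹)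
    {u | u ∈ U ∧ x * u * x⁻¹ = u⁻¹} (V ⊔ zpowers x : Subgroup G) (fun g hg => ⟨hg.2 x rfl, by
      simp only [mul_inv_rev, inv_inv, inv2 x2, mul_assoc, x2, mul_one]⟩) fun a ha b hb e =>
    (mem_sup_inv nx x2).2 (kx _ (mul_mem (inv_mem ha.1) hb.1) (cm_eq e))
  have c2 : Nat.card ((V ⊔ zpowers x : Subgroup G) : Set G) = 2 * #V := card_sup_inv nx x2 xV
  have xi : {u | u ∈ U ∧ x * u * x⁻¹ = u⁻¹} = (U : Set G) := Set.eq_of_subset_of_ncard_le (fun u hu => hu.1) (by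
    have := two_le_lt WL
    have h4 := h.c4
    rw [c2] at cL
    exact Nat.le_of_mul_le_mul_right (c := 2 * #V) (a := #U) (by
      change _ ≤ Nat.card {u | u ∈ U ∧ x * u * x⁻¹ = u⁻¹} * _; nlinarith) (by omega))
  have tx : t * x ∈ C[U] := mem_cent.2 fun u hu => by
    have e : x * u * x⁻¹ = u⁻¹ := (xi.ge hu).2
    rw [eq_comm, ← mul_inv_eq_iff_eq_mul, show t * x * u * (t * x)⁻¹ = t * (x * u * x⁻¹) * t⁻¹ by group, e,
      ti _ (inv_mem hu), inv_inv]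
  obtain ⟨p, hp, p2, r, r1, r2, r3⟩ := h.exr (mem_zpowers ρ) h.ρC
  have := Fact.mk hp
  have := Fact.mk Nat.prime_two
  obtain ⟨d, ⟨d1, d2⟩, d3⟩ := fixp r2 {d | t * d ∈ Q ∧ d ∈ C[U]} (fun d hd => ⟨by
    have := conj_mem_of_norm (zpowers_le.2 h.ρQ r1) hd.1
    rwa [← conj_mul, mul_inv_eq_iff_eq_mul.2 (mem_cent1.1 (zpowers_le.2 h.ρt r1))] at this,
    conj_mem_of_norm (norms_cent ρU r1) hd.2⟩) (by
      have e : Nat.card {d | t * d ∈ Q ∧ d ∈ C[U]} = #(Q ⊓ C[U] : Subgroup G) := Nat.card_congr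
        ((Equiv.mulLeft (t * x)⁻¹).subtypeEquiv fun d => by
          change _ ∧ _ ↔ (t * x)⁻¹ * d ∈ Q ∧ (t * x)⁻¹ * d ∈ C[U]
          rw [mul_mem_cancel_left (inv_mem tx), mul_inv_rev, mul_assoc, mul_mem_cancel_left (inv_mem hx), inv2 h.t2])
      obtain ⟨k, hk⟩ := (h.pQ.to_le (inf_le_left : Q ⊓ C[U] ≤ Q)).exists_card_eq
      rw [e, hk]
      exact fun e => p2 ((Nat.prime_dvd_prime_iff_eq hp Nat.prime_two).1 (hp.dvd_of_dvd_pow e)))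
  rcases h.cfix r1 r3 (h.memN.2 (.inr d1)) d3 with rfl | rfl
  · exact h.tQ (by simpa using d1)
  · exact a2 (h.kQ (UQ a1) (mem_cent.1 d2 _ a1))

end C0

end Cfsg.Agent.JT2
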