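import Cfsg.Agent.JT2.A

/-! Lifting the frames `EF`, `DF` from `C(t)/O` (`O` of odd order) to `G` (`EF.lift`, `DF.lift`). -/

set_option autoImplicit false
set_option linter.unusedSectionVars false

namespace Cfsg.Agent.JT2

open Cfsg.Agent.BG Subgroup

section
variable {X Y : Type*} [Group X] [Finite X] [Group Y] [Finite Y] {f : X →* Y} {P U : Subgroup X} {t : X}

theorem inj_two (ho : Odd #f.ker) (hP : IsPGroup 2 P) {a b : X} (ha : a ∈ P) (hb : b ∈ P) (e : f a = f b) : a = b :=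
  mul_inv_eq_one.1 (Invol.eq_one_of_odd_of_mem_isPGroup hP (mul_mem ha (inv_mem hb))
    (Invol.odd_orderOf_of_mem ho (by rw [MonoidHom.mem_ker, map_mul, map_inv, e, mul_inv_cancel])))

theorem exists_syl (hs : Function.Surjective f) {S : Subgroup Y} (hS : SylowIn 2 S ⊤) :
    ∃ P, SylowIn 2 P ⊤ ∧ P.map f = S := by
  have := Nat.fact_prime_two
  obtain ⟨P, hP, -⟩ := Sylow_superset (p := 2) (bot_le (a := (⊤ : Subgroup X))) IsPGroup.of_bot
  have h1 := pHall_map f hP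
  rw [map_top_of_surjective f hs] at h1
  obtain ⟨y, -, e⟩ := Sylow_trans h1 hS
  obtain ⟨g, rfl⟩ := hs y
  exact ⟨cj g P, by simpa using pHallJ g hP, by rw [e, map_cj]⟩

theorem lift_norm (hs : Function.Surjective f) (ho : Odd #f.ker) (hU : IsPGroup 2 U) {y : Y} (hy : y ∈ N[U.map f]) :
    ∃ g ∈ N[U], f g = y := by
  have := Nat.fact_prime_two
  obtain ⟨g, rfl⟩ := hs y
  obtain ⟨P, hP, hle⟩ := Sylow_superset (le_comap_map f U) hU
  obtain rfl : U = P := le_antisymm hle fun x hx => by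
    obtain ⟨u, hu, e⟩ := hP.le hx
    exact inj_two ho hP.pg (hle hu) hx e ▸ hu
  obtain ⟨w, ⟨u, hu, e⟩, h1⟩ := Sylow_Jsub hP (Q := cj g U)
    (map_le_iff_le_comap.1 (by rw [map_cj, cj_of_norm hy])) (by simpa using (pHallJ g hP).pg)
  exact ⟨u⁻¹ * (w * g), mul_mem (normG U (inv_mem hu)) (mem_norm_of_cj_le (by rwa [cj_mul])), by simp [e]⟩

theorem cent_top (tc : ∀ g, g * t = t * g) : C1[t] = ⊤ := eq_top_iff.2 fun g _ => mem_cent1.2 (tc g)

theorem cent_top' (hs : Function.Surjective f) (tc : ∀ g, g * t = t * g) : C1[f t] = ⊤ :=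
  cent_top fun y => by obtain ⟨g, rfl⟩ := hs y; rw [← map_mul, tc, map_mul]

theorem mem_syl (t2 : t * t = 1) (tc : ∀ g, g * t = t * g) (hP : SylowIn 2 P ⊤) : t ∈ P := by
  have := Nat.fact_prime_two
  obtain ⟨g, -, h⟩ := Sylow_Jsub hP (le_top (a := zpowers t)) (Invol.isPGroup_zpowers (n := 1) (by simpa [pow_two] using t2))
  simpa [tc g] using h (conj_mem_cj g (mem_zpowers t))

theorem EF.lift0 (hs : Function.Surjective f) (ho : Odd #f.ker) (t2 : t * t = 1) (tc : ∀ g, g * t = t * g)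
    {V : Subgroup Y} {ρ : Y} (h : EF (f t) V ρ) : ∃ V' ρ', EF t V' ρ' := by
  obtain ⟨P, hP, e⟩ := exists_syl hs (cent_top' hs tc ▸ h.syl)
  have tP := mem_syl t2 tc hP
  have i := fun {a b : X} => inj_two (a := a) (b := b) ho hP.pg
  have m : (P ⊓ V.comap f).map f = V := le_antisymm (map_le_iff_le_comap.2 inf_le_right) fun v hv => by
    obtain ⟨x, hx, rfl⟩ := e.ge (mem_sup_left hv)
    exact ⟨x, ⟨hx, hv⟩, rfl⟩
  obtain ⟨r, hr, rfl⟩ := lift_norm hs ho (hP.pg.to_le (inf_le_left (b := V.comap f))) (m.symm ▸ h.ρN)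
  refine ⟨P ⊓ V.comap f, r, t2, fun c => h.tV c.2, fun v hv => i (mul_mem hv.1 hv.1) (one_mem P) ?_, ?_,
    (cent_top tc).ge.trans' le_top, ?_, (cent_top tc).ge trivial, hr, fun u hu v hv u1 v1 => ?_, fun g _ hg => ?_⟩
  · rw [map_mul, map_one, h.eV _ hv.2]
  · exact h.c4.trans ((congrArg (fun A : Subgroup Y => #A) m).ge.trans (Nat.le_of_dvd Nat.card_pos (card_map_dvd _ f)))
  · rw [cent_top tc]
    convert hP using 1
    refine le_antisymm (sup_le inf_le_left (zpowers_le.2 tP)) fun x hx => ?_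
    have : f x ∈ (P ⊓ V.comap f ⊔ zpowers t).map f := by
      rw [Subgroup.map_sup, m, MonoidHom.map_zpowers, ← e]; exact mem_map_of_mem f hx
    obtain ⟨y, hy, e1⟩ := this
    exact i (sup_le inf_le_left (zpowers_le.2 tP) hy) hx e1 ▸ hy
  · obtain ⟨k, hk⟩ := h.tr _ hu.2 _ hv.2 (fun c => u1 (i hu.1 (one_mem P) (c.trans (map_one f).symm)))
      fun c => v1 (i hv.1 (one_mem P) (c.trans (map_one f).symm))
    exact ⟨k, i (conj_mem_of_norm (pow_mem hr k) hu).1 hv.1 (by simpa using hk)⟩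
  · obtain ⟨k, hk⟩ := h.nρ (f g) ((cent_top' hs tc).ge trivial) (m ▸ le_normalizer_map f (mem_map_of_mem f hg))
    exact ⟨k, fun v hv => i (conj_mem_of_norm (mul_mem (mul_mem hg hr) (inv_mem hg)) hv).1
      (conj_mem_of_norm (pow_mem hr k) hv).1 (by simpa using hk _ hv.2)⟩

theorem DF.lift0 (hs : Function.Surjective f) (ho : Odd #f.ker) (t2 : t * t = 1) (tc : ∀ g, g * t = t * g)
    {c s : Y} {n : ℕ} (h : DF (f t) c s n) : ∃ c' s', DF t c' s' n := by
  obtain ⟨P, hP, e⟩ := exists_syl hs (cent_top' hs tc ▸ h.syl)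
  have tP := mem_syl t2 tc hP
  have i := fun {a b : X} => inj_two (a := a) (b := b) ho hP.pg
  obtain ⟨c, hc, rfl⟩ := e.ge (mem_sup_left (mem_sup_left (mem_zpowers c)))
  obtain ⟨s, hs', rfl⟩ := e.ge (mem_sup_left (mem_sup_right (mem_zpowers s)))
  have le : zpowers c ⊔ zpowers s ⊔ zpowers t ≤ P :=
    sup_le (sup_le (zpowers_le.2 hc) (zpowers_le.2 hs')) (zpowers_le.2 tP)
  refine ⟨c, s, t2, ?_, i (mul_mem hs' hs') (one_mem P) (by simpa using h.s2),
    i (mul_mem (mul_mem hs' hc) (inv_mem hs')) (inv_mem hc) (by simpa using h.sc),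
    fun m => h.sC (MonoidHom.map_zpowers f c ▸ mem_map_of_mem f m), fun m => h.tD ?_,
    (cent_top tc).ge trivial, (cent_top tc).ge trivial, ?_, fun k => ?_⟩
  · rw [← h.oc]
    exact Nat.dvd_antisymm (orderOf_dvd_of_pow_eq_one (i (pow_mem hc _) (one_mem P)
      (by rw [map_pow, pow_orderOf_eq_one, map_one]))) (orderOf_map_dvd f c)
  · simpa [Subgroup.map_sup] using mem_map_of_mem f m
  · rw [cent_top tc]
    convert hP using 1
    refine le_antisymm le fun x hx => ?_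
    have : f x ∈ (zpowers c ⊔ zpowers s ⊔ zpowers t).map f := by
      simp only [Subgroup.map_sup, MonoidHom.map_zpowers, ← e]; exact mem_map_of_mem f hx
    obtain ⟨y, hy, e1⟩ := this
    exact i (le hy) hx e1 ▸ hy
  · obtain ⟨ρ, -, h1, h2⟩ := h.fus k
    have m1 := pow_mem hc (2 ^ (n + 1))
    have m2 := mul_mem (pow_mem hc k) hs'
    have le' : zpowers (c ^ 2 ^ (n + 1)) ⊔ zpowers (c ^ k * s) ≤ P := sup_le (zpowers_le.2 m1) (zpowers_le.2 m2)
    obtain ⟨r, hr, rfl⟩ := lift_norm hs ho (hP.pg.to_le le') (y := ρ) (mem_norm_of_cj_le (by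
      simp only [Subgroup.map_sup, MonoidHom.map_zpowers, cj_sup, cj_zpowers, map_pow, map_mul, h1, h2]
      exact sup_le le_sup_right (zpowers_le.2 (mul_mem (mem_sup_left (mem_zpowers _)) (mem_sup_right (mem_zpowers _))))))
    exact ⟨r, (cent_top tc).ge trivial,
      i (le' (conj_mem_of_norm hr (mem_sup_left (mem_zpowers _)))) m2 (by simpa using h1),
      i (le' (conj_mem_of_norm hr (mem_sup_right (mem_zpowers _)))) (mul_mem m1 m2) (by simpa using h2)⟩

end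

variable {G : Type*} [Group G] [Finite G] {t : G}

theorem self_c (t : G) : t ∈ C1[t] := mem_cent1.2 rfl

theorem tc0 (t : G) (g : C1[t]) : g * ⟨t, self_c t⟩ = ⟨t, self_c t⟩ * g := Subtype.ext (mem_cent1.1 g.2)

theorem EF.up {V : Subgroup C1[t]} {ρ : C1[t]} (h : EF (⟨t, self_c t⟩ : C1[t]) V ρ) :
    EF t (V.map C1[t].subtype) ρ := by
  have i := C1[t].subtype_injective
  refine ⟨congrArg Subtype.val h.t2, fun m => h.tV ((mem_map_iff_mem i).1 m), ?_,
    by rw [card_map_of_injective i]; exact h.c4, map_subtype_le V, ?_, ρ.2,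
    le_normalizer_map _ (mem_map_of_mem C1[t].subtype h.ρN), ?_, fun g hg hn => ?_⟩
  · rintro _ ⟨v, hv, rfl⟩; exact congrArg Subtype.val (h.eV v hv)
  · have := pHall_map C1[t].subtype h.syl
    rwa [cent_top (tc0 t), map_subtype_top, Subgroup.map_sup, MonoidHom.map_zpowers] at this
  · rintro _ ⟨u, hu, rfl⟩ _ ⟨v, hv, rfl⟩ u1 v1
    exact (h.tr u hu v hv (fun e => u1 (congrArg Subtype.val e)) fun e => v1 (congrArg Subtype.val e)).imp
      fun k e => congrArg Subtype.val e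
  · obtain ⟨k, hk⟩ := h.nρ ⟨g, hg⟩ ((cent_top (tc0 t)).ge trivial) ((norms_map_inj (A := zpowers ⟨g, hg⟩) (B := V) i).1
      (by rw [MonoidHom.map_zpowers]; exact zpowers_le.2 hn) (mem_zpowers _))
    exact ⟨k, by rintro _ ⟨v, hv, rfl⟩; exact congrArg Subtype.val (hk v hv)⟩

theorem DF.up {c s : C1[t]} {n : ℕ} (h : DF (⟨t, self_c t⟩ : C1[t]) c s n) : DF t c s n := by
  have i := C1[t].subtype_injective
  refine ⟨congrArg Subtype.val h.t2, (orderOf_coe c).trans h.oc, congrArg Subtype.val h.s2, congrArg Subtype.val h.sc,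
    fun ⟨k, e⟩ => h.sC ⟨k, Subtype.ext e⟩, fun m => h.tD ?_, c.2, s.2, ?_, fun k => ?_⟩
  · rw [← mem_map_iff_mem i, Subgroup.map_sup, MonoidHom.map_zpowers, MonoidHom.map_zpowers]; exact m
  · have := pHall_map C1[t].subtype h.syl
    rwa [cent_top (tc0 t), map_subtype_top, Subgroup.map_sup, Subgroup.map_sup, MonoidHom.map_zpowers,
      MonoidHom.map_zpowers, MonoidHom.map_zpowers] at this
  · obtain ⟨ρ, -, h1, h2⟩ := h.fus k
    exact ⟨ρ, ρ.2, congrArg Subtype.val h1, congrArg Subtype.val h2⟩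

theorem EF.lift (t2 : t * t = 1) (O : Subgroup C1[t]) [O.Normal] (hO : Odd #O) {V : Subgroup (C1[t] ⧸ O)} {ρ : C1[t] ⧸ O}
    (h : EF (QuotientGroup.mk ⟨t, self_c t⟩ : C1[t] ⧸ O) V ρ) : ∃ V' ρ', EF t V' ρ' := by
  obtain ⟨V, ρ, h⟩ := EF.lift0 (QuotientGroup.mk'_surjective O) (by rwa [QuotientGroup.ker_mk']) (Subtype.ext t2) (tc0 t) h
  exact ⟨_, _, h.up⟩

theorem DF.lift (t2 : t * t = 1) (O : Subgroup C1[t]) [O.Normal] (hO : Odd #O) {c s : C1[t] ⧸ O} {n : ℕ}
    (h : DF (QuotientGroup.mk ⟨t, self_c t⟩ : C1[t] ⧸ O) c s n) : ∃ c' s', DF t c' s' n := by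
  obtain ⟨c, s, h⟩ := DF.lift0 (QuotientGroup.mk'_surjective O) (by rwa [QuotientGroup.ker_mk']) (Subtype.ext t2) (tc0 t) h
  exact ⟨_, _, h.up⟩

end Cfsg.Agent.JT2
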