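import Cfsg.Agent.JT2.A
import Cfsg.Agent.AB.PSL2
import Cfsg.Agent.GW.Cov
import Cfsg.Agent.GW.Base
import Cfsg.Agent.Classical.LowIso

/-! The frames `EF`, `DF` in a group `X` with central involution `t` and `O^{2'}(X) ≤ K ≅ Z₂ × L₂(q)`
(`fr_even`, `fr_odd`). -/

set_option autoImplicit false
set_option linter.unusedSectionVars false

namespace Cfsg.Agent.JT2

open Cfsg.Agent.BG Subgroup Cfsg.Agent.GW Cfsg.Agent.Classical Cfsg.Agent.AB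
open Cfsg.Agent.Invol hiding orderOf_conj'
open scoped MatrixGroups

variable {X L : Type*} [Group X] [Finite X] [Group L] [Finite L] {t : X} {ι : L →* X}

/-- `⟨t⟩ × ι L` is normal and contains all 2-elements -/
structure Sp (t : X) (ι : L →* X) : Prop where
  t2 : t * t = 1
  tc : ∀ g, g * t = t * g
  inj : Function.Injective ι
  nt : ∀ l, ι l ≠ t
  cj : ∀ g l, ∃ b, g * ι l * g⁻¹ = ι b ∨ g * ι l * g⁻¹ = ι b * t
  two : ∀ x, (∃ k, orderOf x = 2 ^ k) → ∃ l, x = ι l ∨ x = ι l * t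

theorem exists_sp (t2 : t * t = 1) (t1 : t ≠ 1) (tc : ∀ g, g * t = t * g) (K : Subgroup X) [hn : K.Normal]
    (hK : ∀ x, (∃ k, orderOf x = 2 ^ k) → x ∈ K) (e : K ≃* Multiplicative (ZMod 2) × L)
    (hZ : center L = ⊥) : ∃ ι : L →* X, Sp t ι := by
  have tK := hK t ⟨1, orderOf_two_iff.2 ⟨t2, t1⟩⟩
  have h1 : (e ⟨t, tK⟩).2 = 1 := mem_bot.1 (hZ ▸ mem_center_iff.2 fun l => by
    have := congrArg (fun x => (e x).2) (Subtype.ext (tc _) : e.symm (1, l) * ⟨t, tK⟩ = ⟨t, tK⟩ * e.symm (1, l))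
    simpa using this)
  have h2 : (e ⟨t, tK⟩).1 ≠ 1 := fun h => t1 (congrArg Subtype.val (e.map_eq_one_iff.1 (Prod.ext h h1)))
  have h3 : ∀ a b : Multiplicative (ZMod 2), b ≠ 1 → a = 1 ∨ a = b := by decide
  have h4 : ∀ x ∈ K, ∃ l, x = e.symm (1, l) ∨ x = e.symm (1, l) * t := fun x hx =>
    ⟨(e ⟨x, hx⟩).2, (h3 (e ⟨x, hx⟩).1 _ h2).imp (fun h => by rw [← h, Prod.mk.eta, e.symm_apply_apply])
      fun h => congrArg Subtype.val (e.injective (Prod.ext (by simpa using h) (by simp [h1])) :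
        (⟨x, hx⟩ : K) = e.symm (1, (e ⟨x, hx⟩).2) * ⟨t, tK⟩)⟩
  refine ⟨K.subtype.comp (e.symm.toMonoidHom.comp (.inr _ _)), t2, tc, fun a b h => ?_, fun l h => h2 ?_,
    fun g l => h4 _ (hn.conj_mem _ (e.symm (1, l)).2 g), fun x hx => h4 x (hK x hx)⟩
  · exact congrArg Prod.snd (e.symm.injective (Subtype.ext h))
  · rw [← show e.symm (1, l) = ⟨t, tK⟩ from Subtype.ext h, e.apply_symm_apply]

namespace Sp
variable (h : Sp t ι)
include h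

theorem mem (g : X) : g ∈ C1[t] := mem_cent1.2 (h.tc g)

theorem syl {P : Subgroup L} (hP : SylowIn 2 P ⊤) : SylowIn 2 (P.map ι ⊔ zpowers t) C1[t] := by
  have : (zpowers t).Normal := ⟨fun x hx g => by
    rcases (mem_zpowers_invol h.t2).1 hx with rfl | rfl <;> simp [h.tc]⟩
  refine max_pgroup_Sylow (fun g _ => h.mem g) ((hP.pg.map ι).to_sup_of_normal_right
    (BG4.pgroup_of_exp fun x hx => by
      rcases (mem_zpowers_invol h.t2).1 hx with rfl | rfl <;> simp [sq, h.t2])) fun Q hQ h1 _ => ?_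
  have h2 := Hall_max hP (map_le_iff_le_comap.1 (le_sup_left.trans h1)) le_top
    (hQ.comap_of_injective ι h.inj).pi
  have tQ := h1 (mem_sup_right (mem_zpowers t))
  refine le_antisymm (fun x hx => ?_) h1
  obtain ⟨l, rfl | rfl⟩ := h.two x (by simpa using IsPGroup.iff_orderOf.1 hQ ⟨x, hx⟩)
  · exact mem_sup_left (mem_map_of_mem ι (h2.le hx))
  · exact mul_mem (mem_sup_left (mem_map_of_mem ι (h2.le ((mul_mem_cancel_right tQ).1 hx))))
      (mem_sup_right (mem_zpowers t))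

theorem ef {V : Subgroup L} {ρ : L} (eV : ∀ v ∈ V, v * v = 1) (c4 : 4 ≤ #V) (hV : SylowIn 2 V ⊤)
    (ρN : ρ ∈ N[V]) (tr : ∀ u ∈ V, ∀ v ∈ V, u ≠ 1 → v ≠ 1 → ∃ k : ℕ, ρ ^ k * u * (ρ ^ k)⁻¹ = v)
    (semi : ∀ v ∈ V, v ≠ 1 → N[V] ⊓ C1[v] ≤ C[V]) : EF t (V.map ι) (ι ρ) := by
  refine ⟨h.t2, fun ⟨l, _, e⟩ => h.nt l e, ?_, by rwa [card_map_of_injective h.inj], fun g _ => h.mem g,
    h.syl hV, h.mem _, le_normalizer_map ι (mem_map_of_mem ι ρN), ?_, fun g _ hg => ?_⟩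
  · rintro _ ⟨v, hv, rfl⟩; rw [← map_mul, eV v hv, map_one]
  · rintro _ ⟨u, hu, rfl⟩ _ ⟨v, hv, rfl⟩ u1 v1
    obtain ⟨k, e⟩ := tr u hu v hv (fun e => u1 (by rw [e, map_one])) fun e => v1 (by rw [e, map_one])
    exact ⟨k, by simp [← e]⟩
  obtain ⟨b, h1⟩ : ∃ b, ∀ x, g * ι ρ * g⁻¹ * x * (g * ι ρ * g⁻¹)⁻¹ = ι b * x * (ι b)⁻¹ := by
    obtain ⟨b, e | e⟩ := h.cj g ρ <;> refine ⟨b, fun x => ?_⟩ <;> rw [e]
    rw [mul_assoc _ t, ← h.tc x]; group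
  have h2 : g * ι ρ * g⁻¹ ∈ N[V.map ι] :=
    mul_mem (mul_mem hg (le_normalizer_map ι (mem_map_of_mem ι ρN))) (inv_mem hg)
  have h3 : b ∈ N[V] := mem_norm_of_cj_le (by
    rintro _ ⟨v, hv, rfl⟩
    have := conj_mem_of_norm h2 (mem_map_of_mem ι hv)
    rw [h1, ← map_mul, ← map_inv, ← map_mul] at this
    exact (mem_map_iff_mem h.inj).1 this)
  obtain ⟨u, hu, u1⟩ := (bot_or_exists_ne_one V).resolve_left (by rintro rfl; simp at c4)
  obtain ⟨k, e⟩ := tr u hu _ (conj_mem_of_norm h3 hu) u1 (conj_ne_one.2 u1)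
  have h4 := semi u hu u1 (x := b⁻¹ * ρ ^ k) ⟨N[V].mul_mem (N[V].inv_mem h3) (N[V].pow_mem ρN k), mem_cent1.2 (by
    rw [mul_assoc, mul_inv_eq_iff_eq_mul.1 e]; group)⟩
  refine ⟨k, ?_⟩
  rintro _ ⟨v, hv, rfl⟩
  have h5 : b * v * b⁻¹ = ρ ^ k * v * (ρ ^ k)⁻¹ := by
    rw [eq_mul_inv_iff_mul_eq, mul_assoc, mul_assoc, mem_cent.1 h4 v hv]; group
  rw [h1, ← map_pow, ← map_mul, ← map_inv, ← map_mul, h5]; simp

theorem df {c s : L} {n : ℕ} (oc : orderOf c = 2 ^ (n + 2)) (s2 : s * s = 1) (sc : s * c * s⁻¹ = c⁻¹)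
    (sC : s ∉ zpowers c) (hS : SylowIn 2 (zpowers c ⊔ zpowers s) ⊤)
    (fus : ∀ k : ℕ, ∃ ρ, ρ * c ^ 2 ^ (n + 1) * ρ⁻¹ = c ^ k * s ∧
      ρ * (c ^ k * s) * ρ⁻¹ = c ^ 2 ^ (n + 1) * (c ^ k * s)) : DF t (ι c) (ι s) n := by
  have e : zpowers (ι c) ⊔ zpowers (ι s) = (zpowers c ⊔ zpowers s).map ι := by simp [Subgroup.map_sup]
  refine ⟨h.t2, by rw [orderOf_injective ι h.inj, oc], by rw [← map_mul, s2, map_one],
    by simpa using congrArg ι sc, by rwa [← MonoidHom.map_zpowers, mem_map_iff_mem h.inj],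
    e ▸ fun ⟨l, _, e⟩ => h.nt l e, h.mem _, h.mem _, e ▸ h.syl hS, fun k => ?_⟩
  obtain ⟨ρ, h1, h2⟩ := fus k
  exact ⟨ι ρ, h.mem _, by simpa using congrArg ι h1, by simpa using congrArg ι h2⟩

theorem dih [IsSimpleGroup L] (hG : DihSyl L) : (∃ V ρ, EF t V ρ) ∨ ∃ c s n, DF t c s n := by
  obtain ⟨S, n, r, s, D⟩ := hG.exists_dih
  have hS := sylowIn_top S
  have cy := fun b => hG.cycle (D.four_sub b) (Tab.r_mem_sub_self _ _) (Tab.s_mem_sub_self _ _)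
    (ne_one_of (D.invol_r.2 rfl)) (D.T.s_ne_one _) (D.T.ne _ _)
  cases n with
  | zero =>
    have hV := D.four_sub 0
    have mV := mem_four_iff hV (Tab.r_mem_sub_self _ _) (Tab.s_mem_sub_self _ _)
      (ne_one_of (D.invol_r.2 rfl)) (D.T.s_ne_one _) (D.T.ne _ _)
    obtain ⟨ρ, ρN, h1, h2, h3⟩ := cy 0
    have e := eq_of_le_of_card_ge (D.T.sub_le (2 ^ 0) 0) (by rw [D.T.card, hV.card_four]; rfl)
    rw [← e] at hS
    refine .inl ⟨_, _, h.ef (fun v => mul_self_of_mem_four hV) hV.card_four.ge hS ρN (fun u hu v hv u1 v1 => ?_)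
      fun v hv v1 => le_of_Sylow_le fun p hp _ => ?_⟩
    · have k : ∀ x, ρ ^ 2 * x * (ρ ^ 2)⁻¹ = ρ * (ρ * x * ρ⁻¹) * ρ⁻¹ := fun x => by rw [sq]; group
      rcases ((mV u).1 hu).resolve_left u1 with rfl | rfl | rfl <;>
        rcases ((mV v).1 hv).resolve_left v1 with rfl | rfl | rfl <;>
        first
        | (refine ⟨0, ?_⟩; rw [pow_zero, one_mul, inv_one, mul_one]; done)
        | (refine ⟨1, ?_⟩; rwa [pow_one])
        | (refine ⟨2, ?_⟩; simp only [k, h1, h2, h3])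
    · have := Fact.mk hp
      by_cases p2 : p = 2
      · subst p2
        exact ⟨_, pHall_subl (le_inf (normG _) (four_le_C1 hV hv)) le_top hS, (four_abelian hV).cent⟩
      obtain ⟨P, hP⟩ := Sylow_exists p (N[sub r s (2 ^ 0) 0] ⊓ C1[v])
      refine ⟨P, hP, fun g hg => hG.cent hS.pg hv v1 (hP.le hg).1 ?_ (mem_cent1.1 (hP.le hg).2)⟩
      obtain ⟨k, e⟩ := IsPGroup.iff_orderOf.1 hP.pg ⟨g, hg⟩
      rw [← orderOf_coe] at e
      exact e ▸ (hp.odd_of_ne_two p2).pow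
  | succ n =>
    refine .inr ⟨_, _, n, h.df D.T.orderOf_r_one (mul_self_of (D.invol_s 0))
      (by rw [D.T.conj_sr, D.T.inv_r, mul_one]) (D.T.s_not_mem_zpowers 0 1) ?_ fun k => ?_⟩
    · refine (le_antisymm (fun g hg => ?_) (sup_le (zpowers_le.2 (D.T.r_mem 1))
        (zpowers_le.2 (D.T.s_mem 0))) : (S : Subgroup L) = _) ▸ hS
      obtain ⟨k, rfl | rfl⟩ := (D.T.mem_int g).1 hg
      · exact mem_sup_left (zpow_mem (mem_zpowers _) k)
      · exact mul_mem (mem_sup_right (mem_zpowers _)) (mem_sup_left (zpow_mem (mem_zpowers _) k))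
    · obtain ⟨ρ, -, h1, h2, -⟩ := cy (-1 * ((k : ZMod (2 ^ (n + 1 + 1))) * 1) + 0)
      simp only [D.T.r_pow, D.T.rs, Nat.cast_pow, Nat.cast_ofNat, mul_one] at h1 h2 ⊢
      exact ⟨ρ, h1, h2⟩

end Sp

theorem fr_even (t : X) (t2 : t * t = 1) (t1 : t ≠ 1) (tc : ∀ g, g * t = t * g) {F : Type*} [Field F]
    [Fintype F] (hF : 3 < Fintype.card F) (K : Subgroup X) [K.Normal]
    (hK : ∀ x, (∃ k, orderOf x = 2 ^ k) → x ∈ K)
    (e : K ≃* Multiplicative (ZMod 2) × Matrix.ProjectiveSpecialLinearGroup (Fin 2) F)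
    (he : Even (Fintype.card F)) : ∃ V ρ, EF t V ρ := by
  obtain ⟨ι, h⟩ := exists_sp t2 t1 tc K hK e center_PSL2
  rw [← Nat.card_eq_fintype_card] at hF he
  have h2 : (2 : F) = 0 := by_contra fun h2 => Nat.not_even_iff_odd.2 (two_ne_zero_iff_odd.1 h2) he
  have : CharP F 2 := CharTwo.of_one_ne_zero_of_two_eq_zero one_ne_zero h2
  have k1 : ∀ b : F, pslMk F (uSL b) = 1 ↔ b = 0 := fun b => by
    rw [map_eq_one_iff _ (pslMk_injective h2), uSL_eq_one_iff]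
  have u2 : orderOf (pslMk F (uSL 1)) = 2 := orderOf_two_iff.2 ⟨by
    rw [← map_mul, ← uSL_add, one_add_one_eq_two, h2, uSL_zero, map_one], mt (k1 1).1 one_ne_zero⟩
  have mV : ∀ x, x ∈ C1[pslMk F (uSL 1)] ↔ ∃ b, x = pslMk F (uSL b) := fun x => ⟨fun hx => by
    obtain ⟨x, rfl⟩ := pslMk_surjective x
    obtain ⟨c, rfl | rfl⟩ := (mem_centralizer_uSL_iff (g := x) one_ne_zero).1 (mem_cent1.2
      (pslMk_injective h2 (by simpa using mem_cent1.1 hx)))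
    exacts [⟨c, rfl⟩, ⟨c, pslMk_neg _⟩], by
    rintro ⟨b, rfl⟩
    rw [mem_cent1, ← map_mul, ← map_mul, ← uSL_add, ← uSL_add, add_comm]⟩
  have pV : IsPGroup 2 C1[pslMk F (uSL 1)] := BG4.pgroup_of_exp fun x hx => (sq x).trans (psl_sq h2 u2 hx)
  have ab : C1[pslMk F (uSL 1)] ≤ C[C1[pslMk F (uSL 1)]] := fun x hx => mem_cent.2 fun y hy => by
    obtain ⟨a, rfl⟩ := (mV x).1 hx
    obtain ⟨b, rfl⟩ := (mV y).1 hy
    rw [← map_mul, ← map_mul, ← uSL_add, ← uSL_add, add_comm]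
  obtain ⟨ζ, hζ⟩ := IsCyclic.exists_monoid_generator (α := Fˣ)
  have dp : ∀ k : ℕ, dSL ζ ^ k = dSL (ζ ^ k) := fun k => by
    induction k with
    | zero => exact (mul_eq_left.1 (by rw [pow_zero, ← dSL_mul, mul_one] : _ = dSL 1)).symm
    | succ k ih => rw [pow_succ, pow_succ, dSL_mul, ih]
  refine ⟨_, _, h.ef (ρ := pslMk F (dSL ζ)) (fun v => psl_sq h2 u2) ?_ ?_ (mem_norm_of_cj_le ?_)
    (fun u hu v hv u1 v1 => ?_) fun v hv v1 => inf_le_right.trans (le_of_eq_of_le ?_ ab)⟩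
  · obtain ⟨u, hu, h4⟩ := psl_cent hF.le
    exact Nat.le_of_dvd (cardG_pos _) (Invol.card_centralizer_of_isConj (psl_cls hu u2) ▸ h4)
  · obtain ⟨P, hP, h1⟩ := Sylow_superset le_top pV
    rwa [eq_of_le_of_card_ge h1 (Nat.le_of_dvd (cardG_pos _) (sylow_dvd_cent (fun x => psl_cls u2) hP.pg
      fun e => ne_one_of u2 (mem_bot.1 (e ▸ h1 (cent1_self _)))))]
  · rintro _ ⟨x, hx, rfl⟩
    obtain ⟨b, rfl⟩ := (mV x).1 hx
    exact (mV _).2 ⟨_, by simpa using congrArg (pslMk F) (dSL_conj_uSL ζ b)⟩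
  · obtain ⟨a, rfl⟩ := (mV u).1 hu
    obtain ⟨b, rfl⟩ := (mV v).1 hv
    have a0 := mt (k1 a).2 u1
    obtain ⟨y, hy⟩ := FiniteField.isSquare_of_char_two (ringChar.eq F 2) (b / a)
    obtain ⟨k, hk⟩ := hζ (Units.mk0 y fun e => v1 ((k1 b).2 (by simpa [e, a0] using hy)))
    refine ⟨k, ?_⟩
    rw [← map_pow, ← map_mul, ← map_inv, ← map_mul, dp, dSL_conj_uSL, show ζ ^ k = _ from hk, Units.val_mk0,
      sq, ← hy, div_mul_cancel₀ _ a0]
  · exact (eq_of_le_of_card_ge (ab.trans (cent_le_cent1 hv)) (Invol.card_centralizer_of_isConj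
      (psl_cls (orderOf_two_iff.2 ⟨psl_sq h2 u2 hv, v1⟩) u2)).le).symm

theorem fr_odd (t : X) (t2 : t * t = 1) (t1 : t ≠ 1) (tc : ∀ g, g * t = t * g) {F : Type*} [Field F]
    [Fintype F] (hF : 3 < Fintype.card F) (K : Subgroup X) [K.Normal]
    (hK : ∀ x, (∃ k, orderOf x = 2 ^ k) → x ∈ K)
    (e : K ≃* Multiplicative (ZMod 2) × Matrix.ProjectiveSpecialLinearGroup (Fin 2) F)
    (ho : Odd (Fintype.card F)) : (∃ V ρ, EF t V ρ) ∨ ∃ c s n, DF t c s n := by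
  obtain ⟨ι, h⟩ := exists_sp t2 t1 tc K hK e center_PSL2
  rw [← Nat.card_eq_fintype_card] at hF ho
  have : IsSimpleGroup PSL(2, F) := Matrix.ProjectiveSpecialLinearGroup.rank_two_simple hF
  obtain ⟨S⟩ : Nonempty (Sylow 2 SL(2, F)) := inferInstance
  obtain ⟨k, h1, ⟨e'⟩⟩ := sl_sylow_two_equiv (two_ne_zero_iff_odd.2 ho) S
  obtain ⟨k, rfl⟩ := Nat.exists_eq_add_of_le' h1
  exact h.dih (dihSyl_quo_center S e' (by rw [card_center_SL2, gcd_two_pred_of_odd ho]))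

end Cfsg.Agent.JT2
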