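import Cfsg.Agent.JT2.B
import Cfsg.Agent.LieM.Gold10
import Cfsg.Agent.AB.PSL2
import Cfsg.Agent.BG.S10a

/-! The frame `EF` in a simple group: the Sylow 2-subgroup `⟨t⟩ × V` of `C(t)`. -/

set_option autoImplicit false
set_option linter.unusedSectionVars false

namespace Cfsg.Agent.JT2

open Cfsg.Agent.BG Subgroup

variable {G : Type*} [Group G] [Finite G] {t ρ : G} {V : Subgroup G}

theorem e0 [IsSimpleGroup G] (hG : ¬ IsMulCommutative G) (h : EF t V ρ) (hS : SylowIn 2 (V ⊔ zpowers t) ⊤) : #V = 4 := by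
  have := Nat.fact_prime_two
  have c := card_sup_inv h.tNV h.t2 h.tV
  have c4 := h.c4
  obtain ⟨S, e⟩ := sylow_of_sylowIn_top hS
  have ab : IsMulCommutative (S : Subgroup G) := e ▸ abelian_iff.2 (CIT.EA.cent fun _ => h.S2)
  rcases LieM.kn_of_ab hG S ab with ⟨M, hM⟩ | ⟨W, -, h2, h3⟩ | ⟨W, -, h2, h3, -⟩
  · obtain ⟨F, i1, i2, n, k1, k2, ⟨e⟩, -⟩ := AB.psl_of_se hG (AB.hab_of_sylow S ab) hM
    have : CharP F 2 := charP_of_card_eq_prime_pow k2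
    have := AB.psl_sq (F := F) CharTwo.two_eq_zero (u := e t) (x := e ρ)
      ((e.orderOf_eq t).trans (Invol.orderOf_two_iff.2 ⟨h.t2, h.t1⟩))
      (mem_cent1.2 (by rw [← map_mul, ← map_mul, mem_cent1.1 h.ρt]))
    rw [← map_mul, map_eq_one_iff _ e.injective] at this
    exact absurd (h.cen2 h.ρt h.ρN (pg2 this)) h.ρC
  · have := card_Hall_eq hS h3; omega
  · have := card_Hall_eq hS h3; omega

theorem e1 (h : EF t V ρ) (hS : ¬ SylowIn 2 (V ⊔ zpowers t) ⊤) : ∀ v ∈ V, ¬ IsConj t v := fun v hv tv => by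
  have := Nat.fact_prime_two
  have tS : t ∈ V ⊔ zpowers t := mem_sup_right (mem_zpowers t)
  have A : ∀ w ∈ V, w ≠ 1 → IsConj t w := fun w hw w1 => by
    obtain ⟨k, e⟩ := h.tr v hv w hw (h.cj1 tv) w1
    exact tv.trans (isConj_iff.2 ⟨_, e⟩)
  obtain ⟨T, hT, ST⟩ := Sylow_superset le_top h.syl.pg
  obtain ⟨z, zT, z2, zc⟩ := Invol.exists_central_invol hT.pg fun e => h.t1 (mem_bot.1 (e ▸ ST tS))
  have nz : ¬ IsConj t z := fun c => hS (by
    rwa [eq_of_card_le ST ((h.le2 c hT.pg fun s hs => mem_cent1.2 (zc s hs)).1.trans_eq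
      (card_sup_inv h.tNV h.t2 h.tV).symm)])
  have tz := (h.k2 (IsConj.refl t) h.tV h.Vt hT.pg (le_sup_left.trans ST) (ST tS) zT (zc t (ST tS)).symm).resolve_left
    fun c => nz (A z c (Invol.orderOf_two_iff.1 z2).2)
  have B : ∀ x, t * x ∈ V → IsConj t x → x = t := fun x hx c => by_contra fun n => by
    have k : ∀ {y}, y ≠ t → t * y ≠ 1 := fun n e => n (by rw [eq_inv_of_mul_eq_one_right e, inv2 h.t2])
    obtain ⟨k, e⟩ := h.tr _ tz _ hx (k fun e => nz (e ▸ IsConj.refl _)) (k n)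
    refine nz (c.trans (isConj_iff.2 ⟨ρ ^ k, mul_left_cancel (a := t) ?_⟩).symm)
    rw [← e, ← mul_assoc, ← mul_assoc, ← mem_cent1.1 (pow_mem h.ρt k), mul_assoc _ t]
  obtain ⟨Y, hY, lt⟩ := lt_Sylow_norm h.syl.pg le_top hS
  obtain ⟨g, gY, gS⟩ := SetLike.exists_of_lt lt
  have gN := (hY.le gY).2
  have ms := fun {x} => mem_sup_inv (x := x) h.tNV h.t2
  have vV : g * t * g⁻¹ ∈ V := (ms.1 (conj_mem_of_norm gN tS)).resolve_right fun c => gS (ms.2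
    (h.k2 (IsConj.refl t) h.tV h.Vt hY.pg (le_sup_left.trans lt.le) (lt.le tS) gY
      (mul_inv_eq_iff_eq_mul.1 (B _ c (isConj_iff.2 ⟨g, rfl⟩)))))
  obtain ⟨u, hu, u1, uv, -⟩ := h.ex3 (g * t * g⁻¹) 1
  have cj : ∀ w ∈ V, w ≠ 1 → IsConj t (g⁻¹ * w * g) := fun w hw w1 =>
    (A w hw w1).trans (isConj_iff.2 ⟨g⁻¹, by rw [inv_inv]⟩)
  have xV : g⁻¹ * u * g ∈ V := (ms.1 (conj_mem_of_norm' gN (mem_sup_left hu))).resolve_right fun c =>
    uv (by rw [← B _ c (cj u hu u1)]; group)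
  have := B (g⁻¹ * (g * t * g⁻¹ * u) * g) (by
    rwa [show t * (g⁻¹ * (g * t * g⁻¹ * u) * g) = t * t * (g⁻¹ * u * g) by group, h.t2, one_mul])
    (cj _ (mul_mem vV hu) fun e => uv (by rw [eq_inv_of_mul_eq_one_right e, h.iV vV]))
  refine u1 ?_
  calc u = g * t⁻¹ * (g⁻¹ * (g * t * g⁻¹ * u) * g) * g⁻¹ := by group
    _ = 1 := by rw [this]; group

theorem thmE_of [IsSimpleGroup G] (hG : ¬ IsMulCommutative G) (h : EF t V ρ)
    (chain : (∀ v ∈ V, ¬ IsConj t v) → ∃ ρ' Q, CQ t V ρ' Q ∧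
      ((SylowIn 2 (Q ⊔ zpowers t) ⊤ ∧ (One t Q ∨ All t Q)) ∨ Beta t V Q))
    (beta : (∀ H : Subgroup G, H.index ≠ 2) → ∀ ρ' Q, CQ t V ρ' Q → Beta t V Q → False) :
    SylowIn 2 (V ⊔ zpowers t) ⊤ ∧ #V = 4 := by
  have := Nat.fact_prime_two
  suffices hS : _ from ⟨hS, e0 hG h hS⟩
  by_contra hS
  have n2 := AB.index_ne_two (AB.simple_perfect hG)
  obtain ⟨ρ', Q, q, ⟨s, -⟩ | b⟩ := chain (e1 h hS)
  · obtain ⟨P, e⟩ := sylow_of_sylowIn_top s
    obtain ⟨g, -, hg⟩ := Invol.thompson_transfer n2 P (Q := Q) (by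
      have := card_mul_relIndex (le_sup_left : Q ≤ Q ⊔ zpowers t)
      rw [card_sup_inv q.tN h.t2 q.tQ, mul_comm] at this
      rw [e]; exact Nat.eq_of_mul_eq_mul_right (cardG_pos Q) this) h.t2 (e ▸ mem_sup_right (mem_zpowers t))
    exact q.nc _ hg (isConj_iff.2 ⟨g, rfl⟩)
  · exact beta n2 ρ' Q q b

end Cfsg.Agent.JT2
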