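import Cfsg.Agent.JT2.A
import Cfsg.Agent.S0885
import Cfsg.Agent.CIT.Base
import Cfsg.Agent.BG.S3Wielandt
import Mathlib.LinearAlgebra.Matrix.GeneralLinearGroup.Card

/-! A faithful linear group on an elementary 2-group `V` with a surjective cocycle whose kernel has odd order and a normal
cyclic subgroup transitive on `V#` is `GL₃(2)`. -/

set_option autoImplicit false
set_option linter.unusedSectionVars false

namespace Cfsg.Agent.JT2

open Cfsg.Agent.BG Cfsg.Agent.CIT Subgroup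

section
variable {X : Type*} [Group X] [Finite X] {x y : X}

theorem t4_inv (hx : x * x = 1) (hy : y * y = 1) : x * (x * y) * x⁻¹ = (x * y)⁻¹ := by
  rw [← mul_assoc, hx, one_mul, mul_inv_rev, inv_eq_of_mul_eq_one_right hy]

theorem t4_nrm (hx : x * x = 1) (hy : y * y = 1) : zpowers x ≤ N[zpowers (x * y)] :=
  zpowers_le.2 (mem_norm.2 (by rw [cj_zpowers, t4_inv hx hy, zpowers_inv]))

theorem t4_sup (x y : X) : zpowers x ⊔ zpowers y = zpowers x ⊔ zpowers (x * y) :=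
  le_antisymm (sup_le le_sup_left (zpowers_le.2 (by
    simpa using mul_mem_sup' (inv_mem (mem_zpowers x)) (mem_zpowers (x * y)))))
    (sup_le le_sup_left (zpowers_le.2 (mul_mem_sup' (mem_zpowers x) (mem_zpowers y))))

theorem t4_pg (hx : x * x = 1) (hy : y * y = 1) (h : PiElt {2} (x * y)) :
    IsPGroup 2 (zpowers x ⊔ zpowers y : Subgroup X) := by
  have := Nat.fact_prime_two
  rw [t4_sup]
  exact (pgroupY (.inl (t4_nrm hx hy)) (IsPGroup.pi (two_of_sq hx).zpowers) (p_elt_zpowers.2 h)).pg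

def t4x : GL (Fin 3) (ZMod 2) := ⟨!![1, 1, 0; 0, 1, 0; 0, 0, 1], !![1, 1, 0; 0, 1, 0; 0, 0, 1], by decide, by decide⟩
def t4y : GL (Fin 3) (ZMod 2) := ⟨!![1, 0, 0; 0, 1, 1; 0, 0, 1], !![1, 0, 0; 0, 1, 1; 0, 0, 1], by decide, by decide⟩

theorem t4_gl (f : X →* GL (Fin 3) (ZMod 2)) (hf : Function.Injective f) (c : 168 ≤ Nat.card X) :
    ∃ x y : X, x * x = 1 ∧ y * y = 1 ∧ SylowIn 2 (zpowers x ⊔ zpowers y) ⊤ := by
  have := Nat.fact_prime_two
  have cG : Nat.card (GL (Fin 3) (ZMod 2)) = 168 := by rw [Matrix.card_GL_field]; decide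
  have cX : Nat.card X = 168 := le_antisymm (cG ▸ Nat.card_le_card_of_injective f hf) c
  have b := ((Nat.bijective_iff_injective_and_card f).2 ⟨hf, cX.trans cG.symm⟩).2
  obtain ⟨x, hx⟩ := b t4x
  obtain ⟨y, hy⟩ := b t4y
  have x2 : x * x = 1 := hf (by rw [map_mul, hx, map_one]; decide)
  have y2 : y * y = 1 := hf (by rw [map_mul, hy, map_one]; decide)
  have n2 : (x * y) ^ 2 ^ 1 ≠ 1 := fun e => absurd (congrArg f e) (by rw [map_pow, map_mul, hx, hy, map_one]; decide)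
  have o : orderOf (x * y) = 2 ^ (1 + 1) :=
    orderOf_eq_prime_pow n2 (hf (by rw [map_pow, map_mul, hx, hy, map_one]; decide))
  have x1 : x ≠ 1 := fun e => absurd (congrArg f e) (by rw [hx, map_one]; decide)
  have c8 : #(zpowers x ⊔ zpowers y : Subgroup X) = 2 ^ 3 := by
    rw [t4_sup, card_sup_TI (.inl (t4_nrm x2 y2)), Nat.card_zpowers, Nat.card_zpowers, o,
      orderOf_eq_prime (by rw [pow_two, x2]) x1]
    · rfl
    refine eq_bot_iff.2 fun u hu => ((Invol.mem_zpowers_invol x2).1 hu.1).resolve_right fun e => n2 ?_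
    have := conj_eq_of_cent ((abelian_zpowers (x * y)).cent (e ▸ hu.2)) (mem_zpowers (x * y))
    rw [t4_inv x2 y2] at this
    rw [pow_one, pow_two]; nth_rw 1 [← this]; exact inv_mul_cancel _
  refine ⟨x, y, x2, y2, sylow_mk le_top (pgroup_of_card c8) ?_⟩
  have := card_mul_relIndex (le_top (a := zpowers x ⊔ zpowers y))
  rw [c8, card_top, cX] at this; omega

variable {V : Type*} [CommGroup V] [Finite V] [MulDistribMulAction X V]

theorem t4_wiel {K R : Subgroup X} {v : V} (hL : Frob K R (K ⊔ R)) (hc : (Nat.card V).Coprime #(K ⊔ R : Subgroup X))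
    (hK : ∀ u : V, (∀ k ∈ K, k • u = u) → u = 1) (hR : ∀ u : V, (∀ r ∈ R, r • u = u) ↔ u ∈ zpowers v) :
    Nat.card V = orderOf v ^ #R := by
  let Γ := V ⋊[MulDistribMulAction.toMulAut X V] X
  have : Finite Γ := Finite.of_equiv _ SemidirectProduct.equivProd.symm
  let l : V →* Γ := SemidirectProduct.inl
  let r : X →* Γ := SemidirectProduct.inr
  have li : Function.Injective l := SemidirectProduct.inl_injective
  have ri : Function.Injective r := SemidirectProduct.inr_injective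
  have : l.range.Normal := by
    rw [show l.range = _ from SemidirectProduct.range_inl_eq_ker_rightHom]; exact MonoidHom.normal_ker _
  have cM : #l.range = Nat.card V := (Nat.card_congr (MonoidHom.ofInjective li).toEquiv).symm
  have k : ∀ (B : Subgroup X) (u : V), l u ∈ C[B.map r] ↔ ∀ b ∈ B, b • u = u := fun B u => by
    rw [mem_cent]
    have e : ∀ b : X, r b * l u = l u * r b ↔ b • u = u := fun b => by
      rw [← mul_inv_eq_iff_eq_mul, ← map_inv, ← SemidirectProduct.inl_aut, li.eq_iff]; rfl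
    exact ⟨fun h b hb => (e b).1 (h _ ⟨b, hb, rfl⟩), by rintro h _ ⟨b, hb, rfl⟩; exact (e b).2 (h b hb)⟩
  have := (Frobenius_Wielandt_fixpoint (M := l.range) (hL.map_inj ri) (norm_of_normal _ _)
    (by rwa [cM, card_map_of_injective ri]) (abelian_sol (abelian_iff.2 (le_cent_iff.2 (by
      rintro _ ⟨a, rfl⟩ _ ⟨b, rfl⟩; rw [← map_mul, ← map_mul, mul_comm]))))).2.2 (eq_bot_iff.2 (by
      rintro _ ⟨⟨u, rfl⟩, hu⟩; rw [hK u ((k K u).1 hu), map_one]; exact one_mem _))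
  have e : l.range ⊓ C[R.map r] = (zpowers v).map l := by
    ext g; constructor
    · rintro ⟨⟨u, rfl⟩, hu⟩; exact ⟨u, (hR u).1 ((k R u).1 hu), rfl⟩
    · rintro ⟨u, hu, rfl⟩; exact ⟨⟨u, rfl⟩, (k R u).2 ((hR u).2 hu)⟩
  rwa [cM, e, card_map_of_injective li, card_map_of_injective ri, Nat.card_zpowers] at this

theorem t4_odd {g w : X} (hg : Odd (orderOf g)) (hw : Odd (orderOf w)) (e : g * w * g⁻¹ = w⁻¹) : w = 1 := by
  obtain ⟨j, hj⟩ := hg
  have c : Commute (g * g) w := by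
    have : g * g * w * (g * g)⁻¹ = w := by
      calc _ = g * (g * w * g⁻¹) * g⁻¹ := by group
        _ = (g * w * g⁻¹)⁻¹ := by nth_rw 1 [e]; group
        _ = w := by rw [e, inv_inv]
    exact mul_inv_eq_iff_eq_mul.1 this
  have g1 : g = ((g * g) ^ j)⁻¹ := eq_inv_of_mul_eq_one_right (by
    rw [← pow_two, ← pow_mul, ← pow_succ, ← hj, pow_orderOf_eq_one])
  have c' : Commute g w := g1 ▸ (c.pow_left j).inv_left
  rw [c'.eq, mul_inv_cancel_right] at e
  by_contra n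
  exact not_two_of_odd hw n (two_of_sq (by nth_rw 2 [e]; exact mul_inv_cancel w))

structure ZH (δ : X → V) (X0 : Subgroup X) (ρ : X) : Prop where
  e2 : ∀ v : V, v * v = 1
  c4 : 4 ≤ Nat.card V
  hδ : ∀ g h, δ (g * h) = δ g * g • δ h
  sur : Function.Surjective δ
  h0 : ∀ g, g ∈ X0 ↔ δ g = 1
  odd : Odd #X0
  hρ : ρ ∈ X0
  tr : ∀ u v : V, u ≠ 1 → v ≠ 1 → ∃ k : ℕ, ρ ^ k • u = v
  nρ : ∀ g ∈ X0, ∃ k : ℕ, g * ρ * g⁻¹ = ρ ^ k

/-- the affine action -/
def af (δ : X → V) (g : X) (a : V) : V := δ g * g • a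
/-- the fixed points of the linear action -/
def fx (V : Type*) [CommGroup V] [MulDistribMulAction X V] (g : X) : Subgroup V :=
  (MulDistribMulAction.toMonoidHom V g).eqLocus (MonoidHom.id V)

variable [FaithfulSMul X V] {δ : X → V} {X0 : Subgroup X} {ρ g k u w φ : X} {a b c v : V}

/-- the points of the affine action -/
@[ext] structure ZH.Pt (_ : ZH δ X0 ρ) where
  v : V

namespace ZH
variable (h : ZH δ X0 ρ)
include h

theorem d1 : δ 1 = 1 := by simpa using h.hδ 1 1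
theorem one (a : V) : af δ 1 a = a := by rw [af, h.d1, one_mul, one_smul]
theorem mul (g k : X) (a : V) : af δ (g * k) a = af δ g (af δ k a) := by
  rw [af, af, af, h.hδ, smul_mul', mul_smul, mul_assoc]
omit h in
theorem at1 (g : X) : af δ g 1 = δ g := by rw [af, smul_one, mul_one]
theorem lin (hg : g ∈ X0) (a : V) : af δ g a = g • a := by rw [af, (h.h0 g).1 hg, one_mul]
theorem inv (g : X) (a : V) : af δ g⁻¹ (af δ g a) = a := by rw [← h.mul, inv_mul_cancel, h.one]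
theorem inv' (g : X) (a : V) : af δ g (af δ g⁻¹ a) = a := by rw [← h.mul, mul_inv_cancel, h.one]
theorem mem : g ∈ X0 ↔ af δ g 1 = 1 := by rw [at1, h.h0]

theorem cP : Nat.card h.Pt = Nat.card V := Nat.card_congr ⟨Pt.v, Pt.mk, fun _ => rfl, fun _ => rfl⟩
instance instFinPt : Finite h.Pt := Finite.of_injective Pt.v fun _ _ => Pt.ext
instance instActPt : MulAction X h.Pt where
  smul g a := ⟨af δ g a.v⟩
  one_smul a := Pt.ext (h.one a.v)
  mul_smul g k a := Pt.ext (h.mul g k a.v)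
theorem sm {a b : h.Pt} : g • a = b ↔ af δ g a.v = b.v := Pt.ext_iff

theorem conj (e : af δ k a = b) (hg : af δ g b = b) : af δ (k⁻¹ * g * k) a = a := by
  rw [h.mul, h.mul, e, hg, ← e, h.inv]
theorem sodd (hg : af δ g a = a) : Odd (orderOf g) := by
  obtain ⟨k, hk⟩ := h.sur a
  have := h.odd.of_dvd_nat (orderOf_dvd_cardG (h.mem.2 (h.conj ((at1 k).trans hk) hg)))
  rwa [show k⁻¹ * g * k = k⁻¹ * g * k⁻¹⁻¹ by group, orderOf_conj'] at this
theorem KX : zpowers ρ ≤ X0 := zpowers_le.2 h.hρ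
theorem nK : X0 ≤ N[zpowers ρ] := le_norm_of_cj_le fun g hg => by
  obtain ⟨k, e⟩ := h.nρ g hg
  rw [cj_zpowers, e]; exact zpowers_le.2 (npow_mem_zpowers ρ k)
theorem reg (hg : g ∈ zpowers ρ) (h1 : v ≠ 1) (e : g • v = v) : g = 1 :=
  eq_of_smul_eq_smul (α := V) fun u => by
    by_cases c : u = 1
    · rw [c, smul_one, smul_one]
    obtain ⟨k, rfl⟩ := h.tr v u h1 c
    rw [← mul_smul, (abelian_zpowers ρ).comm hg (npow_mem_zpowers ρ k), mul_smul, e, one_smul]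
theorem two (h1 : v ≠ 1) (ab : a ≠ b) : ∃ g, af δ g 1 = a ∧ af δ g v = b := by
  obtain ⟨k, hk⟩ := h.sur a
  obtain ⟨j, e⟩ := h.tr v (af δ k⁻¹ b) h1 fun e => ab (by rw [← h.inv' k b, e, at1, hk])
  have m := pow_mem h.hρ j
  exact ⟨k * ρ ^ j, by rw [h.mul, h.mem.1 m, at1, hk], by rw [h.mul, h.lin m, e, h.inv']⟩
theorem key (hφ : φ ∈ X0) (h1 : v ≠ 1) (e : φ • v = v) (hg : g ∈ zpowers ρ) : φ • g • v = g • v ↔ g ∈ C1[φ] := by
  refine ⟨fun e' => mem_cent1.2 ?_, fun c => by rw [← mul_smul, ← mem_cent1.1 c, mul_smul, e]⟩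
  have := h.reg (mul_mem (inv_mem hg) (conj_mem_of_norm (h.nK hφ) hg)) h1 (by
    rw [mul_smul, mul_smul, mul_smul, inv_smul_eq_iff.2 e.symm, e', inv_smul_smul])
  rw [inv_mul_eq_one, eq_mul_inv_iff_mul_eq] at this
  exact this
theorem cnt (hφ : φ ∈ X0) (h1 : v ≠ 1) (e : φ • v = v) : #(zpowers ρ ⊓ C1[φ] : Subgroup X) + 1 = #(fx V φ) := by
  rw [← Finite.card_option]
  refine Nat.card_eq_of_bijective (fun o => o.elim 1 fun g => ⟨g.1 • v, (h.key hφ h1 e g.2.1).2 g.2.2⟩) ⟨?_, ?_⟩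
  · have n : ∀ g : X, g • v ≠ 1 := fun g e => h1 (by rw [← inv_smul_smul g v, e, smul_one])
    rintro (_ | g) (_ | k) e
    · rfl
    · exact absurd (congrArg Subtype.val e).symm (n _)
    · exact absurd (congrArg Subtype.val e) (n _)
    · refine congrArg some (Subtype.ext (inv_mul_eq_one.1 (h.reg (mul_mem (inv_mem g.2.1) k.2.1) h1 ?_)))
      rw [mul_smul, inv_smul_eq_iff]; exact (congrArg Subtype.val e).symm
  · rintro ⟨u, hu⟩
    by_cases c : u = 1
    · exact ⟨none, Subtype.ext c.symm⟩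
    obtain ⟨k, rfl⟩ := h.tr v u h1 c
    exact ⟨some ⟨_, npow_mem_zpowers ρ k, (h.key hφ h1 e (npow_mem_zpowers ρ k)).1 hu⟩, rfl⟩
theorem pV : IsPGroup 2 V := fun v => ⟨1, by rw [pow_one, pow_two, h.e2]⟩
theorem ev : 2 ∣ Nat.card V := by
  have := Nat.fact_prime_two
  obtain ⟨n, e⟩ := IsPGroup.iff_card.1 h.pV
  have := h.c4
  rw [e] at this ⊢
  exact dvd_pow_self 2 (by rintro rfl; omega)
theorem nO2 {N : Subgroup X} (hN : N.Normal) (hp : IsPGroup 2 N) : N = ⊥ := by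
  have := Nat.fact_prime_two
  obtain ⟨v, hv, h1⟩ := hp.exists_fixed_point_of_prime_dvd_card_of_fixed_point V h.ev (a := 1) fun g => smul_one g
  refine eq_bot_iff.2 fun g hg => eq_of_smul_eq_smul (α := V) fun u => ?_
  by_cases c : u = 1
  · rw [c, smul_one, smul_one]
  obtain ⟨k, rfl⟩ := h.tr v u h1.symm c
  have : ((ρ ^ k)⁻¹ * g * ρ ^ k) • v = v := hv ⟨_, hN.conj_mem' g hg _⟩
  rw [mul_smul, mul_smul, inv_smul_eq_iff] at this
  rw [this, one_smul]
theorem trans : MulAction.IsPretransitive X h.Pt := ⟨fun a b => by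
  obtain ⟨g, hg⟩ := h.sur a.v
  obtain ⟨k, hk⟩ := h.sur b.v
  exact ⟨k * g⁻¹, h.sm.2 (by rw [h.mul, ← hg, ← hk, ← at1 (δ := δ) g, h.inv, at1])⟩⟩
theorem st : X0 = MulAction.stabilizer X (⟨1⟩ : h.Pt) := Subgroup.ext fun _ => h.mem.trans (h.sm (a := ⟨1⟩) (b := ⟨1⟩)).symm
theorem cX : #X0 * Nat.card V = Nat.card X := by
  have := h.trans
  rw [← X0.card_mul_index, ← h.cP]
  exact congrArg _ ((congrArg index h.st).trans (MulAction.index_stabilizer_of_transitive X _)).symm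
theorem sq (hu : u * u = 1) (a : V) : af δ u (af δ u a) = a := by rw [← h.mul, hu, h.one]
theorem isConj (hu : orderOf u = 2) (hw : orderOf w = 2) : IsConj u w := by
  have n : ∀ {u}, orderOf u = 2 → δ u ≠ 1 := fun {u} hu e =>
    absurd (hu ▸ h.sodd ((at1 u).trans e)) (by decide)
  obtain ⟨k, e⟩ := h.tr _ _ (n hu) (n hw)
  have m := pow_mem h.hρ k
  have s := sq_of_ord ((orderOf_conj' (ρ ^ k) u).trans hu)
  refine (isConj_iff.2 ⟨ρ ^ k, rfl⟩).trans (Invol.isConj_of_odd s (sq_of_ord hw) (h.sodd (a := 1) ?_))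
  have : af δ (ρ ^ k * u * (ρ ^ k)⁻¹) 1 = δ w := by rw [h.mul, h.mul, h.mem.1 (inv_mem m), at1, h.lin m, e]
  rw [h.mul, at1, ← this, h.sq s]

theorem exB : ∃ u w, u * u = 1 ∧ w * w = 1 ∧ δ u = δ w ∧ u ≠ w := by
  have := Nat.fact_prime_two
  by_contra H
  have H1 : ∀ u w a, u * u = 1 → w * w = 1 → af δ u a = af δ w a → u = w := fun u w a hu hw e => by
    obtain ⟨k, hk⟩ := h.sur a
    have s : ∀ {u : X}, u * u = 1 → k⁻¹ * u * k * (k⁻¹ * u * k) = 1 := fun {u} hu => by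
      calc _ = k⁻¹ * (u * u) * k := by group
        _ = 1 := by rw [hu]; group
    by_contra n
    refine H ⟨_, _, s hu, s hw, ?_, by simpa using n⟩
    rw [← at1 (δ := δ) (k⁻¹ * u * k), ← at1 (δ := δ) (k⁻¹ * w * k), h.mul, h.mul, h.mul, h.mul, at1, hk, e]
  obtain ⟨x, hx⟩ := exists_prime_orderOf_dvd_card' (G := X) 2 (h.cX ▸ h.ev.mul_left _)
  have x2 := sq_of_ord hx
  have := Flav.baer (p := 2) (X := zpowers x) le_top fun g _ => by
    have y2 := sq_of_ord ((orderOf_conj' g x).trans hx)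
    rw [cj_zpowers]
    generalize g * x * g⁻¹ = y at *
    refine t4_pg x2 y2 fun p hp hd => by_contra fun n => ?_
    have := Fact.mk hp
    have o := orderOf_pow_orderOf_div (orderOf_pos (x * y)).ne' hd
    generalize orderOf (x * y) / p = j at o
    obtain ⟨m, hm⟩ := IsPGroup.iff_card.1 h.pV
    obtain ⟨a, ha⟩ := (pgroup_of_card_p ((Nat.card_zpowers _).trans o)).nonempty_fixed_point_of_prime_not_dvd_card h.Pt
      fun d => n ((Nat.prime_dvd_prime_iff_eq hp Nat.prime_two).1 (hp.dvd_of_dvd_pow (hm ▸ h.cP ▸ d)))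
    have f : af δ ((x * y) ^ j) a.v = a.v := h.sm.1 (ha ⟨_, mem_zpowers _⟩)
    have := H1 (x * (x * y) ^ j) x a.v (by
      calc _ = x * (x * y) ^ j * x⁻¹ * (x * x) * (x * y) ^ j := by group
        _ = 1 := by rw [x2, ← conj_pow, t4_inv x2 y2, mul_one, inv_pow, inv_mul_cancel]) x2 (by rw [h.mul, f])
    rw [mul_eq_left.1 this, orderOf_one] at o
    exact hp.one_lt.ne o
  exact ne_one_of_ord hx ((this.trans_eq (h.nO2 (pcore_normal {2} ⊤).normal (Op_pgroup 2 ⊤))) (mem_zpowers x))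

theorem fix2 (hu : u * u = 1) (e : u * w * u⁻¹ = w⁻¹) (w1 : w ≠ 1) (hw : w ∈ X0) (hv : w • δ u = δ u) (h1 : δ u ≠ 1)
    (hc : w • c = c) : c ∈ zpowers (δ u) := by
  refine (Invol.mem_zpowers_invol (h.e2 _)).2 (by_contra fun n => w1 ?_)
  rw [not_or] at n
  obtain ⟨k, hk⟩ := h.sur c
  have k1 := (at1 k).trans hk
  have f : ∀ a, w • a = a → a ≠ c → (k⁻¹ * w * k) • af δ k⁻¹ a = af δ k⁻¹ a ∧ af δ k⁻¹ a ≠ 1 := fun a ha n =>
    ⟨by rw [← h.lin (h.mem.2 (h.conj k1 ((h.lin hw c).trans hc))), h.mul, h.mul, h.inv', h.lin hw, ha],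
      fun e => n (by rw [← h.inv' k a, e, k1])⟩
  obtain ⟨f1, n1⟩ := f 1 (smul_one w) (Ne.symm n.1)
  obtain ⟨f2, n2⟩ := f _ hv (Ne.symm n.2)
  obtain ⟨j, ej⟩ := h.tr _ _ n1 n2
  have c1 := mem_cent1.1 ((h.key (h.mem.2 (h.conj k1 ((h.lin hw c).trans hc))) n1 f1 (npow_mem_zpowers ρ j)).1 (ej ▸ f2))
  refine t4_odd (g := u * (k * ρ ^ j * k⁻¹)) (h.sodd (a := 1) ?_) (h.sodd (h.mem.1 hw)) ?_
  · rw [h.mul, h.mul, h.mul, h.lin (pow_mem h.hρ j), ej, h.inv', ← at1 (δ := δ) u, h.sq hu]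
  · calc _ = u * k * (ρ ^ j * (k⁻¹ * w * k)) * (ρ ^ j)⁻¹ * k⁻¹ * u⁻¹ := by group
      _ = _ := by rw [c1, ← e]; group

theorem wl {R : Subgroup X} (h1 : v ≠ 1) (R1 : R ≠ ⊥) (hR : R ≤ X0) (hv : ∀ r ∈ R, r • v = v)
    (f : ∀ r ∈ R, r ≠ 1 → ∀ c, r • c = c → c ∈ zpowers v) : Frob (zpowers ρ) R (zpowers ρ ⊔ R) ∧ Nat.card V = 2 ^ #R := by
  have := Nat.fact_prime_two
  have mz := fun {u} => Invol.mem_zpowers_invol (v := u) (h.e2 v)
  have cK := h.cnt (one_mem X0) h1 (one_smul X v)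
  rw [cent1_one, inf_top_eq, show fx V (1 : X) = ⊤ from eq_top_iff.2 fun u _ => one_smul X u, card_top] at cK
  have hL := Frob.mk' (hR.trans h.nK) (fun e => by have := h.c4; rw [e, card_bot] at cK; omega) R1
    fun r hr r1 => eq_bot_iff.2 fun g hg => h.reg hg.1 h1
      ((mz.1 (f r hr r1 _ ((h.key (hR hr) h1 (hv r hr) hg.1).2 hg.2))).resolve_left fun e => h1 (by
        rw [← inv_smul_smul g v, e, smul_one]))
  obtain ⟨m, hm⟩ := IsPGroup.iff_card.1 h.pV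
  obtain ⟨r, hr, r1⟩ := exists_ne_one R1
  refine ⟨hL, (t4_wiel hL (hm ▸ (Nat.coprime_two_left.2 (oddSg (sup_le h.KX hR) h.odd)).pow_left m)
    (fun u hu => by_contra fun n => hL.neK (eq_bot_iff.2 fun g hg => h.reg hg n (hu g hg)))
    fun u => ⟨fun hu => f r hr r1 u (hu r hr), fun hu s hs => ?_⟩).trans
      (by rw [orderOf_eq_prime (by rw [pow_two, h.e2]) h1])⟩
  rcases mz.1 hu with rfl | rfl
  exacts [smul_one s, hv s hs]

theorem gl : ∃ x y : X, x * x = 1 ∧ y * y = 1 ∧ SylowIn 2 (zpowers x ⊔ zpowers y) ⊤ := by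
  classical
  have := Nat.fact_prime_two
  obtain ⟨u, u', hu, hu', e, ne⟩ := h.exB
  have w0 : u * u' ∈ X0 := h.mem.2 (by rw [h.mul, at1, ← e, ← at1 (δ := δ) u, h.sq hu])
  have w1 : u * u' ≠ 1 := fun c => ne (by rw [eq_inv_of_mul_eq_one_left c, inv_eq_of_mul_eq_one_right hu'])
  have h1 : δ u ≠ 1 := fun c => ne (by
    have k : ∀ {u : X}, u * u = 1 → δ u = 1 → u = 1 := fun {u} hu c => by_contra fun n =>
      not_two_of_odd (h.sodd ((at1 u).trans c)) n (two_of_sq hu)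
    rw [k hu c, k hu' (e ▸ c)])
  have wv : (u * u') • δ u = δ u := by rw [← h.lin w0, h.mul, e, ← at1 (δ := δ) u', h.sq hu', at1, at1, e]
  have sv : ∀ g ∈ zpowers (u * u'), g • δ u = δ u := fun g hg =>
    (zpowers_le (H := MulAction.stabilizer X (δ u))).2 wv hg
  obtain ⟨p, hp, hd⟩ := exists_prime_dvd_card (zpowers_ne_bot.2 w1)
  obtain ⟨R, hR, cR⟩ := Cauchy_sub hp hd
  have R1 : R ≠ ⊥ := ne_bot_of_prime (cR ▸ hp)
  have po : Odd p := cR ▸ oddSg (hR.trans (zpowers_le.2 w0)) h.odd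
  obtain ⟨-, cV⟩ := h.wl h1 R1 (hR.trans (zpowers_le.2 w0)) (fun r hr => sv r (hR hr)) fun r hr r1 c hc => by
    refine h.fix2 hu ?_ r1 ((zpowers_le.2 w0) (hR hr)) (sv r (hR hr)) h1 hc
    obtain ⟨j, rfl⟩ := hR hr
    simp only []
    rw [← conj_zpow, t4_inv hu hu', inv_zpow]
  rw [cR] at cV
  have cK := h.cnt (one_mem X0) h1 (one_smul X _)
  rw [cent1_one, inf_top_eq, show fx V (1 : X) = ⊤ from eq_top_iff.2 fun u _ => one_smul X u, card_top] at cK
  have z : ∀ r ∈ X0, r • δ u = δ u → r ≠ 1 → ∀ c, r • c = c → c ∈ zpowers (δ u) := fun r hr rv r1 c hc => by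
    have c1 := h.cnt hr h1 rv
    obtain ⟨m, hm⟩ := IsPGroup.iff_card.1 (h.pV.to_subgroup (fx V r))
    have d : 2 ^ m - 1 ∣ 2 ^ p - 1 := by
      have := cardSg (inf_le_left (a := zpowers ρ) (b := C1[r]))
      rwa [show #(zpowers ρ) = 2 ^ p - 1 by omega, show #(zpowers ρ ⊓ C1[r] : Subgroup X) = 2 ^ m - 1 by omega] at this
    have g := Nat.pow_sub_one_gcd_pow_sub_one 2 m p
    rw [Nat.gcd_eq_left d] at g
    have : 2 ^ m = 2 ^ m.gcd p := by have := Nat.two_pow_pos m; have := Nat.two_pow_pos (m.gcd p); omega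
    have le : zpowers (δ u) ≤ fx V r := zpowers_le.2 rv
    rcases (Nat.dvd_prime hp).1 (Nat.pow_right_injective le_rfl this ▸ Nat.gcd_dvd_right m p : m ∣ p) with rfl | rfl
    · rw [eq_of_card_le le (by rw [hm, Nat.card_zpowers, orderOf_eq_prime (by rw [pow_two, h.e2]) h1]; rfl)]; exact hc
    · have := eq_top_of_card_eq _ (hm.trans cV.symm)
      exact absurd (eq_of_smul_eq_smul (α := V) fun a => by rw [one_smul]; exact this.ge (mem_top a)) r1
  let Φ := X0 ⊓ MulAction.stabilizer X (δ u)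
  have RΦ : R ≤ Φ := fun r hr => ⟨(zpowers_le.2 w0) (hR hr), sv r (hR hr)⟩
  obtain ⟨hL, cΦ⟩ := h.wl (R := Φ) h1 (fun c => R1 (le_bot_iff.1 (c ▸ RΦ))) inf_le_left (fun r hr => hr.2)
    fun r hr => z r hr.1 hr.2
  have eΦ : #Φ = p := Nat.pow_right_injective le_rfl (cΦ.symm.trans cV)
  let := Fintype.ofFinite h.Pt
  have cP : Fintype.card h.Pt = #(zpowers ρ) + 1 := by rw [← Nat.card_eq_fintype_card, h.cP, cK]
  have ab : (⟨1⟩ : h.Pt) ≠ ⟨δ u⟩ := fun c => h1 (congrArg Pt.v c).symm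
  have nv : ∀ {a b : h.Pt}, a ≠ b → a.v ≠ b.v := fun n c => n (Pt.ext c)
  have Z : IsZassenhausGroup X h.Pt := by
    refine ⟨⟨fun {g k} c => ?_⟩, MulAction.is_two_pretransitive_iff.2 fun {a b c d} n n' => ?_,
      fun g a b c ab bc ac ha hb hc => by_contra fun g1 => ?_,
      ⟨_, w1, _, _, ab, h.sm.2 (h.mem.1 w0), h.sm.2 ((h.lin w0 _).trans wv)⟩, fun N hN t => by_contra fun H => ?_⟩
    · have d : δ g = δ k := by rw [← at1 (δ := δ) g, ← at1 (δ := δ) k]; exact congrArg Pt.v (c ⟨1⟩)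
      exact eq_of_smul_eq_smul (α := V) fun a => mul_left_cancel (a := δ k) (by
        nth_rw 1 [← d]; exact congrArg Pt.v (c ⟨a⟩))
    · obtain ⟨g, g1, g2⟩ := h.two h1 (nv n)
      obtain ⟨k, k1, k2⟩ := h.two h1 (nv n')
      exact ⟨k * g⁻¹, h.sm.2 (by rw [h.mul, ← g1, h.inv, k1]), h.sm.2 (by rw [h.mul, ← g2, h.inv, k2])⟩
    · obtain ⟨k, k1, k2⟩ := h.two h1 (nv ab)
      have m := h.mem.2 (h.conj k1 (h.sm.1 ha))
      rcases (Invol.mem_zpowers_invol (h.e2 _)).1 (z _ m ((h.lin m _).symm.trans (h.conj k2 (h.sm.1 hb)))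
        (fun c => g1 (by rw [show g = k * (k⁻¹ * g * k) * k⁻¹ by group, c]; group)) _
        ((h.lin m _).symm.trans (h.conj (h.inv' k c.v) (h.sm.1 hc)))) with e | e
      · exact nv ac (by rw [← k1, ← e, h.inv'])
      · exact nv bc (by rw [← k2, ← e, h.inv'])
    · have i := MulAction.index_stabilizer_of_transitive N (⟨1⟩ : h.Pt)
      rw [by_contra fun c => H ⟨_, c⟩, index_bot, h.cP] at i
      have := h.c4
      rw [← i, h.nO2 hN (pgroup_of_card (i.trans cV)), card_bot] at this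
      omega
  have p3 : p = 3 := by
    have eq : X0 ⊓ MulAction.stabilizer X (⟨δ u⟩ : h.Pt) = Φ :=
      Subgroup.ext fun g => and_congr_right fun hg => h.sm.trans (by rw [h.lin hg]; rfl)
    rcases S0885.result Z ab _ p cP (by rw [← h.st, eq, eΦ]) po (zpowers ρ) (h.st ▸ h.KX) cP.symm
      (fun g hg g1 c hc => Pt.ext (by_contra fun n => g1 (h.reg hg n ((h.lin (h.KX hg) _).symm.trans (h.sm.1 hc))))) with
      c | ⟨-, ⟨a, b, c⟩, -⟩
    · have : ∀ n, 2 * (n + 4) + 2 < 2 ^ (n + 4) := fun n => by induction n with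
        | zero => decide
        | succ n ih => rw [show n + 1 + 4 = n + 4 + 1 by ring, pow_succ]; omega
      have := this (p - 4)
      have := hp.two_le
      obtain ⟨j, hj⟩ := po
      by_contra n
      rw [show p - 4 + 4 = p by omega] at *
      omega
    · exact absurd (Subtype.ext ((abelian_zpowers ρ).comm a.2 b.2)) c
  subst p3
  obtain ⟨f, hf⟩ := commGroup_GL (p := 2) (n := 3) (fun v : V => by rw [pow_two, h.e2]) cV
  refine t4_gl (f.comp (MulDistribMulAction.toMulAut X V)) (hf.comp fun g k c =>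
    eq_of_smul_eq_smul (α := V) fun a => DFunLike.congr_fun c a) ?_
  have := card_le_card (sup_le h.KX (inf_le_left : Φ ≤ X0))
  rw [← hL.sd.card, eΦ] at this
  rw [← h.cX, cV]; omega

end ZH
end

theorem lemZ {X V : Type*} [Group X] [Finite X] [CommGroup V] [Finite V] [MulDistribMulAction X V] [FaithfulSMul X V]
    (e2 : ∀ v : V, v * v = 1) (c4 : 4 ≤ Nat.card V) (δ : X → V) (hδ : ∀ g h, δ (g * h) = δ g * g • δ h)
    (sur : Function.Surjective δ) (X0 : Subgroup X) (h0 : ∀ g, g ∈ X0 ↔ δ g = 1) (odd : Odd #X0) (ρ : X) (hρ : ρ ∈ X0)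
    (tr : ∀ u v : V, u ≠ 1 → v ≠ 1 → ∃ k : ℕ, ρ ^ k • u = v) (nρ : ∀ g ∈ X0, ∃ k : ℕ, g * ρ * g⁻¹ = ρ ^ k) :
    (∃ x y : X, x * x = 1 ∧ y * y = 1 ∧ SylowIn 2 (zpowers x ⊔ zpowers y) ⊤) ∧
      ∀ u : X, u * u = 1 → ∃ P, SylowIn 2 P ⊤ ∧ P ≤ C1[u] := by
  have := Nat.fact_prime_two
  have h : ZH δ X0 ρ := ⟨e2, c4, hδ, sur, h0, odd, hρ, tr, nρ⟩
  refine ⟨h.gl, fun u hu => ?_⟩
  obtain ⟨P, hP, le⟩ := Sylow_superset le_top (two_of_sq hu).zpowers
  by_cases u1 : u = 1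
  · exact ⟨P, hP, by rw [u1, cent1_one]; exact le_top⟩
  obtain ⟨z, -, z2, c⟩ := Invol.exists_central_invol hP.pg fun e => u1 (mem_bot.1 (e ▸ le (mem_zpowers u)))
  obtain ⟨g, rfl⟩ := isConj_iff.1 (h.isConj z2 (orderOf_eq_prime (by rw [pow_two, hu]) u1))
  exact ⟨_, pHallJsub (mem_top g) hP, by rw [C1_conj]; exact cj_mono g fun s hs => mem_cent1.2 (c s hs)⟩

end Cfsg.Agent.JT2
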