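import Cfsg.Agent.JT2.T5a
import Cfsg.Agent.JT2.T4

/-! The exceptional case `Beta` of the chain is impossible when `G` has no subgroup of index 2. -/

set_option autoImplicit false
set_option linter.unusedSectionVars false

namespace Cfsg.Agent.JT2

open Cfsg.Agent.BG Subgroup
open scoped commutatorElement

variable {G : Type*} [Group G] [Finite G] {t ρ : G} {V Q : Subgroup G}

theorem beta (hG : ∀ H : Subgroup G, H.index ≠ 2) (h : CQ t V ρ Q) (b : Beta t V Q) : False := by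
  classical
  have a := b.1
  set K := N[(Q ⊔ zpowers t : Subgroup G)] with hK
  have KQ : K ≤ N[Q] := h.b5KQ a
  have KV : K ≤ N[V] := KQ.trans (h.b5QV' a)
  have NK : Q ⊔ zpowers t ≤ K := normG _
  obtain ⟨n, l1, l2, l3⟩ := h.b5lam a
  let _ : CommGroup V := { (inferInstance : Group V) with
    mul_comm := fun x y => Subtype.ext (h.b5comm a (h.VQ x.2) (h.VQ y.2)) }
  let f0 : K →* MulAut V := V.normalizerMonoidHom.comp (inclusion KV)
  let f := f0.rangeRestrict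
  have fs : Function.Surjective f := f0.rangeRestrict_surjective
  have fa : ∀ (g : K) (v : V), ((f g • v : V) : G) = g * v * (g : G)⁻¹ := fun g v => rfl
  have fk : ∀ g : K, f g = 1 ↔ (g : G) ∈ C[V] := fun g => by
    constructor
    · intro e
      refine mem_cent.2 fun v hv => ?_
      have := fa g ⟨v, hv⟩
      rw [e, one_smul] at this
      exact eq_mul_inv_iff_mul_eq.1 this
    · intro e
      refine eq_of_smul_eq_smul (α := V) fun v => Subtype.ext ?_
      rw [fa, one_smul, ← mem_cent.1 e v v.2, mul_inv_cancel_right]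
  let d : K → V := fun g => ⟨⁅(g : G), t⁆ ^ n, l1 _ (h.b5ku a g.2)⟩
  have dm : ∀ g k : K, d (g * k) = d g * f g • d k := fun g k => Subtype.ext (by
    have h1 := h.b5ku a g.2
    have h2 := conj_mem_of_norm (KQ g.2) (h.b5ku a k.2)
    have e : ⁅((g * k : K) : G), t⁆ = ⁅(g : G), t⁆ * (g * ⁅(k : G), t⁆ * (g : G)⁻¹) := by
      rw [h.b5comm a h1 h2]; simp only [commutatorElement_def, Subgroup.coe_mul]; group
    show ⁅((g * k : K) : G), t⁆ ^ n = ⁅(g : G), t⁆ ^ n * ((f g • d k : V) : G)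
    rw [fa, e, Commute.mul_pow (h.b5comm a h1 h2), conj_pow])
  have d1 : ∀ g : K, d g = 1 ↔ ∃ c ∈ Q, c⁻¹ * g ∈ C1[t] := fun g => by
    rw [Subtype.ext_iff]
    refine (l3 _ (h.b5ku a g.2)).trans (exists_congr fun c => and_congr_right fun hc => ?_)
    rw [← h.b5uq a hc, mem_cent1, commutatorElement_def, commutatorElement_def, mul_left_inj]
    constructor
    · intro e
      calc _ = c⁻¹ * (g * t * (g : G)⁻¹) * g := by group
        _ = _ := by rw [e]; group
    · intro e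
      calc _ = c * (c⁻¹ * g * t) * (g : G)⁻¹ := by group
        _ = _ := by rw [e]; group
  have dk : ∀ g : K, f g = 1 → d g = 1 := fun g e => by
    obtain ⟨c, hc, e⟩ := b.2.2 g ((fk g).1 e) g.2
    refine (d1 g).2 ⟨c, hc, mem_cent1.2 ?_⟩
    calc _ = c⁻¹ * (g * t * (g : G)⁻¹) * g := by group
      _ = _ := by rw [e]; group
  have dw : ∀ g k : K, f g = f k → d g = d k := fun g k e => by
    have := dm g (g⁻¹ * k)
    rw [mul_inv_cancel_left, dk (g⁻¹ * k) (by rw [map_mul, map_inv, e, inv_mul_cancel]), smul_one, mul_one] at this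
    exact this.symm
  let δ : f0.range → V := fun x => d (Function.surjInv fs x)
  have δf : ∀ g, δ (f g) = d g := fun g => dw _ _ (Function.surjInv_eq fs _)
  have ρK : ρ ∈ K := mem_norm_of_cj_le (by
    rintro _ ⟨u, hu, rfl⟩
    show ρ * u * ρ⁻¹ ∈ _
    rcases h.b5mem.1 hu with h1 | h1
    · exact mem_sup_left (conj_mem_of_norm h.ρQ h1)
    · refine h.b5mem.2 (Or.inr ?_)
      have := conj_mem_of_norm h.ρQ h1
      convert this using 1
      calc _ = ρ * u * ρ⁻¹ * (t * ρ) * ρ⁻¹ := by group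
        _ = _ := by rw [← mem_cent1.1 h.ρt]; group)
  have dC : ∀ g : K, (g : G) ∈ C1[t] → d g = 1 := fun g hg => (d1 g).2 ⟨1, one_mem _, by simpa using hg⟩
  have tr : ∀ u v : V, u ≠ 1 → v ≠ 1 → ∃ k : ℕ, f ⟨ρ, ρK⟩ ^ k • u = v := fun u v u1 v1 => by
    obtain ⟨k, e⟩ := h.tr u u.2 v v.2 (fun e => u1 (Subtype.ext e)) fun e => v1 (Subtype.ext e)
    exact ⟨k, Subtype.ext (by rw [← map_pow, fa]; exact e)⟩
  have ds : Function.Surjective d := by
    have : ∃ g, d g ≠ 1 := by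
      by_contra hn
      push Not at hn
      obtain ⟨P, hP, NP⟩ := Sylow_superset NK h.b5pN
      have e : P = Q ⊔ zpowers t := le_antisymm (fun g hg => by
        obtain ⟨c, hc, e⟩ := (d1 ⟨g, hP.le hg⟩).1 (hn _)
        have := h.b5SN (h.b5cap hP.pg NP (mul_mem (inv_mem (NP (mem_sup_left hc))) hg) e)
        simpa using mul_mem (mem_sup_left hc : c ∈ Q ⊔ zpowers t) this) NP
      rw [e] at hP
      exact b.2.1 (Sylow_subnorm (by rwa [top_inf_eq]))
    obtain ⟨g, hg⟩ := this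
    intro v
    by_cases v1 : v = 1
    · exact ⟨1, v1 ▸ dC 1 (one_mem _)⟩
    obtain ⟨k, e⟩ := tr _ v hg v1
    refine ⟨⟨ρ, ρK⟩ ^ k * g, ?_⟩
    rw [dm, dC _ (pow_mem h.ρt k), one_mul, map_pow, e]
  have z0 : ∀ q ∈ Q, ∃ g ∈ K, ⁅g, t⁆ = q := fun q hq => by
    obtain ⟨g, hg⟩ := ds ⟨q ^ n, l1 q hq⟩
    have h1 := h.b5ku a g.2
    have e : ⁅(g : G), t⁆ ^ n = q ^ n := congrArg Subtype.val hg
    obtain ⟨c, hc, e2⟩ := (l3 _ (mul_mem hq (inv_mem h1))).1 (by
      rw [Commute.mul_pow (h.b5comm a hq (inv_mem h1)), inv_pow, e, mul_inv_cancel])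
    refine ⟨c * g, mul_mem (NK (mem_sup_left hc)) g.2, ?_⟩
    have e3 : ⁅c * g, t⁆ = c * ⁅(g : G), t⁆ * c⁻¹ * ⁅c, t⁆ := by simp only [commutatorElement_def]; group
    rw [e3, h.b5comm a hc h1, mul_inv_cancel_right, h.b5uq a hc, ← e2, h.b5comm a hq (inv_mem h1), mul_inv_cancel_left]
  obtain ⟨⟨x, y, x2, y2, hS⟩, z2⟩ := lemZ (X := f0.range) (V := V) (fun v => Subtype.ext (h.eV v v.2)) h.c4 δ
    (fun x y => by
      obtain ⟨g, rfl⟩ := fs x
      obtain ⟨k, rfl⟩ := fs y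
      rw [← map_mul, δf, δf, δf, dm])
    (fun v => by obtain ⟨g, rfl⟩ := ds v; exact ⟨f g, δf g⟩) ((C1[t].subgroupOf K).map f)
    (fun x => by
      constructor
      · rintro ⟨g, hg, rfl⟩; rw [δf]; exact dC g hg
      · obtain ⟨g, rfl⟩ := fs x
        rw [δf, d1]
        rintro ⟨c, hc, e⟩
        refine ⟨(⟨c, NK (mem_sup_left hc)⟩ : K)⁻¹ * g, e, ?_⟩
        rw [map_mul, map_inv, (fk _).2 (h.QV hc), inv_one, one_mul])
    (by
      have h1 : SylowIn 2 (V ⊔ zpowers t) (C1[t] ⊓ K) :=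
        pHall_subl (le_inf h.syl.le (h.b5SN.trans NK)) inf_le_left h.syl
      have h2 := pHall_map f (pHall_subgroupOf (K := K) inf_le_right h1)
      rw [inf_subgroupOf_right] at h2
      have h3 : ((V ⊔ zpowers t).subgroupOf K).map f = ⊥ := by
        rw [Subgroup.map_eq_bot_iff]
        intro g hg
        refine (fk g).2 ((sup_le (h.VQ.trans h.QV) (zpowers_le.2 ?_) : V ⊔ zpowers t ≤ C[V]) hg)
        exact mem_cent.2 fun v hv => mem_cent1.1 (h.Vt hv)
      have h4 := h2.idx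
      rw [h3, relIndex_bot_left] at h4
      exact pnat_odd.1 h4)
    (f ⟨ρ, ρK⟩) ⟨_, h.ρt, rfl⟩ tr
    (by
      rintro _ ⟨g, hg, rfl⟩
      obtain ⟨k, e⟩ := h.nρ g hg (KV g.2)
      refine ⟨k, eq_of_smul_eq_smul (α := V) fun v => Subtype.ext ?_⟩
      rw [← map_inv, ← map_mul, ← map_mul, ← map_pow, fa, fa]
      exact e v v.2)
  have toG : ∀ {P : Subgroup K}, SylowIn 2 P ⊤ → SylowIn 2 (P.map K.subtype) K := fun hP => by
    have := pHall_map K.subtype hP
    rwa [← MonoidHom.range_eq_map, range_subtype] at this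
  obtain ⟨P, hP, -, eP⟩ := b_lift f fs hS IsPGroup.of_bot (by rw [Subgroup.map_bot]; exact bot_le)
  obtain ⟨x, xP, rfl⟩ : x ∈ P.map f := eP ▸ mem_sup_left (mem_zpowers x)
  obtain ⟨y, yP, rfl⟩ : y ∈ P.map f := eP ▸ mem_sup_right (mem_zpowers y)
  refine h.b5fin hG b (fun z hz hc => ?_) (toG hP) ⟨x, xP, rfl⟩ ⟨y, yP, rfl⟩ ((fk (x * x)).1 (by rw [map_mul, x2]))
    ((fk (y * y)).1 (by rw [map_mul, y2])) ?_
  · have z2' : z * z = 1 := by
      obtain ⟨c, rfl⟩ := isConj_iff.1 hc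
      calc _ = c * (t * t) * c⁻¹ := by group
        _ = 1 := by rw [h.t2]; group
    have z2'' : (⟨z, hz⟩ : K) * ⟨z, hz⟩ = 1 := Subtype.ext z2'
    have z3 : f ⟨z, hz⟩ * f ⟨z, hz⟩ = 1 := by rw [← map_mul, z2'', map_one]
    obtain ⟨S, hS, SC⟩ := z2 _ z3
    have zS : zpowers (f ⟨z, hz⟩) ≤ S := sub_Hall_of_norm hS le_top (IsPGroup.pi (b_pg z3))
      (Or.inl (zpowers_le.2 (cent_sub S (mem_cent.2 fun s hs => mem_cent1.1 (SC hs)))))
    obtain ⟨P, hP, zP, eP⟩ := b_lift f fs hS (b_pg z2'') (by rwa [MonoidHom.map_zpowers])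
    refine h.b5stepA b z0 hc (toG hP) ⟨_, zP (mem_zpowers _), rfl⟩ ?_
    rintro _ ⟨g, hg, rfl⟩
    refine (fk ⁅g, ⟨z, hz⟩⁆).1 ?_
    rw [map_commutatorElement, commutatorElement_eq_one_iff_mul_comm]
    exact mem_cent1.1 (SC (eP ▸ mem_map_of_mem f hg))
  · rintro _ ⟨g, hg, rfl⟩
    have : f g ∈ (zpowers x ⊔ zpowers y).map f := by
      rw [Subgroup.map_sup, MonoidHom.map_zpowers, MonoidHom.map_zpowers, ← eP]; exact mem_map_of_mem f hg
    obtain ⟨w, hw, e⟩ := this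
    refine ⟨w, ?_, (fk (w⁻¹ * g)).1 (by rw [map_mul, map_inv, e, inv_mul_cancel])⟩
    have := mem_map_of_mem K.subtype hw
    rwa [Subgroup.map_sup, MonoidHom.map_zpowers, MonoidHom.map_zpowers] at this

end Cfsg.Agent.JT2
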