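import Cfsg.Agent.JT2.A
import Cfsg.Agent.Invol.Transfer
import Cfsg.Agent.BG4.Base
import Cfsg.Agent.BG.S5

/-! The exceptional case `Beta` of the chain, part a: structure of `N = Q⟨t⟩`, and the final transfer argument. -/

set_option autoImplicit false
set_option linter.unusedSectionVars false

namespace Cfsg.Agent.JT2

open Cfsg.Agent.BG Subgroup
open scoped commutatorElement

variable {G : Type*} [Group G] [Finite G] {t ρ : G} {V Q P : Subgroup G}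

theorem b_mem (t2 : t * t = 1) (tN : t ∈ N[Q]) {g : G} : g ∈ Q ⊔ zpowers t ↔ g ∈ Q ∨ g * t ∈ Q := by
  have ti : t⁻¹ = t := inv_eq_of_mul_eq_one_right t2
  constructor
  · intro hg
    obtain ⟨q, hq, i, rfl⟩ := (BG4.mem_sup_zpowers tN).1 hg
    have e : t ^ (2 : ℤ) = 1 := by rw [zpow_two, t2]
    rcases Int.even_or_odd' i with ⟨k, rfl | rfl⟩
    · left; rwa [zpow_mul, e, one_zpow, mul_one]
    · right; rwa [zpow_add, zpow_mul, e, one_zpow, one_mul, zpow_one, mul_assoc, t2, mul_one]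
  · rintro (hg | hg)
    · exact mem_sup_left hg
    · have := mul_mem_sup hg (mem_zpowers t)
      rwa [mul_assoc, t2, mul_one] at this

theorem b_pg {y : G} (y2 : y * y = 1) : IsPGroup 2 (zpowers y) := by
  refine PiNat.pg (p_elt_zpowers.2 ?_)
  exact ((pnat_prime (π := {2}) Nat.prime_two).2 rfl).of_dvd (orderOf_dvd_of_pow_eq_one (x := y) (by rw [pow_two, y2]))

theorem b_cls {L K : Subgroup G} {x : G} (h : ∀ l ∈ L, ⁅l, x⁆ ∈ K) :
    C1[x].relIndex L = #K ↔ ∀ k ∈ K, ∃ l ∈ L, ⁅l, x⁆ = k := by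
  let φ : L ⧸ C1[x].subgroupOf L → K := fun q => ⟨⁅(q.out : G), x⁆, h _ q.out.2⟩
  have hinj : Function.Injective φ := by
    intro q r hqr
    rw [← q.out_eq, ← r.out_eq, QuotientGroup.eq, mem_subgroupOf, mem_cent1]
    have := congrArg Subtype.val hqr
    simp only [φ, commutatorElement_def, mul_left_inj] at this
    push_cast
    calc _ = (q.out : G)⁻¹ * ((r.out : G) * x * (r.out : G)⁻¹) * r.out := by group
      _ = _ := by rw [← this]; group
  constructor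
  · intro e k hk
    obtain ⟨q, hq⟩ := ((Nat.bijective_iff_injective_and_card φ).2 ⟨hinj, e⟩).2 ⟨k, hk⟩
    exact ⟨_, q.out.2, congrArg Subtype.val hq⟩
  · intro hs
    refine Nat.card_eq_of_bijective φ ⟨hinj, fun k => ?_⟩
    obtain ⟨l, hl, e⟩ := hs k k.2
    refine ⟨QuotientGroup.mk ⟨l, hl⟩, Subtype.ext ?_⟩
    obtain ⟨c, hc⟩ := QuotientGroup.mk_out_eq_mul (C1[x].subgroupOf L) (⟨l, hl⟩ : L)
    have h1 := mem_cent1.1 (mem_subgroupOf.1 c.2)
    simp only [φ, hc, ← e, commutatorElement_def]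
    push_cast
    calc _ = l * (((c : L) : G) * x) * ((c : L) : G)⁻¹ * l⁻¹ * x⁻¹ := by group
      _ = _ := by rw [h1]; group

theorem b_lift {K X : Type*} [Group K] [Finite K] [Group X] [Finite X] (f : K →* X) (hf : Function.Surjective f)
    {S : Subgroup X} (hS : SylowIn 2 S ⊤) {A : Subgroup K} (hA : IsPGroup 2 A) (hAS : A.map f ≤ S) :
    ∃ P, SylowIn 2 P ⊤ ∧ A ≤ P ∧ P.map f = S := by
  obtain ⟨P, hP, hle⟩ := Sylow_superset (map_le_iff_le_comap.1 hAS) hA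
  refine ⟨P, pHall_trans_idx hP le_top ?_, hle, ?_⟩
  · rw [relIndex_top_right, index_comap_of_surjective _ hf, ← relIndex_top_right]; exact hS.idx
  · have := pHall_map f hP
    rw [map_comap_eq_self_of_surjective hf] at this
    exact (Hall_max this this.le le_rfl hS.pi).symm

theorem b_sq {D : Type*} [Group D] {t x y : D} (t2 : t * t = 1) (x2 : x * x = 1) (y2 : y * y = 1)
    (tx : t * x = x * t) (ty : t * y = y * t) {w : D} (hw : w ∈ zpowers x ⊔ zpowers y) :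
    ∃ i : ℤ, w * w = (x * y) ^ i * (x * y) ^ i ∧ w * t * (w * t) = (x * y) ^ i * (x * y) ^ i := by
  have xi : x⁻¹ = x := inv_eq_of_mul_eq_one_right x2
  have yi : y⁻¹ = y := inv_eq_of_mul_eq_one_right y2
  have hc : x * (x * y) * x⁻¹ = (x * y)⁻¹ := by rw [mul_inv_rev, xi, yi, ← mul_assoc, x2, one_mul]
  have hi : ∀ i : ℤ, x * (x * y) ^ i = (x * y) ^ (-i) * x := fun i => by
    rw [zpow_neg, ← inv_zpow, ← hc, conj_zpow, inv_mul_cancel_right]
  have hwt : w ∈ C1[t] := (sup_le (zpowers_le.2 (mem_cent1.2 tx.symm)) (zpowers_le.2 (mem_cent1.2 ty.symm))) hw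
  have e : w * t * (w * t) = w * w := by
    calc _ = w * (t * w) * t := by group
      _ = w * w * (t * t) := by rw [← mem_cent1.1 hwt]; group
      _ = _ := by rw [t2, mul_one]
  rw [e]
  suffices H : ∃ i : ℤ, w = (x * y) ^ i ∨ w = (x * y) ^ i * x by
    obtain ⟨i, rfl | rfl⟩ := H
    · exact ⟨i, rfl, rfl⟩
    · have : (x * y) ^ i * x * ((x * y) ^ i * x) = 1 := by
        calc _ = (x * y) ^ i * (x * (x * y) ^ i) * x := by group
          _ = x * x := by rw [hi]; group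
          _ = 1 := x2
      exact ⟨0, by simpa using this, by simpa using this⟩
  rw [zpowers_eq_closure, zpowers_eq_closure, ← Subgroup.closure_union] at hw
  have sx : ∀ g : D, (∃ i : ℤ, g = (x * y) ^ i ∨ g = (x * y) ^ i * x) →
      ∃ i : ℤ, x * g = (x * y) ^ i ∨ x * g = (x * y) ^ i * x := by
    rintro g ⟨i, rfl | rfl⟩
    · exact ⟨-i, Or.inr (hi i)⟩
    · exact ⟨-i, Or.inl (by rw [← mul_assoc, hi, mul_assoc, x2, mul_one])⟩
  have sy : ∀ g : D, (∃ i : ℤ, g = (x * y) ^ i ∨ g = (x * y) ^ i * x) →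
      ∃ i : ℤ, y * g = (x * y) ^ i ∨ y * g = (x * y) ^ i * x := by
    intro g hg
    have ey : y * g = (x * y)⁻¹ * (x * g) := by
      rw [mul_inv_rev, xi, yi, mul_assoc, ← mul_assoc x x, x2, one_mul]
    obtain ⟨i, h | h⟩ := sx g hg
    · exact ⟨-1 + i, Or.inl (by rw [ey, h, zpow_add, zpow_neg_one])⟩
    · exact ⟨-1 + i, Or.inr (by rw [ey, h, zpow_add, zpow_neg_one, mul_assoc])⟩
  clear hwt e
  induction hw using closure_induction_left with
  | one => exact ⟨0, Or.inl (zpow_zero _).symm⟩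
  | mul_left a ha g _ ih =>
    rcases ha with rfl | rfl
    · exact sx g ih
    · exact sy g ih
  | inv_mul_cancel a ha g _ ih =>
    rcases ha with rfl | rfl
    · rw [xi]; exact sx g ih
    · rw [yi]; exact sy g ih

section
variable (h : CQ t V ρ Q) (a : All t Q)
include h

theorem CQ.b5ti : t⁻¹ = t := inv_eq_of_mul_eq_one_right h.t2
theorem CQ.b5mem {g : G} : g ∈ Q ⊔ zpowers t ↔ g ∈ Q ∨ g * t ∈ Q := b_mem h.t2 h.tN
theorem CQ.b5tm : t ∈ Q ⊔ zpowers t := mem_sup_right (mem_zpowers t)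
theorem CQ.b5pN : IsPGroup 2 (Q ⊔ zpowers t : Subgroup G) :=
  PiNat.pg (pgroupY (Or.inr (zpowers_le.2 h.tN)) (IsPGroup.pi h.pQ) (IsPGroup.pi (b_pg h.t2)))
theorem CQ.b5SN : V ⊔ zpowers t ≤ Q ⊔ zpowers t := sup_le_sup_right h.VQ _
theorem CQ.b5cap (pP : IsPGroup 2 P) (hP : Q ⊔ zpowers t ≤ P) {g : G} (hg : g ∈ P) (hc : g ∈ C1[t]) :
    g ∈ V ⊔ zpowers t := by
  have := Hall_max h.syl (le_inf (h.b5SN.trans hP) h.syl.le) inf_le_right (pgroupS inf_le_left (IsPGroup.pi pP))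
  exact this ▸ ⟨hg, hc⟩
theorem CQ.b5tV' : t ∈ N[V] := cent_sub V (mem_cent.2 fun _ hv => mem_cent1.1 (h.Vt hv))
theorem CQ.b5eS {g : G} (hg : g ∈ V ⊔ zpowers t) : g * g = 1 := by
  rcases (b_mem h.t2 h.b5tV').1 hg with hg | hg
  · exact h.eV g hg
  · have h1 := h.eV _ hg
    have h2 := mem_cent1.1 (h.syl.le ‹_›)
    calc g * g = g * g * (t * t) := by rw [h.t2, mul_one]
      _ = g * (g * t) * t := by group
      _ = g * (t * g) * t := by rw [h2]
      _ = g * t * (g * t) := by group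
      _ = 1 := h1
theorem CQ.b5nsq {z : G} (hz : IsConj t (z * z)) : False := by
  obtain ⟨c, hc⟩ := isConj_iff.1 hz.symm
  have e : (c * z * c⁻¹) * (c * z * c⁻¹) = t := by rw [← hc]; group
  set w := c * z * c⁻¹
  have hw : zpowers w ≤ C1[t] := zpowers_le.2 (mem_cent1.2 (by rw [← e]; group))
  have pw : IsPGroup 2 (zpowers w) := by
    refine PiNat.pg (p_elt_zpowers.2 ?_)
    refine (((pnat_prime (π := {2}) Nat.prime_two).2 rfl).mul ((pnat_prime (π := {2}) Nat.prime_two).2 rfl)).of_dvd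
      (orderOf_dvd_of_pow_eq_one (x := w) ?_)
    rw [pow_mul, pow_two, pow_two, e, h.t2]
  obtain ⟨g, _, hle⟩ := Sylow_Jsub h.syl hw pw
  have h1 := h.b5eS (hle (mem_cj.2 (show g⁻¹ * (g * w * g⁻¹) * g ∈ zpowers w by simp [mul_assoc])))
  have h2 : t = 1 := by
    rw [← e]
    calc w * w = g⁻¹ * (g * w * g⁻¹ * (g * w * g⁻¹)) * g := by group
      _ = 1 := by rw [h1]; group
  exact h.tV (h2 ▸ V.one_mem)
theorem CQ.b5cardC {y : G} (hy : IsConj t y) (pP : IsPGroup 2 P) : #(C1[y] ⊓ P) ≤ #(V ⊔ zpowers t) := by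
  obtain ⟨c, hc⟩ := isConj_iff.1 hy.symm
  rw [← card_cj c]
  refine Nat.le_of_dvd (cardG_pos _) (pgroup_card_dvd_Hall h.syl (fun g hg => ?_)
    (pgroupJ c (pgroupS inf_le_right (IsPGroup.pi pP))))
  have := mem_cent1.1 (mem_cj.1 hg).1
  rw [mem_cent1, ← hc]
  calc _ = c * (c⁻¹ * g * c * y) * c⁻¹ := by group
    _ = _ := by rw [this]; group

include a

theorem CQ.b5inv {u : G} (hu : u ∈ Q) : t * u * t = u⁻¹ := by
  obtain ⟨c, hc⟩ := isConj_iff.1 (a u hu)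
  have : t * u * (t * u) = 1 := by
    rw [← hc]
    calc _ = c * (t * t) * c⁻¹ := by group
      _ = 1 := by rw [h.t2]; group
  rw [eq_inv_iff_mul_eq_one, ← this]; group
theorem CQ.b5comm {u v : G} (hu : u ∈ Q) (hv : v ∈ Q) : u * v = v * u := by
  have h1 := h.b5inv a (mul_mem hu hv)
  have : t * (u * v) * t = t * u * t * (t * v * t) := by
    calc _ = t * u * (t * t) * v * t := by rw [h.t2]; group
      _ = _ := by group
  rw [this, h.b5inv a hu, h.b5inv a hv, ← mul_inv_rev, inv_inj] at h1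
  exact h1.symm
theorem CQ.b5om {u : G} (hu : u ∈ Q) (u2 : u * u = 1) : u ∈ V := by
  have h1 := h.b5inv a hu
  rw [inv_eq_of_mul_eq_one_right u2] at h1
  have hc : u ∈ C1[t] := mem_cent1.2 (by
    calc u * t = t * u * t * t := by rw [h1]
      _ = _ := by rw [mul_assoc, h.t2, mul_one])
  rcases (b_mem h.t2 h.b5tV').1 (h.b5cap h.b5pN le_rfl (mem_sup_left hu) hc) with h2 | h2
  · exact h2
  · exact (h.tQ (by simpa using mul_mem (inv_mem hu) (h.VQ h2))).elim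
theorem CQ.b5cjt {g : G} (hg : g * t ∈ Q) : IsConj t g := by
  have h1 := a _ (conj_mem_of_norm h.tN hg)
  have e : t * (t * (g * t) * t⁻¹) = g := by rw [← mul_assoc, ← mul_assoc, h.t2]; group
  rwa [e] at h1
theorem CQ.b5KQ : N[(Q ⊔ zpowers t : Subgroup G)] ≤ N[Q] := fun g hg => by
  refine mem_norm_of_cj_le fun u hu => ?_
  have h1 := mem_cj.1 hu
  have h2 := conj_mem_of_norm hg (mem_sup_left h1)
  have e : g * (g⁻¹ * u * g) * g⁻¹ = u := by group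
  rw [e] at h2
  rcases h.b5mem.1 h2 with h3 | h3
  · exact h3
  · exact (h.nc _ h1 ((h.b5cjt a h3).trans (isConj_iff.2 ⟨g⁻¹, by group⟩))).elim
theorem CQ.b5QV' : N[Q] ≤ N[V] := fun g hg => by
  refine mem_norm_of_cj_le fun u hu => ?_
  have h1 := mem_cj.1 hu
  have h2 := conj_mem_of_norm hg (h.VQ h1)
  have e : g * (g⁻¹ * u * g) * g⁻¹ = u := by group
  rw [e] at h2
  refine h.b5om a h2 ?_
  calc u * u = g * (g⁻¹ * u * g * (g⁻¹ * u * g)) * g⁻¹ := by group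
    _ = 1 := by rw [h.eV _ h1]; group
theorem CQ.b5ku {g : G} (hg : g ∈ N[(Q ⊔ zpowers t : Subgroup G)]) : ⁅g, t⁆ ∈ Q := by
  rcases h.b5mem.1 (conj_mem_of_norm hg h.b5tm) with h3 | h3
  · exact (h.nc _ h3 (isConj_iff.2 ⟨g, rfl⟩)).elim
  · rwa [commutatorElement_def, h.b5ti]
theorem CQ.b5uq {b : G} (hb : b ∈ Q) : ⁅b, t⁆ = b * b := by
  rw [commutatorElement_def, h.b5ti, mul_assoc, mul_assoc, ← mul_assoc t, h.b5inv a (inv_mem hb), inv_inv]
theorem CQ.b5lam : ∃ n : ℕ, (∀ b ∈ Q, b ^ n ∈ V) ∧ (∀ v ∈ V, ∃ b ∈ Q, b ^ n = v) ∧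
    (∀ b ∈ Q, b ^ n = 1 ↔ ∃ c ∈ Q, b = c * c) := by
  classical
  have hex : ∃ k : ℕ, ∀ b ∈ Q, b ^ 2 ^ k = 1 := by
    obtain ⟨k, hk⟩ := IsPGroup.iff_card.1 h.pQ
    refine ⟨k, fun b hb => ?_⟩
    have := congrArg Subtype.val (pow_card_eq_one' (x := (⟨b, hb⟩ : Q)))
    rwa [hk] at this
  have hV : V ≠ ⊥ := fun e => by have := h.c4; rw [e, card_bot] at this; omega
  obtain ⟨k, hk⟩ : ∃ k, Nat.find hex = k + 1 := Nat.exists_eq_succ_of_ne_zero fun e => hV (eq_bot_iff.2 fun v hv => by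
    have := Nat.find_spec hex v (h.VQ hv)
    rwa [e, pow_zero, pow_one] at this)
  have h1 := Nat.find_spec hex
  rw [hk] at h1
  have h2 := Nat.find_min hex (show k < Nat.find hex by omega)
  push Not at h2
  obtain ⟨b0, hb0, b1⟩ := h2
  have p1 : ∀ b ∈ Q, b ^ 2 ^ k ∈ V := fun b hb => h.b5om a (pow_mem hb _) (by rw [← pow_two, ← pow_mul, ← pow_succ, h1 b hb])
  have p2 : ∀ v ∈ V, ∃ b ∈ Q, b ^ 2 ^ k = v := fun v hv => by
    by_cases v1 : v = 1
    · exact ⟨1, one_mem _, by rw [one_pow, v1]⟩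
    obtain ⟨j, hj⟩ := h.tr _ (p1 b0 hb0) v hv b1 v1
    exact ⟨_, conj_mem_of_norm (pow_mem h.ρQ j) hb0, by rw [conj_pow, hj]⟩
  refine ⟨2 ^ k, p1, p2, ?_⟩
  let _ : CommGroup Q := { (inferInstance : Group Q) with mul_comm := fun x y => Subtype.ext (h.b5comm a x.2 y.2) }
  have k1 : (powMonoidHom 2 : Q →* Q).ker = (powMonoidHom (2 ^ k) : Q →* Q).range := by
    ext x
    rw [MonoidHom.mem_ker, MonoidHom.mem_range]
    constructor
    · intro hx
      obtain ⟨b, hb, e⟩ := p2 x (h.b5om a x.2 (by rw [← pow_two]; exact congrArg Subtype.val hx))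
      exact ⟨⟨b, hb⟩, Subtype.ext e⟩
    · rintro ⟨b, rfl⟩
      exact Subtype.ext (by
        show ((b : G) ^ 2 ^ k) ^ 2 = 1
        rw [← pow_mul, ← pow_succ, h1 b b.2])
  have k2 : (powMonoidHom 2 : Q →* Q).range ≤ (powMonoidHom (2 ^ k) : Q →* Q).ker := by
    rintro _ ⟨b, rfl⟩
    exact Subtype.ext (by
      show ((b : G) ^ 2) ^ 2 ^ k = 1
      rw [← pow_mul, ← pow_succ', h1 b b.2])
  have c1 := (powMonoidHom 2 : Q →* Q).ker.card_mul_index
  have c2 := (powMonoidHom (2 ^ k) : Q →* Q).ker.card_mul_index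
  rw [index_ker] at c1 c2
  rw [k1, ← c2, mul_comm] at c1
  have k3 := eq_of_le_of_card_ge k2 (Nat.eq_of_mul_eq_mul_right Nat.card_pos c1).ge
  intro b hb
  constructor
  · intro e
    obtain ⟨c, hc⟩ : (⟨b, hb⟩ : Q) ∈ (powMonoidHom 2 : Q →* Q).range := k3 ▸ (Subtype.ext e : (⟨b, hb⟩ : Q) ^ 2 ^ k = 1)
    exact ⟨c, c.2, by rw [← pow_two]; exact (congrArg Subtype.val hc).symm⟩
  · rintro ⟨c, hc, rfl⟩
    rw [← pow_two, ← pow_mul, ← pow_succ', h1 c hc]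

omit a in
theorem CQ.b5ker2 (b : Beta t V Q) (pP : IsPGroup 2 P) (hP : Q ⊔ zpowers t ≤ P) {g : G} (hg : g ∈ P)
    (gK : g ∈ N[(Q ⊔ zpowers t : Subgroup G)]) (gC : g ∈ C[V]) : g ∈ Q ⊔ zpowers t := by
  obtain ⟨c, hc, e⟩ := b.2.2 g gC gK
  have h1 := h.b5cap pP hP (mul_mem (inv_mem (hP (mem_sup_left hc))) hg) (mem_cent1.2 (by
    calc _ = c⁻¹ * (g * t * g⁻¹) * g := by group
      _ = _ := by rw [e]; group))
  simpa using mul_mem (mem_sup_left hc : c ∈ Q ⊔ zpowers t) (h.b5SN h1)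

omit a in
theorem CQ.b5NP (hP : SylowIn 2 P N[(Q ⊔ zpowers t : Subgroup G)]) : Q ⊔ zpowers t ≤ P :=
  normal_sub_Hall hP ⟨normG _, le_rfl⟩ (IsPGroup.pi h.b5pN)

omit a in
theorem CQ.b5stepA (b : Beta t V Q) (z0 : ∀ q ∈ Q, ∃ g ∈ N[(Q ⊔ zpowers t : Subgroup G)], ⁅g, t⁆ = q)
    {y : G} (hy : IsConj t y) (hP : SylowIn 2 P N[(Q ⊔ zpowers t : Subgroup G)]) (yP : y ∈ P)
    (hc : ∀ g ∈ P, ⁅g, y⁆ ∈ C[V]) : y ∈ Q ⊔ zpowers t := by
  have a := b.1
  have NP := h.b5NP hP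
  have y2 : y * y = 1 := by
    obtain ⟨c, rfl⟩ := isConj_iff.1 hy
    calc _ = c * (t * t) * c⁻¹ := by group
      _ = 1 := by rw [h.t2]; group
  have yi : y⁻¹ = y := inv_eq_of_mul_eq_one_right y2
  by_contra hn
  have h1 : ∀ g ∈ P, ⁅g, y⁆ ∈ Q := fun g hg => by
    have gy : ⁅g, y⁆ ∈ P := by
      rw [commutatorElement_def]; exact mul_mem (mul_mem (mul_mem hg yP) (inv_mem hg)) (inv_mem yP)
    rcases h.b5mem.1 (h.b5ker2 b hP.pg NP gy (hP.le gy) (hc g hg)) with h2 | h2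
    · exact h2
    exfalso
    obtain ⟨k, hk, e⟩ := z0 _ h2
    have e1 : ⁅g, y⁆ = k * t * k⁻¹ := by
      rw [commutatorElement_def k, h.b5ti, mul_left_inj] at e; exact e.symm
    have e2 : g * y * g⁻¹ = k * t * k⁻¹ * y := by rw [← e1, commutatorElement_def]; group
    have e3 : k * t * k⁻¹ * y * (k * t * k⁻¹ * y) = 1 := by
      rw [← e2]
      calc _ = g * (y * y) * g⁻¹ := by group
        _ = 1 := by rw [y2]; group
    have e4 : k⁻¹ * y * k ∈ C1[t] := mem_cent1.2 (by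
      calc _ = k⁻¹ * (k * t * k⁻¹) * (k * t * k⁻¹ * y * (k * t * k⁻¹ * y)) * y⁻¹ * k := by
            calc _ = (t * t) * (k⁻¹ * y * k * t) := by rw [h.t2, one_mul]
              _ = _ := by group
        _ = _ := by rw [e3, yi]; group)
    have hN : cj k⁻¹ (Q ⊔ zpowers t) = Q ⊔ zpowers t := cj_of_norm (inv_mem hk)
    have h3 := h.b5SN (h.b5cap (P := cj k⁻¹ P) (PiNat.pg (pgroupJ _ hP.pi)) (hN ▸ cj_mono _ NP)
      (mem_cj.2 (by simpa [mul_assoc] using yP)) e4)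
    exact hn (by simpa [mul_assoc] using conj_mem_of_norm hk h3)
  have c1 := (b_cls fun l hl => h.b5ku a hl).2 z0
  have c2 := card_inf_mul_relIndex C1[t] N[(Q ⊔ zpowers t : Subgroup G)]
  have c3 : #(V ⊔ zpowers t) * #Q ∣ #P := by
    rw [card_Hall hP]
    refine dvd_partn (cardG_ne_zero _) (h.syl.pi.mul (IsPGroup.pi h.pQ)) ?_
    rw [← c2, c1]
    exact Nat.mul_dvd_mul_right (cardSg (le_inf h.syl.le (h.b5SN.trans (normG _)))) _
  have c4 := card_inf_mul_relIndex C1[y] P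
  have c5 := h.b5cardC hy hP.pg
  have c6 := relIndex_cent1_le_comm h1
  have c7 : C1[y].relIndex P = #Q := by
    refine le_antisymm c6 (Nat.le_of_mul_le_mul_left ?_ (cardG_pos (V ⊔ zpowers t)))
    exact (Nat.le_of_dvd (cardG_pos _) c3).trans (c4 ▸ Nat.mul_le_mul_right _ c5)
  refine hn (h.b5ker2 b hP.pg NP yP (hP.le yP) (mem_cent.2 fun v hv => ?_))
  obtain ⟨g, _, e⟩ := (b_cls h1).1 c7 v (h.VQ hv)
  have e2 : g * y * g⁻¹ = v * y := by rw [← e, commutatorElement_def]; group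
  have e3 : v * y * (v * y) = 1 := by
    rw [← e2]
    calc _ = g * (y * y) * g⁻¹ := by group
      _ = 1 := by rw [y2]; group
  rw [← inv_eq_of_mul_eq_one_right e3, mul_inv_rev, yi, inv_eq_of_mul_eq_one_right (h.eV v hv)]

omit a in
theorem CQ.b5fin (hG : ∀ H : Subgroup G, H.index ≠ 2) (b : Beta t V Q)
    (hA : ∀ y ∈ N[(Q ⊔ zpowers t : Subgroup G)], IsConj t y → y ∈ Q ⊔ zpowers t)
    (hP : SylowIn 2 P N[(Q ⊔ zpowers t : Subgroup G)]) {x y : G} (xP : x ∈ P) (yP : y ∈ P)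
    (x2 : x * x ∈ C[V]) (y2 : y * y ∈ C[V]) (hxy : ∀ g ∈ P, ∃ w ∈ zpowers x ⊔ zpowers y, w⁻¹ * g ∈ C[V]) : False := by
  have a := b.1
  have NP := h.b5NP hP
  have hA' : ∀ y ∈ P, IsConj t y → y * t ∈ Q := fun y hy hc =>
    (h.b5mem.1 (hA y (hP.le hy) hc)).resolve_left fun e => h.nc y e hc
  have hS : SylowIn 2 P ⊤ := by
    refine Sylow_subnorm (pHall_subl (le_inf le_top (normG P)) (fun g hg => ?_) hP)
    have h1 : ∀ u, u * t ∈ Q → g⁻¹ * u * g ∈ Q ⊔ zpowers t := fun u hu =>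
      h.b5mem.2 (Or.inr (hA' _ (conj_mem_of_norm' hg.2 (NP (h.b5mem.2 (Or.inr hu))))
        ((h.b5cjt a hu).trans (isConj_iff.2 ⟨g⁻¹, by group⟩))))
    have h2 := h1 t (h.t2 ▸ one_mem Q)
    refine (inv_mem_iff).1 (mem_norm_of_cj_le ?_)
    rintro _ ⟨u, hu, rfl⟩
    show g⁻¹ * u * g⁻¹⁻¹ ∈ _
    rw [inv_inv]
    rcases h.b5mem.1 hu with h3 | h3
    · have := mul_mem (h1 (u * t) (by rwa [mul_assoc, h.t2, mul_one])) (inv_mem h2)
      simpa [mul_assoc] using this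
    · exact h1 u h3
  have sqQ : ∀ g ∈ P, g * g ∈ C[V] → g * g ∈ Q := fun g hg hc =>
    (h.b5mem.1 (h.b5ker2 b hP.pg NP (mul_mem hg hg) (hP.le (mul_mem hg hg)) hc)).resolve_right fun e => h.b5nsq (h.b5cjt a e)
  have PQ : P ≤ N[Q] := hP.le.trans (h.b5KQ a)
  have tP : t ∈ P := NP h.b5tm
  have : (Q.subgroupOf P).Normal := (normal_subgroupOf_iff_le_normalizer (le_sup_left.trans NP)).2 PQ
  let π := QuotientGroup.mk' (Q.subgroupOf P)
  have hπ : ∀ g : P, π g = 1 ↔ (g : G) ∈ Q := fun g => QuotientGroup.eq_one_iff g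
  have ct : ∀ g : P, π ⟨t, tP⟩ * π g = π g * π ⟨t, tP⟩ := fun g => by
    have : π (g * ⟨t, tP⟩ * g⁻¹ * ⟨t, tP⟩⁻¹) = 1 := (hπ _).2 (h.b5ku a (hP.le g.2))
    rw [map_mul, map_mul, map_mul, map_inv, map_inv, mul_inv_eq_one, mul_inv_eq_iff_eq_mul] at this
    exact this.symm
  have hsq : ∀ g ∈ P, ∃ i : ℤ, ((x * y) ^ i * (x * y) ^ i)⁻¹ * (g * g) ∈ Q := fun g hg => by
    obtain ⟨w, hw, e⟩ := hxy g hg
    have wP : w ∈ P := (sup_le (zpowers_le.2 xP) (zpowers_le.2 yP)) hw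
    have h1 := h.b5ker2 b hP.pg NP (mul_mem (inv_mem wP) hg) (hP.le (mul_mem (inv_mem wP) hg)) e
    have hw' : π ⟨w, wP⟩ ∈ zpowers (π ⟨x, xP⟩) ⊔ zpowers (π ⟨y, yP⟩) := by
      rw [← MonoidHom.map_zpowers, ← MonoidHom.map_zpowers, ← Subgroup.map_sup]
      refine mem_map_of_mem _ ?_
      rw [← mem_map_iff_mem P.subtype_injective, Subgroup.map_sup, MonoidHom.map_zpowers, MonoidHom.map_zpowers]
      exact hw
    obtain ⟨i, h2, h3⟩ := b_sq (t := π ⟨t, tP⟩) (by rw [← map_mul, hπ]; show t * t ∈ Q; rw [h.t2]; exact one_mem Q)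
      (by rw [← map_mul, hπ]; exact sqQ x xP x2) (by rw [← map_mul, hπ]; exact sqQ y yP y2) (ct _) (ct _) hw'
    refine ⟨i, ?_⟩
    have key : π ⟨g, hg⟩ * π ⟨g, hg⟩ = (π ⟨x, xP⟩ * π ⟨y, yP⟩) ^ i * (π ⟨x, xP⟩ * π ⟨y, yP⟩) ^ i := by
      rcases h.b5mem.1 h1 with h4 | h4
      · have : π (⟨w, wP⟩⁻¹ * ⟨g, hg⟩) = 1 := (hπ _).2 h4
        rw [map_mul, map_inv, inv_mul_eq_one] at this
        rw [← this, h2]
      · have : π (⟨w, wP⟩⁻¹ * ⟨g, hg⟩ * ⟨t, tP⟩⁻¹) = 1 := (hπ _).2 (by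
          show w⁻¹ * g * t⁻¹ ∈ Q
          rwa [h.b5ti])
        rw [map_mul, map_mul, map_inv, map_inv, mul_inv_eq_one, inv_mul_eq_iff_eq_mul] at this
        rw [this, h3]
    have : π (((⟨x, xP⟩ * ⟨y, yP⟩) ^ i * (⟨x, xP⟩ * ⟨y, yP⟩) ^ i)⁻¹ * (⟨g, hg⟩ * ⟨g, hg⟩)) = 1 := by
      rw [map_mul, map_inv, map_mul, map_mul, map_zpow, map_mul, key, inv_mul_cancel]
    exact (hπ _).1 this
  have cP : x * y ∈ P := mul_mem xP yP
  have cN : x * y * (x * y) ∈ N[Q] := PQ (mul_mem cP cP)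
  have hR : (Q ⊔ zpowers (x * y * (x * y))) ∈
      {M : Subgroup G | M ≤ P ∧ Q ≤ M ∧ t ∉ M ∧ ∀ g ∈ P, g * g ∈ M} := by
    refine ⟨sup_le (le_sup_left.trans NP) (zpowers_le.2 (mul_mem cP cP)), le_sup_left, fun ht => ?_, fun g hg => ?_⟩
    · obtain ⟨q, hq, i, e⟩ := (BG4.mem_sup_zpowers cN).1 ht
      refine h.b5nsq (z := (x * y) ^ i) (h.b5cjt a ?_)
      rw [← Commute.mul_zpow (Commute.refl _), eq_inv_mul_iff_mul_eq.2 e, mul_assoc, h.t2, mul_one]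
      exact inv_mem hq
    · obtain ⟨i, hi⟩ := hsq g hg
      rw [← Commute.mul_zpow (Commute.refl _)] at hi
      have := mul_mem (mem_sup_right (zpow_mem_zpowers _ i) : _ ∈ Q ⊔ zpowers (x * y * (x * y))) (mem_sup_left hi)
      rwa [mul_inv_cancel_left] at this
  obtain ⟨M, ⟨MP, QM, tM, sM⟩, hmax⟩ := Set.Finite.exists_maximal (Set.toFinite _) ⟨_, hR⟩
  have hi : M.relIndex P = 2 := by
    have h2 : ∀ g ∈ P, g ∉ M → g * t ∈ M := fun g hg gM => by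
      have gN : g ∈ N[M] := mem_norm_of_cj_le (by
        rintro _ ⟨m, hm, rfl⟩
        have := mul_mem (mul_mem (sM _ (mul_mem hg (MP hm))) (inv_mem hm)) (sM _ (inv_mem hg))
        show g * m * g⁻¹ ∈ M
        simpa [mul_assoc] using this)
      have tM' : t ∈ M ⊔ zpowers g := by
        by_contra hn
        exact gM (hmax ⟨sup_le MP (zpowers_le.2 hg), QM.trans le_sup_left, hn, fun k hk => mem_sup_left (sM k hk)⟩
          le_sup_left (mem_sup_right (mem_zpowers g)))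
      obtain ⟨m, hm, i, e⟩ := (BG4.mem_sup_zpowers gN).1 tM'
      have g2 : ∀ k : ℤ, g ^ (2 * k) ∈ M := fun k => by rw [zpow_mul, zpow_two]; exact zpow_mem (sM g hg) k
      rcases Int.even_or_odd' i with ⟨k, rfl | rfl⟩
      · exact (tM (e ▸ mul_mem hm (g2 k))).elim
      · have := mul_mem (conj_mem_of_norm gN hm) (g2 (k + 1))
        rw [← e]
        convert this using 1
        rw [mul_add, zpow_add, zpow_add]; group
    rw [relIndex, index_eq_two_iff]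
    refine ⟨⟨t, tP⟩, fun g => ?_⟩
    simp only [mem_subgroupOf, Subgroup.coe_mul]
    by_cases hg : (g : G) ∈ M
    · exact Or.inr ⟨hg, fun e => tM (by simpa using mul_mem (inv_mem hg) e)⟩
    · exact Or.inl ⟨h2 g g.2 hg, hg⟩
  obtain ⟨S, rfl⟩ := sylow_of_sylowIn_top hS
  obtain ⟨g, h1, h2⟩ := Invol.thompson_transfer hG S hi h.t2 tP
  have := QM (hA' _ h1 (isConj_iff.2 ⟨g, rfl⟩))
  have h3 := mul_mem (inv_mem h2) this
  rw [inv_mul_cancel_left] at h3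
  exact tM h3

end

end Cfsg.Agent.JT2
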