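import Cfsg.Agent.JT2.A

/-! The dihedral frame `DF`: basic fusion facts, `S = ⟨c, s, t⟩` is not Sylow in a simple group (`d1`) and has index `≠ 2` in a
Sylow 2-subgroup of a perfect group (`d3`). -/

set_option autoImplicit false
set_option linter.unusedSectionVars false

namespace Cfsg.Agent.JT2

open Cfsg.Agent.BG Subgroup
open scoped commutatorElement

variable {G : Type*} [Group G] [Finite G] {t c s x y d m g a : G} {n : ℕ} {T : Subgroup G}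

/-- elements normalizing `N` whose commutator with `v` lies in `N` -/
def cK6 (N : Subgroup G) (v : G) : Subgroup G where
  carrier := {k | k ∈ N[N] ∧ ⁅k, v⁆ ∈ N}
  one_mem' := ⟨one_mem _, by rw [commutatorElement_one_left]; exact one_mem _⟩
  mul_mem' := fun {a b} ha hb => ⟨mul_mem ha.1 hb.1, by
    rw [show ⁅a * b, v⁆ = a * ⁅b, v⁆ * a⁻¹ * ⁅a, v⁆ by simp only [commutatorElement_def]; group]
    exact mul_mem (conj_mem_of_norm ha.1 hb.2) ha.2⟩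
  inv_mem' := fun {a} ha => ⟨inv_mem ha.1, by
    rw [show ⁅a⁻¹, v⁆ = a⁻¹ * ⁅a, v⁆⁻¹ * a by simp only [commutatorElement_def]; group]
    exact conj_mem_of_norm' ha.1 (inv_mem ha.2)⟩

theorem mem_of_sq_odd {H : Subgroup G} (h : x * x ∈ H) {k : ℕ} (hk : Odd k) (h' : x ^ k ∈ H) : x ∈ H := by
  obtain ⟨j, rfl⟩ := hk
  rw [pow_succ, pow_mul, sq] at h'
  exact (Subgroup.mul_mem_cancel_left _ (pow_mem h j)).1 h'

theorem pg_of_sq (h : x * x = 1) : IsPGroup 2 (zpowers x) := Loc.isPGroup_zpowers_of_pow (k := 1) (by rw [pow_one, sq, h])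

theorem cyc_quot {M : Subgroup G} [(M.subgroupOf T).Normal] (hy : y ∈ T) (h : ∀ x ∈ T, ∃ k : ℕ, (y ^ k)⁻¹ * x ∈ M) :
    IsCyclic (T ⧸ M.subgroupOf T) := ⟨⟨((⟨y, hy⟩ : T) : T ⧸ M.subgroupOf T), fun q => by
  obtain ⟨x, rfl⟩ := QuotientGroup.mk_surjective q
  obtain ⟨k, hk⟩ := h x x.2
  exact ⟨k, by beta_reduce; rw [zpow_natCast, ← QuotientGroup.mk_pow]; exact QuotientGroup.eq.2 hk⟩⟩⟩

namespace DF
local notation "z" => c ^ 2 ^ (n + 1)
local notation "D" => zpowers c ⊔ zpowers s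
local notation "S" => zpowers c ⊔ zpowers s ⊔ zpowers t
variable (h : DF t c s n)
include h

theorem tinv : t⁻¹ = t := inv_eq_of_mul_eq_one_right h.t2
theorem sinv : s⁻¹ = s := inv_eq_of_mul_eq_one_right h.s2
theorem t1 : t ≠ 1 := fun e => h.tD (e ▸ one_mem _)
theorem zz : z * z = 1 := by rw [← pow_add, ← two_mul, ← pow_succ', ← h.oc, pow_orderOf_eq_one]
theorem z1 : z ≠ 1 := pow_ne_one_of_lt_orderOf (by positivity) (by rw [h.oc]; exact Nat.pow_lt_pow_right one_lt_two (by omega))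
omit h in
theorem uu : c ^ 2 ^ n * c ^ 2 ^ n = z := by rw [← pow_add, ← two_mul, ← pow_succ']
theorem cc : c * c ≠ 1 := fun e => by
  have := orderOf_dvd_of_pow_eq_one (n := 2) (x := c) (by rw [sq, e])
  rw [h.oc] at this
  exact absurd (Nat.le_of_dvd two_pos this) (Nat.pow_lt_pow_right (a := 2) (m := 1) one_lt_two (by omega)).not_ge
theorem sck (k : ℕ) : s * c ^ k * s⁻¹ = (c ^ k)⁻¹ := by rw [← conj_pow, h.sc, inv_pow]
theorem sz : s * z * s⁻¹ = z := (h.sck _).trans (inv_eq_of_mul_eq_one_right h.zz)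
theorem sN : s ∈ N[zpowers c] := mem_norm.2 (by rw [cj_zpowers, h.sc, zpowers_inv])

theorem invC (hx : x ∈ zpowers c) (e : x * x = 1) : x = 1 ∨ x = z := by
  refine or_iff_not_imp_left.2 fun x1 => ?_
  have := Loc.eq_of_isCyclic_of_mul_self (A := zpowers c) (a := ⟨x, hx⟩) (u := ⟨z, pow_mem (mem_zpowers c) _⟩) (Subtype.ext e)
    (fun e => x1 (congrArg Subtype.val e)) (Subtype.ext h.zz) fun e => h.z1 (congrArg Subtype.val e)
  exact congrArg Subtype.val this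

theorem memD (hx : x ∈ D) : x ∈ zpowers c ∨ ∃ k : ℕ, x = c ^ k * s := by
  obtain ⟨a, ha, b, hb, rfl⟩ := (mem_sup_norml (zpowers_le.2 h.sN)).1 hx
  rcases (Sig.mem_zp2 (by rw [sq, h.s2])).1 hb with rfl | rfl
  · exact .inl (by rwa [mul_one])
  · obtain ⟨k, rfl⟩ := (mem_powers_iff_mem_zpowers.2 ha :)
    exact .inr ⟨k, rfl⟩

theorem Dt : D ≤ C1[t] := sup_le (zpowers_le.2 h.ct) (zpowers_le.2 h.st)
theorem St : S ≤ C1[t] := h.syl.le

theorem memS (hx : x ∈ S) : x ∈ D ∨ ∃ d ∈ D, x = d * t := by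
  obtain ⟨a, ha, b, hb, rfl⟩ := (mem_sup_norml (zpowers_le.2 (cent_sub _ (le_cent1_iff.1 h.Dt)))).1 hx
  rcases (Sig.mem_zp2 (by rw [sq, h.t2])).1 hb with rfl | rfl
  · exact .inl (by rwa [mul_one])
  · exact .inr ⟨a, ha, rfl⟩

theorem sq_dt (hd : d ∈ D) : d * t * (d * t) = d * d := by
  rw [mul_assoc, ← mul_assoc t, ← mem_cent1.1 (h.Dt hd), mul_assoc, h.t2, mul_one]

theorem sqS (hx : x ∈ S) : x * x ∈ D := by
  rcases h.memS hx with e | ⟨d, hd, rfl⟩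
  · exact mul_mem e e
  · rw [h.sq_dt hd]; exact mul_mem hd hd

/-- `t` is not a square -/
theorem nsq : y * y ≠ t := fun e => by
  obtain ⟨g, hg, l⟩ := Sylow_Jsub h.syl (zpowers_le.2 (show y ∈ C1[t] from mem_cent1.2 (by rw [← e, mul_assoc])))
    (Loc.isPGroup_zpowers_of_pow (k := 2) (by rw [show 2 ^ 2 = 2 + 2 from rfl, pow_add, sq, e, h.t2]))
  have := h.sqS (l (conj_mem_cj g (mem_zpowers y)))
  rw [show g * y * g⁻¹ * (g * y * g⁻¹) = g * (y * y) * g⁻¹ by group, e, mem_cent1.1 hg, mul_inv_cancel_right] at this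
  exact h.tD this

theorem invD (hd : d ∈ D) (e : d * d = 1) : d = 1 ∨ ∃ ρ ∈ C1[t], ρ * z * ρ⁻¹ = d := by
  rcases h.memD hd with m | ⟨k, rfl⟩
  · exact (h.invC m e).imp id fun e => ⟨1, one_mem _, by rw [e]; group⟩
  · exact .inr (let ⟨ρ, h1, h2, _⟩ := h.fus k; ⟨ρ, h1, h2⟩)

theorem conj_sq (g : G) : g * t * g⁻¹ * (g * t * g⁻¹) = 1 := by
  rw [show g * t * g⁻¹ * (g * t * g⁻¹) = g * (t * t) * g⁻¹ by group, h.t2]; group

/-- no conjugate of `t` lies in `D` -/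
theorem ncD (g : G) : g * t * g⁻¹ ∉ D := fun m => by
  rcases h.invD m (h.conj_sq g) with e | ⟨ρ, -, e⟩
  · exact h.t1 (by simpa using e)
  · exact h.nsq (y := g⁻¹ * ρ * c ^ 2 ^ n * ρ⁻¹ * g) (by
      rw [show t = g⁻¹ * (g * t * g⁻¹) * g by group, ← e, ← uu]; group)

theorem invS (hx : x ∈ S) (e : x * x = 1) : x ∈ D ∨ x = t ∨ ∃ ρ, ρ * (z * t) * ρ⁻¹ = x := by
  rcases h.memS hx with m | ⟨d, hd, rfl⟩
  · exact .inl m
  rw [h.sq_dt hd] at e
  rcases h.invD hd e with rfl | ⟨ρ, h1, rfl⟩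
  · exact .inr (.inl (one_mul t))
  · exact .inr (.inr ⟨ρ, by rw [← mul_assoc, mul_assoc _ t, mem_cent1.1 (inv_mem h1) |>.symm]; group⟩)

theorem cenD (hd : d ∈ D) (e : d * d = 1) (hc : d ∈ C1[c]) : d = 1 ∨ d = z := by
  rcases h.memD hd with m | ⟨k, rfl⟩
  · exact h.invC m e
  refine absurd ?_ h.cc
  have := (Subgroup.mul_mem_cancel_left _ (pow_mem (cent1_self c) k)).1 hc
  have e := h.sc
  rw [mem_cent1.1 this, mul_inv_cancel_right] at e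
  exact mul_eq_one_iff_eq_inv.2 e

omit h in
theorem cS : c ∈ S := mem_sup_left (mem_sup_left (mem_zpowers c))
omit h in
theorem sS : s ∈ S := mem_sup_left (mem_sup_right (mem_zpowers s))
omit h in
theorem tS : t ∈ S := mem_sup_right (mem_zpowers t)

theorem Sz : S ≤ C1[z] := sup_le (sup_le (zpowers_le.2 (mem_cent1.2 (pow_mul_comm' c _).symm))
  (zpowers_le.2 (mem_cent1.2 (mul_inv_eq_iff_eq_mul.1 h.sz)))) (zpowers_le.2 (mem_cent1_comm.1 (pow_mem h.ct _)))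

omit h in
theorem conj_cen (hm : m ∈ N[S]) (hx : S ≤ C1[x]) : m * x * m⁻¹ ∈ C1[c] := by
  have := cj_mono m hx
  rw [cj_of_norm hm, ← C1_conj] at this
  exact mem_cent1_comm.1 (this cS)

theorem nz (hm : m ∈ N[S]) : m * z * m⁻¹ = z := by
  refine (h.cenD ?_ ?_ (conj_cen hm h.Sz)).resolve_left fun e => h.z1 (by simpa using e)
  · have := h.sqS (conj_mem_of_norm hm (pow_mem cS (2 ^ n)))
    rwa [show m * c ^ 2 ^ n * m⁻¹ * (m * c ^ 2 ^ n * m⁻¹) = m * (c ^ 2 ^ n * c ^ 2 ^ n) * m⁻¹ by group, uu] at this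
  · rw [show m * z * m⁻¹ * (m * z * m⁻¹) = m * (z * z) * m⁻¹ by group, h.zz]; group

theorem nt (hm : m ∈ N[S]) : m * t * m⁻¹ = t ∨ m * t * m⁻¹ = z * t := by
  obtain ⟨d, hd, e⟩ := (h.memS (conj_mem_of_norm hm tS)).resolve_left (h.ncD m)
  have k := conj_cen hm h.St
  have k2 := h.conj_sq m
  rw [e] at k k2 ⊢
  rw [h.sq_dt hd] at k2
  exact (h.cenD hd k2 ((Subgroup.mul_mem_cancel_right _ (mem_cent1_comm.1 h.ct)).1 k)).imp (fun e => by rw [e, one_mul]) fun e => by rw [e]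

theorem nD (hg : g * t * g⁻¹ = z * t) : N[S] ≤ N[D] := fun m hm => by
  have k : ∀ k : ℕ, m * (c ^ k * s) * m⁻¹ ∈ D := fun k => by
    have m0 : c ^ k * s ∈ D := mul_mem_sup (pow_mem (mem_zpowers c) k) (mem_zpowers s)
    refine (h.invS (conj_mem_of_norm hm (mem_sup_left m0)) ?_).resolve_right ?_
    · calc _ = m * (c ^ k * (s * c ^ k * s⁻¹) * (s * s)) * m⁻¹ := by group
        _ = 1 := by rw [h.sck, h.s2]; group
    · rintro (e | ⟨ρ, e⟩)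
      · exact h.ncD m⁻¹ (by rw [← e]; simpa [mul_assoc] using m0)
      · exact h.ncD (m⁻¹ * ρ * g) (by
          rw [show m⁻¹ * ρ * g * t * (m⁻¹ * ρ * g)⁻¹ = m⁻¹ * (ρ * (g * t * g⁻¹) * ρ⁻¹) * m by group, hg, e]; simpa [mul_assoc] using m0)
  refine mem_norm_of_cj_le (by
    rw [cj_sup, cj_zpowers, cj_zpowers]
    refine sup_le (zpowers_le.2 ?_) (zpowers_le.2 (by simpa using k 0))
    have := mul_mem (k 1) (inv_mem (k 0))
    rwa [show m * (c ^ 1 * s) * m⁻¹ * (m * (c ^ 0 * s) * m⁻¹)⁻¹ = m * c * m⁻¹ by group] at this)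

theorem nC (hm : m ∈ N[D]) : m ∈ N[zpowers c] := mem_norm_of_cj_le (by
  rw [cj_zpowers]
  refine zpowers_le.2 ((h.memD (conj_mem_of_norm hm (mem_sup_left (mem_zpowers c)))).resolve_right fun ⟨k, e⟩ => h.cc ?_)
  calc _ = m⁻¹ * (m * c * m⁻¹ * (m * c * m⁻¹)) * m := by group
    _ = m⁻¹ * (c ^ k * (s * c ^ k * s⁻¹) * (s * s)) * m := by rw [e]; group
    _ = 1 := by rw [h.sck, h.s2]; group)

end DF

theorem d1 [IsSimpleGroup G] (ns : ¬ Group.IsSolvable (⊤ : Subgroup G)) (h : DF t c s n) :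
    ¬ SylowIn 2 (zpowers c ⊔ zpowers s ⊔ zpowers t) ⊤ := fun hS => by
  refine Gold.zstar ns hS DF.tS h.t2 h.t1 fun g hg => ?_
  rcases h.invS hg (h.conj_sq g) with e | e | ⟨ρ, e⟩
  · exact absurd e (h.ncD g)
  · exact e
  exfalso
  have e1 : ρ⁻¹ * g * t * (ρ⁻¹ * g)⁻¹ = c ^ 2 ^ (n + 1) * t := by
    rw [show ρ⁻¹ * g * t * (ρ⁻¹ * g)⁻¹ = ρ⁻¹ * (g * t * g⁻¹) * ρ by group, ← e]; group
  generalize ρ⁻¹ * g = g at e1
  have l : zpowers c ⊔ zpowers s ⊔ zpowers t ≤ C1[c ^ 2 ^ (n + 1) * t] :=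
    le_cent1_iff.2 (mul_mem (le_cent1_iff.1 h.Sz) (le_cent1_iff.1 h.St))
  obtain ⟨k, hk, e2⟩ := Sylow_trans (pHall_subl (by rw [← e1, C1_conj]; exact cj_mono g h.St) le_top (cj_top g ▸ pHallJ g hS))
    (pHall_subl l le_top hS)
  have hm : k * g ∈ N[zpowers c ⊔ zpowers s ⊔ zpowers t] := mem_norm.2 (by rw [cj_mul]; exact e2.symm)
  have e3 : k * g * t * (k * g)⁻¹ = c ^ 2 ^ (n + 1) * t := by
    rw [show k * g * t * (k * g)⁻¹ = k * (g * t * g⁻¹) * k⁻¹ by group, e1, mem_cent1.1 hk, mul_inv_cancel_right]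
  generalize k * g = m at hm e3
  have h0 := (orderOf_pos m).ne'
  have m2 : m * m ∈ C1[t] := mem_cent1.2 (mul_inv_eq_iff_eq_mul.1 (by
    calc _ = m * (m * t * m⁻¹) * m⁻¹ := by group
      _ = m * (c ^ 2 ^ (n + 1) * t) * m⁻¹ := by rw [e3]
      _ = m * c ^ 2 ^ (n + 1) * m⁻¹ * (m * t * m⁻¹) := by group
      _ = t := by rw [h.nz hm, e3, ← mul_assoc, h.zz, one_mul]))
  have := mem_of_sq_odd m2 (Nat.coprime_two_left.1 (Nat.coprime_ordCompl Nat.prime_two h0)) (h.St (zpowers_le.1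
    (sub_Hall_of_norm hS le_top (IsPGroup.pi (Loc.isPGroup_zpowers_of_pow (k := (orderOf m).factorization 2) (by
      rw [← pow_mul, mul_comm, Nat.ordProj_mul_ordCompl_eq_self, pow_orderOf_eq_one]))) (.inl (zpowers_le.2 (pow_mem hm _))))))
  rw [mem_cent1.1 this, mul_inv_cancel_right] at e3
  exact h.z1 (by simpa using e3.symm)

theorem d3 (hG : commutator G = ⊤) (h : DF t c s n) (hT : SylowIn 2 T ⊤) (hS : zpowers c ⊔ zpowers s ⊔ zpowers t ≤ T) :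
    (zpowers c ⊔ zpowers s ⊔ zpowers t).relIndex T ≠ 2 := fun hi => by
  set S := zpowers c ⊔ zpowers s ⊔ zpowers t with hSd
  set D := zpowers c ⊔ zpowers s with hDd
  set z := c ^ 2 ^ (n + 1) with hz
  have two : ∀ {R : Subgroup G}, R.relIndex T = 2 → ∀ {x y : G}, x ∈ T → y ∈ T → x ∉ R → y ∉ R → x * y ∈ R := fun e x y hx hy a b =>
    (mul_mem_iff_of_index_two e (a := ⟨x, hx⟩) (b := ⟨y, hy⟩)).2 (iff_of_false a b)
  have nS : T ≤ N[S] := (normal_of_subgroupOf hS (normal_of_index_eq_two hi)).2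
  have CT : ∀ x ∈ T, x ∈ C1[t] → x ∈ S := fun x a b =>
    (Hall_max h.syl (le_inf hS h.St) inf_le_right (pgroupS inf_le_left hT.pi)).le ⟨a, b⟩
  have mv : ∀ x ∈ T, x ∉ S → x * t * x⁻¹ = z * t := fun x a b =>
    (h.nt (nS a)).resolve_left fun e => b (CT x a (mem_cent1.2 (mul_inv_eq_iff_eq_mul.1 e)))
  obtain ⟨a, aT, aS⟩ : ∃ a ∈ T, a ∉ S := SetLike.not_le_iff_exists.1 fun l => by rw [relIndex_eq_one.2 l] at hi; omega
  have nD : T ≤ N[D] := nS.trans (h.nD (mv a aT aS))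
  have zD : z ∈ D := mem_sup_left (pow_mem (mem_zpowers c) _)
  have gen : ∀ {b : G} {K : Subgroup G}, b ∈ T → b ∉ S → S ≤ K → b ∈ K → T ≤ K := fun bT bS l m x hx => by
    by_cases e : x ∈ S
    · exact l e
    · exact (Subgroup.mul_mem_cancel_right _ m).1 (l (two hi hx bT e bS))
  have TT : ∀ M : Subgroup G, M ≤ T → T ≤ N[M] → t ∉ M → ∀ y ∈ T, (∀ x ∈ T, ∃ k : ℕ, (y ^ k)⁻¹ * x ∈ M) →
      ∃ g, g * t * g⁻¹ ∈ M ∧ cj g S ≤ T := fun M l1 l2 m y hy k => by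
    haveI := NormalIn.subgroupOf ⟨l1, l2⟩
    exact Loc.thompson_transfer_cyclic (by
      have := hT.not_dvd; rw [relIndex_top_right] at this; exact Nat.not_even_iff_odd.1 fun e => this e.two_dvd)
      (cyc_quot hy k) h.t2 (hS DF.tS) m l1 (hG ▸ mem_top t) h.syl.pg h.St
  have DT : D ≤ T := le_sup_left.trans hS
  by_cases aa : a * a ∈ D
  swap
  · obtain ⟨d₀, h₀, e₀⟩ := (h.memS (two hi aT aT aS aS)).resolve_left aa
    have k : ∀ x ∈ S, ∃ k : ℕ, (a ^ k)⁻¹ * x ∈ D := fun x hx => by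
      rcases h.memS hx with m | ⟨d, hd, rfl⟩
      · exact ⟨0, by simpa using m⟩
      · refine ⟨2, ?_⟩
        rw [sq, e₀, show (d₀ * t)⁻¹ * (d * t) = t⁻¹ * (d₀⁻¹ * d) * t by group]
        exact conj_mem_of_norm' (nD (hS DF.tS)) (mul_mem (inv_mem h₀) hd)
    obtain ⟨g, m, -⟩ := TT D DT nD h.tD a aT fun x hx => by
      by_cases e : x ∈ S
      · exact k x e
      · obtain ⟨j, hj⟩ := k _ (two hi (inv_mem aT) hx (fun m => aS (inv_mem_iff.1 m)) e)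
        exact ⟨j + 1, by rwa [pow_succ', mul_inv_rev, mul_assoc]⟩
    exact h.ncD g m
  have mM : ∀ x ∈ D ⊔ zpowers a, x ∈ S → x ∈ D := fun x hx m => by
    obtain ⟨d, hd, b, hb, rfl⟩ := (mem_sup_norml (zpowers_le.2 (nD aT))).1 hx
    obtain ⟨k, rfl⟩ := (mem_powers_iff_mem_zpowers.2 hb :)
    rcases Nat.even_or_odd k with ⟨j, rfl⟩ | o
    · exact mul_mem hd (by change a ^ (j + j) ∈ D; rw [← two_mul, pow_mul, sq]; exact pow_mem aa j)
    · exact absurd (mem_of_sq_odd (mem_sup_left aa) o ((Subgroup.mul_mem_cancel_left _ (mem_sup_left hd)).1 m)) aS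
  have tM : t ∈ N[D ⊔ zpowers a] := mem_norm_of_cj_le (by
    rw [cj_sup, cj_of_norm (nD (hS DF.tS)), cj_zpowers]
    refine sup_le le_sup_left (zpowers_le.2 ?_)
    rw [show t * a * t⁻¹ = t * (a * t * a⁻¹)⁻¹ * a by group, mv a aT aS, show t * (z * t)⁻¹ = z⁻¹ by group]
    exact mul_mem_sup (inv_mem zD) (mem_zpowers a))
  obtain ⟨g, m, l⟩ := TT (D ⊔ zpowers a) (sup_le DT (zpowers_le.2 aT)) (gen aT aS (sup_le (normsG le_sup_left) (zpowers_le.2 tM))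
    (normG _ (mem_sup_right (mem_zpowers a)))) (fun m => h.tD (mM t m DF.tS)) t (hS DF.tS) fun x hx => by
      have k : ∀ x ∈ S, ∃ k : ℕ, (t ^ k)⁻¹ * x ∈ D := fun x hx => by
        rcases h.memS hx with m | ⟨d, hd, rfl⟩
        · exact ⟨0, by simpa using m⟩
        · exact ⟨1, by rw [pow_one, ← mul_assoc]; exact conj_mem_of_norm' (nD (hS DF.tS)) hd⟩
      by_cases e : x ∈ S
      · exact let ⟨j, hj⟩ := k x e; ⟨j, mem_sup_left hj⟩
      · obtain ⟨j, hj⟩ := k _ (two hi hx (inv_mem aT) e fun m => aS (inv_mem_iff.1 m))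
        exact ⟨j, by simpa [mul_assoc] using mul_mem_sup hj (mem_zpowers a)⟩
  have bS : g * t * g⁻¹ ∉ S := fun e => h.ncD g (mM _ m e)
  have bT : g * t * g⁻¹ ∈ T := sup_le DT (zpowers_le.2 aT) m
  have lC : cj g S ≤ C1[g * t * g⁻¹] := by rw [C1_conj]; exact cj_mono g h.St
  have ri : (cj g S).relIndex T = 2 := Nat.eq_of_mul_eq_mul_left (cardG_pos S) (by
    rw [← hi, card_mul_relIndex hS, ← card_mul_relIndex l, card_cj])
  generalize g * t * g⁻¹ = b at bS bT lC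
  have bt := mv b bT bS
  have bz : b * z * b⁻¹ = z := h.nz (nS bT)
  have sz := h.sz
  obtain ⟨x₁, xT, xS, xs⟩ : ∃ x ∈ T, x ∉ S ∧ x * s * x⁻¹ = s := by
    by_cases e : s ∈ cj g S
    · exact ⟨b, bT, bS, by rw [← mem_cent1.1 (lC e), mul_inv_cancel_right]⟩
    have k := mem_cent1.1 (lC (two ri (hS DF.tS) (hS DF.sS) (fun m => bS (CT b bT (mem_cent1_comm.1 (lC m)))) e))
    refine ⟨b * c ^ 2 ^ n, mul_mem bT (pow_mem (hS DF.cS) _), fun m => bS ((Subgroup.mul_mem_cancel_right _ (pow_mem DF.cS _)).1 m), ?_⟩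
    have k2 : b * s * b⁻¹ = z * s := by
      calc _ = (b * t * b⁻¹)⁻¹ * (b * (t * s)) * b⁻¹ := by group
        _ = t⁻¹ * z⁻¹ * t * s := by rw [← k, bt]; group
        _ = _ := by rw [mul_assoc t⁻¹, mem_cent1.1 (h.Dt (inv_mem zD)), inv_eq_of_mul_eq_one_right h.zz, inv_mul_cancel_left]
    calc _ = b * (c ^ 2 ^ n * (s * c ^ 2 ^ n * s⁻¹)⁻¹) * b⁻¹ * (b * s * b⁻¹) := by group
      _ = _ := by rw [h.sck, inv_inv, DF.uu, bz, k2, ← mul_assoc, h.zz, one_mul]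
  have xt := mv x₁ xT xS
  have xz : x₁ * z * x₁⁻¹ = z := h.nz (nS xT)
  have nC : T ≤ N[zpowers c] := fun x hx => h.nC (nD hx)
  have der : ∀ x ∈ T, ∀ y ∈ T, ⁅x, y⁆ ∈ zpowers c := by
    have g4 : ∀ y ∈ T, ⁅s, y⁆ ∈ zpowers c → ⁅t, y⁆ ∈ zpowers c → ⁅x₁, y⁆ ∈ zpowers c → ∀ x ∈ T, ⁅x, y⁆ ∈ zpowers c :=
      fun y hy a1 a2 a3 x hx => (gen (K := cK6 (zpowers c) y) xT xS (sup_le (sup_le (zpowers_le.2 ⟨nC (hS DF.cS), by
        rw [commutatorElement_def, mul_assoc, mul_assoc, ← mul_assoc y]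
        exact mul_mem (mem_zpowers c) (conj_mem_of_norm (nC hy) (inv_mem (mem_zpowers c)))⟩) (zpowers_le.2 ⟨nC (hS DF.sS), a1⟩))
          (zpowers_le.2 ⟨nC (hS DF.tS), a2⟩)) ⟨nC xT, a3⟩ hx).2
    have sw : ∀ {x y : G}, ⁅x, y⁆ ∈ zpowers c → ⁅y, x⁆ ∈ zpowers c := fun m => by rw [← commutatorElement_inv]; exact inv_mem m
    have o : ∀ {x y : G}, x * y = y * x → ⁅x, y⁆ ∈ zpowers c := fun e => by
      rw [commutatorElement_eq_one_iff_mul_comm.2 e]; exact one_mem _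
    have c1 : ⁅x₁, t⁆ ∈ zpowers c := by rw [commutatorElement_def, xt, mul_inv_cancel_right]; exact pow_mem (mem_zpowers c) _
    have c2 := o (mul_inv_eq_iff_eq_mul.1 xs)
    have c3 := o (mem_cent1.1 h.st)
    exact fun x hx y hy => g4 y hy (sw (g4 s (hS DF.sS) (o rfl) (sw c3) c2 y hy)) (sw (g4 t (hS DF.tS) c3 (o rfl) c1 y hy))
      (sw (g4 x₁ xT (sw c2) (sw c1) (o rfl) y hy)) x hx
  obtain ⟨ρ, ρt, ρz, ρs⟩ := h.fus 0
  rw [pow_zero, one_mul] at ρz ρs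
  have cV : ∀ {x : G}, x ∈ C1[z] → x ∈ C1[s] → x ∈ C[zpowers z ⊔ zpowers s] := fun a b => by
    rw [cent_sup, C_zpowers, C_zpowers]; exact ⟨a, b⟩
  set X := C[zpowers z ⊔ zpowers s] ⊓ cK6 (zpowers z ⊔ zpowers s) t
  have mX : ∀ {x v : G}, x ∈ C1[z] → x ∈ C1[s] → v ∈ zpowers z ⊔ zpowers s → x * t * x⁻¹ = v * t → x ∈ X := fun a b m e =>
    ⟨cV a b, cent_sub _ (cV a b), by rwa [commutatorElement_def, e, mul_inv_cancel_right]⟩
  have tX : t ∈ X := mX (h.Sz DF.tS) (mem_cent1_comm.1 h.st) (one_mem _) (by group)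
  obtain ⟨P, hP, tP⟩ := Loc.exists_sylIn_ge (zpowers_le.2 tX) (pg_of_sq h.t2)
  have oX : pResidualOf 2 X ≤ C1[t] := Loc.pResidualOf_le_iff.2 fun x hx o => mem_of_sq_odd (k := orderOf x) (mem_cent1.2 (by
    obtain ⟨v, hv, w, hw, e⟩ := (mem_sup_norml (zpowers_le.2 (cent_sub _ (by
      rw [C_zpowers]; exact h.Sz DF.sS)))).1 hx.2.2
    have e2 : ⁅x, t⁆ * ⁅x, t⁆ = 1 := by
      rw [e]
      rcases (Sig.mem_zp2 (by rw [sq, h.zz])).1 hv with rfl | rfl <;> rcases (Sig.mem_zp2 (by rw [sq, h.s2])).1 hw with rfl | rfl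
      · simp
      · simpa using h.s2
      · simpa using h.zz
      · calc _ = z * (w * z * w⁻¹) * (w * w) := by group
          _ = 1 := by rw [sz, h.s2, mul_one]; exact h.zz
    calc _ = x * ⁅x, t⁆ * x⁻¹ * ⁅x, t⁆ * (t * (x * x)) := by simp only [commutatorElement_def]; group
      _ = _ := by rw [conj_eq_of_cent hx.1 hx.2.2, e2, one_mul])) (Nat.coprime_two_right.1 o) (by rw [pow_orderOf_eq_one]; exact one_mem _)
  obtain ⟨k, -, lk⟩ := Sylow_Jsub hT le_top hP.pg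
  have fin : ∀ {x v : G}, x ∈ X → x * t * x⁻¹ = v * t → v * v = 1 → v ≠ 1 → k * v * k⁻¹ = z := fun {x v} hx e v2 v1 => by
    obtain ⟨y, hy, o, ho, rfl⟩ := (mem_sup_normr (hP.le.trans (Loc.le_normalizer_pResidualOf 2 X))).1
      ((hP.pResidualOf_sup.ge.trans (sup_comm _ _).le) hx)
    have := der _ (lk (conj_mem_cj k hy)) _ (lk (conj_mem_cj k (tP (mem_zpowers t))))
    rw [show y * o * t * (y * o)⁻¹ = y * (o * t * o⁻¹) * y⁻¹ by group, mem_cent1.1 (oX ho), mul_inv_cancel_right] at e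
    rw [show ⁅k * y * k⁻¹, k * t * k⁻¹⁆ = k * (y * t * y⁻¹ * t⁻¹) * k⁻¹ by simp only [commutatorElement_def]; group, e,
      mul_inv_cancel_right] at this
    exact (h.invC this (by rw [show k * v * k⁻¹ * (k * v * k⁻¹) = k * (v * v) * k⁻¹ by group, v2]; group)).resolve_left
      fun e => v1 (by simpa using e)
  have a1 : x₁ ∈ C1[z] := mem_cent1.2 (mul_inv_eq_iff_eq_mul.1 xz)
  have a2 : x₁ ∈ C1[s] := mem_cent1.2 (mul_inv_eq_iff_eq_mul.1 xs)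
  have b1 : ρ * x₁ * ρ⁻¹ ∈ C1[s] := by rw [← ρz, C1_conj]; exact conj_mem_cj ρ a1
  have b2 : ρ * x₁ * ρ⁻¹ ∈ C1[z * s] := by rw [← ρs, C1_conj]; exact conj_mem_cj ρ a2
  have b3 : ρ * x₁ * ρ⁻¹ * t * (ρ * x₁ * ρ⁻¹)⁻¹ = s * t := by
    calc _ = ρ * (x₁ * (ρ⁻¹ * t) * ρ * x₁⁻¹) * ρ⁻¹ := by group
      _ = ρ * z * ρ⁻¹ * (ρ * t * ρ⁻¹) := by rw [mem_cent1.1 (inv_mem ρt), mul_assoc x₁, inv_mul_cancel_right, xt]; group
      _ = _ := by rw [ρz, mem_cent1.1 ρt, mul_inv_cancel_right]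
  have f1 := fin (mX a1 a2 (mem_sup_left (mem_zpowers z)) xt) xt h.zz h.z1
  have f2 := fin (mX (mem_cent1_comm.1 ((Subgroup.mul_mem_cancel_right _ (mem_cent1_comm.1 b1)).1 (mem_cent1_comm.1 b2))) b1
    (mem_sup_right (mem_zpowers s)) b3) b3 h.s2 fun e => h.sC (e ▸ one_mem _)
  exact h.sC ((mul_left_cancel (mul_right_cancel (f1.trans f2.symm)) : z = s) ▸ pow_mem (mem_zpowers c) _)

end Cfsg.Agent.JT2
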