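import Cfsg.Agent.JT2.A

/-! The dihedral frame `DF`: normal forms (`D7.memD`, `D7.memS`), `t` is not a square (`D7.nsq`), involutions of `D` are not
conjugate to `t` (`D7.invD`), `t ~ tz` when `S` is not Sylow (`D7.tz`, `D7.invT`), conjugation and shift invariance
(`D7.conj`, `D7.shift`), and `d4`: if `|T : S| > 2` then `n = 0` and a four-group of `D` is normal in a Sylow 2-subgroup. -/

set_option autoImplicit false
set_option linter.dupNamespace false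
set_option linter.unusedSectionVars false
set_option linter.unusedVariables false

namespace Cfsg.Agent.JT2

open Cfsg.Agent.BG Subgroup

variable {G : Type*} [Group G] [Finite G] {t c s x y g d : G} {n : ℕ} {T W : Subgroup G}

namespace D7

theorem sN (h : DF t c s n) : zpowers s ≤ N[zpowers c] :=
  zpowers_le.2 (mem_norm.2 (by rw [cj_zpowers, h.sc, zpowers_inv]))

theorem memD (h : DF t c s n) : x ∈ zpowers c ⊔ zpowers s ↔ ∃ k : ℕ, x = c ^ k ∨ x = c ^ k * s := by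
  constructor
  · intro hx
    obtain ⟨a, ha, b, hb, rfl⟩ := (mem_sup_norml (sN h)).1 hx
    obtain ⟨k, rfl⟩ := mem_powers_iff_mem_zpowers.2 ha
    rcases (Sig.mem_zp2 (by rw [pow_two, h.s2])).1 hb with rfl | rfl
    exacts [⟨k, .inl (mul_one _)⟩, ⟨k, .inr rfl⟩]
  · rintro ⟨k, rfl | rfl⟩
    exacts [mem_sup_left (pow_mem (mem_zpowers c) k), mul_mem_sup (pow_mem (mem_zpowers c) k) (mem_zpowers s)]

theorem Dt (h : DF t c s n) : zpowers c ⊔ zpowers s ≤ C1[t] := sup_le (zpowers_le.2 h.ct) (zpowers_le.2 h.st)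

theorem memS (h : DF t c s n) :
    x ∈ zpowers c ⊔ zpowers s ⊔ zpowers t ↔ ∃ d ∈ zpowers c ⊔ zpowers s, x = d ∨ x = d * t := by
  constructor
  · intro hx
    obtain ⟨a, ha, b, hb, rfl⟩ := (mem_sup_norml (zpowers_le.2 (cent_sub _ (le_cent1_iff.1 (Dt h))))).1 hx
    rcases (Sig.mem_zp2 (by rw [pow_two, h.t2])).1 hb with rfl | rfl
    exacts [⟨a, ha, .inl (mul_one _)⟩, ⟨a, ha, .inr rfl⟩]
  · rintro ⟨d, hd, rfl | rfl⟩
    exacts [mem_sup_left hd, mul_mem_sup hd (mem_zpowers t)]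

theorem z2 (h : DF t c s n) : (c ^ 2 ^ (n + 1)) ^ 2 = 1 := by
  rw [← pow_mul, ← pow_succ, ← h.oc, pow_orderOf_eq_one]

theorem z1 (h : DF t c s n) : c ^ 2 ^ (n + 1) ≠ 1 :=
  pow_ne_one_of_lt_orderOf (by positivity) (h.oc ▸ Nat.pow_lt_pow_right one_lt_two (by omega))

theorem invC (h : DF t c s n) {k : ℕ} (e : c ^ k * c ^ k = 1) : c ^ k = 1 ∨ c ^ k = c ^ 2 ^ (n + 1) := by
  have h1 : orderOf c ∣ k * 2 := orderOf_dvd_of_pow_eq_one (by rw [pow_mul, pow_two, e])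
  rw [h.oc, pow_succ] at h1
  obtain ⟨m, rfl⟩ := Nat.dvd_of_mul_dvd_mul_right two_pos h1
  exact (Sig.mem_zp2 (z2 h)).1 (pow_mul c _ m ▸ pow_mem (mem_zpowers _) m)

theorem dt2 (h : DF t c s n) (hd : d ∈ C1[t]) : d * t * (d * t) = d * d := by
  rw [mul_assoc, ← mul_assoc t, ← mem_cent1.1 hd, mul_assoc d t, h.t2, mul_one]

/-- `t` is not a square -/
theorem nsq (h : DF t c s n) (g : G) : ¬ IsConj t (g * g) := by
  intro e
  obtain ⟨a, ha⟩ := isConj_iff.1 e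
  have e1 : a⁻¹ * g * a * (a⁻¹ * g * a) = t := by
    rw [show a⁻¹ * g * a * (a⁻¹ * g * a) = a⁻¹ * (g * g) * a by group, ← ha]; group
  generalize a⁻¹ * g * a = u at e1
  have hu : u ∈ C1[t] := mem_cent1.2 (by rw [← e1, mul_assoc])
  have p2 : IsPGroup 2 (zpowers u) := Invol.isPGroup_zpowers (n := 2) (by
    rw [show u ^ 2 ^ 2 = u * u * (u * u) by rw [pow_two 2, pow_mul, pow_two, pow_two], e1, h.t2])
  obtain ⟨k, hk, hle⟩ := Sylow_Jsub h.syl (zpowers_le.2 hu) p2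
  have e2 : k * u * k⁻¹ * (k * u * k⁻¹) = t := by
    rw [show k * u * k⁻¹ * (k * u * k⁻¹) = k * (u * u) * k⁻¹ by group, e1, mem_cent1.1 hk]; group
  obtain ⟨d, hd, e3 | e3⟩ := (memS h).1 (hle (conj_mem_cj k (mem_zpowers u)))
  · exact h.tD (by rw [← e2, e3]; exact mul_mem hd hd)
  · exact h.tD (by rw [← e2, e3, dt2 h (Dt h hd)]; exact mul_mem hd hd)

theorem zsq (c : G) (n : ℕ) : c ^ 2 ^ (n + 1) = c ^ 2 ^ n * c ^ 2 ^ n := by rw [← pow_two, ← pow_mul, ← pow_succ]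

/-- involutions of `D` are not conjugate to `t` -/
theorem invD (h : DF t c s n) (hd : d ∈ zpowers c ⊔ zpowers s) (e : d * d = 1) : ¬ IsConj t d := by
  obtain ⟨k, rfl | rfl⟩ := (memD h).1 hd
  · rcases invC h e with e | e <;> rw [e]
    · simpa using nsq h 1
    · rw [zsq]; exact nsq h _
  · obtain ⟨ρ, -, e1, -⟩ := h.fus k
    rw [← e1, zsq, show ρ * (c ^ 2 ^ n * c ^ 2 ^ n) * ρ⁻¹ = ρ * c ^ 2 ^ n * ρ⁻¹ * (ρ * c ^ 2 ^ n * ρ⁻¹) by group]
    exact nsq h _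

theorem CT (h : DF t c s n) (pT : IsPGroup 2 T) (hS : zpowers c ⊔ zpowers s ⊔ zpowers t ≤ T) :
    T ⊓ C1[t] = zpowers c ⊔ zpowers s ⊔ zpowers t :=
  Hall_max h.syl (le_inf hS h.syl.le) inf_le_right (pT.to_le inf_le_left).pi

theorem cinv (h : DF t c s n) : c⁻¹ ≠ c := fun e => by
  have h1 : orderOf c ∣ 2 := orderOf_dvd_of_pow_eq_one (by rw [pow_two]; nth_rw 1 [← e]; simp)
  have := Nat.le_of_dvd two_pos h1
  rw [h.oc, pow_add] at this
  have : 0 < 2 ^ n := by positivity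
  omega

theorem csc (h : DF t c s n) (k : ℕ) : c ^ k * s * c * (c ^ k * s)⁻¹ = c⁻¹ := by
  rw [show c ^ k * s * c * (c ^ k * s)⁻¹ = c ^ k * (s * c * s⁻¹) * (c ^ k)⁻¹ by group, h.sc]; group

/-- an involution of `S` commuting with `c` lies in `⟨z, t⟩` -/
theorem cenS (h : DF t c s n) (hx : x ∈ zpowers c ⊔ zpowers s ⊔ zpowers t) (x2 : x * x = 1) (hc : x * c * x⁻¹ = c) :
    x = 1 ∨ x = c ^ 2 ^ (n + 1) ∨ x = t ∨ x = c ^ 2 ^ (n + 1) * t := by
  have tc : t * c * t⁻¹ = c := by rw [← mem_cent1.1 h.ct]; group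
  obtain ⟨d, hd, e | e⟩ := (memS h).1 hx <;> obtain ⟨k, rfl | rfl⟩ := (memD h).1 hd <;> subst e
  · rcases invC h x2 with e | e <;> simp [e]
  · exact absurd ((csc h k).symm.trans hc) (cinv h)
  · rw [dt2 h (Dt h hd)] at x2
    rcases invC h x2 with e | e <;> simp [e]
  · refine absurd ((csc h k).symm.trans ?_) (cinv h)
    rw [show c ^ k * s * t * c * (c ^ k * s * t)⁻¹ = c ^ k * s * (t * c * t⁻¹) * (c ^ k * s)⁻¹ by group, tc] at hc
    exact hc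

/-- `t ~ zt` if `S` is properly contained in a 2-group -/
theorem tz (h : DF t c s n) (pT : IsPGroup 2 T) (hS : zpowers c ⊔ zpowers s ⊔ zpowers t < T) :
    IsConj t (c ^ 2 ^ (n + 1) * t) := by
  obtain ⟨y, ⟨yT, yN⟩, hy⟩ := SetLike.exists_of_lt (nilpotent_proper_norm pT.isNilpotent hS)
  have tS : t ∈ zpowers c ⊔ zpowers s ⊔ zpowers t := mem_sup_right (mem_zpowers t)
  have cS : c ∈ zpowers c ⊔ zpowers s ⊔ zpowers t := mem_sup_left (mem_sup_left (mem_zpowers c))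
  have cj' : IsConj t (y * t * y⁻¹) := isConj_iff.2 ⟨y, rfl⟩
  have e1 := mem_cent1.1 (h.syl.le (conj_mem_of_norm' yN cS))
  rcases cenS h (conj_mem_of_norm yN tS) (by
      rw [show y * t * y⁻¹ * (y * t * y⁻¹) = y * (t * t) * y⁻¹ by group, h.t2]; group) (by
      rw [show y * t * y⁻¹ * c * (y * t * y⁻¹)⁻¹ = y * (t * (y⁻¹ * c * y)) * t⁻¹ * y⁻¹ by group, ← e1]; group)
    with e | e | e | e
  · exact absurd (e ▸ cj') (by simpa using nsq h 1)
  · exact absurd (zsq c n ▸ e ▸ cj') (nsq h _)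
  · exact absurd (CT h pT hS.le ▸ (⟨yT, mem_cent1.2 (mul_inv_eq_iff_eq_mul.1 e)⟩ :
      y ∈ T ⊓ C1[t])) hy
  · exact e ▸ cj'

theorem invT (h : DF t c s n) (hz : IsConj t (c ^ 2 ^ (n + 1) * t)) (hd : d ∈ zpowers c ⊔ zpowers s) (e : d * d = 1) :
    IsConj t (d * t) := by
  obtain ⟨k, rfl | rfl⟩ := (memD h).1 hd
  · rcases invC h e with e | e <;> rw [e]
    · rw [one_mul]
    · exact hz
  · obtain ⟨ρ, hρ, e1, -⟩ := h.fus k
    refine hz.trans (isConj_iff.2 ⟨ρ, ?_⟩)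
    rw [← e1, mul_assoc _ ρ⁻¹, mem_cent1.1 (inv_mem hρ)]; group

theorem conj (h : DF t c s n) (g : G) : DF (g * t * g⁻¹) (g * c * g⁻¹) (g * s * g⁻¹) n where
  t2 := by rw [show g * t * g⁻¹ * (g * t * g⁻¹) = g * (t * t) * g⁻¹ by group, h.t2]; group
  oc := by rw [← h.oc]; exact (MulAut.conj g).orderOf_eq c
  s2 := by rw [show g * s * g⁻¹ * (g * s * g⁻¹) = g * (s * s) * g⁻¹ by group, h.s2]; group
  sc := by
    rw [show g * s * g⁻¹ * (g * c * g⁻¹) * (g * s * g⁻¹)⁻¹ = g * (s * c * s⁻¹) * g⁻¹ by group, h.sc]; group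
  sC := by rw [← cj_zpowers, conj_mem_cj_iff]; exact h.sC
  tD := by rw [← cj_zpowers, ← cj_zpowers, ← cj_sup, conj_mem_cj_iff]; exact h.tD
  ct := by rw [C1_conj, conj_mem_cj_iff]; exact h.ct
  st := by rw [C1_conj, conj_mem_cj_iff]; exact h.st
  syl := by
    rw [← cj_zpowers, ← cj_zpowers, ← cj_zpowers, ← cj_sup, ← cj_sup, C1_conj]; exact pHallJ g h.syl
  fus k := by
    obtain ⟨ρ, hρ, e1, e2⟩ := h.fus k
    refine ⟨g * ρ * g⁻¹, by rw [C1_conj, conj_mem_cj_iff]; exact hρ, ?_, ?_⟩ <;> simp only [conj_pow]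
    · rw [show g * ρ * g⁻¹ * (g * c ^ 2 ^ (n + 1) * g⁻¹) * (g * ρ * g⁻¹)⁻¹ = g * (ρ * c ^ 2 ^ (n + 1) * ρ⁻¹) * g⁻¹ by
        simp only [mul_assoc, mul_inv_rev, inv_inv, inv_mul_cancel_left], e1]
      simp only [mul_assoc, inv_mul_cancel_left]
    · rw [show g * ρ * g⁻¹ * (g * c ^ k * g⁻¹ * (g * s * g⁻¹)) * (g * ρ * g⁻¹)⁻¹ = g * (ρ * (c ^ k * s) * ρ⁻¹) * g⁻¹ by
        simp only [mul_assoc, mul_inv_rev, inv_inv, inv_mul_cancel_left], e2]
      simp only [mul_assoc, inv_mul_cancel_left]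

theorem refl2 (h : DF t c s n) (k : ℕ) : c ^ k * s * (c ^ k * s) = 1 := by
  have e : s * c ^ k * s⁻¹ = (c ^ k)⁻¹ := by rw [← conj_pow, h.sc, inv_pow]
  rw [show c ^ k * s * (c ^ k * s) = c ^ k * (s * c ^ k * s⁻¹) * (s * s) by group, e, h.s2]; group

theorem Dshift (c s : G) (k : ℕ) : zpowers c ⊔ zpowers (c ^ k * s) = zpowers c ⊔ zpowers s := by
  have hc : ∀ u : G, c ^ k ∈ zpowers c ⊔ zpowers u := fun u => mem_sup_left (pow_mem (mem_zpowers c) k)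
  refine le_antisymm (sup_le le_sup_left (zpowers_le.2 ?_)) (sup_le le_sup_left (zpowers_le.2 ?_))
  · exact mul_mem (hc s) (mem_sup_right (mem_zpowers s))
  · exact (mul_mem_cancel_left (hc _)).1 (mem_sup_right (mem_zpowers _))

theorem shift (h : DF t c s n) (k : ℕ) : DF t c (c ^ k * s) n where
  t2 := h.t2
  oc := h.oc
  s2 := refl2 h k
  sc := csc h k
  sC := fun e => h.sC ((mul_mem_cancel_left (pow_mem (mem_zpowers c) k)).1 e)
  tD := Dshift c s k ▸ h.tD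
  ct := h.ct
  st := mul_mem (pow_mem h.ct k) h.st
  syl := Dshift c s k ▸ h.syl
  fus j := by rw [← mul_assoc (c ^ j), ← pow_add]; exact h.fus (j + k)

theorem ncW (h : DF t c s n) (pT : IsPGroup 2 T) (h2 : 2 * #(zpowers c ⊔ zpowers s ⊔ zpowers t) < #T) (hW : W ⊴ T)
    (aW : Abelem 2 W) (h4 : #W = 2 ^ 2) (hx : x ∈ W) : ¬ IsConj t x := fun e => by
  obtain ⟨a, rfl⟩ := isConj_iff.1 e
  have h1 := Nat.le_of_dvd two_pos (Sig.four_relIndex pT hW.norm aW h4)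
  have h3 := card_inf_mul_relIndex C[W] T
  have h5 := Nat.le_of_dvd Nat.card_pos (pgroup_card_dvd_Hall (conj h a).syl
    (inf_le_left.trans (cent_le_cent1 hx) : C[W] ⊓ T ≤ _) (pT.to_le inf_le_right).pi)
  rw [← cj_zpowers, ← cj_zpowers, ← cj_zpowers, ← cj_sup, ← cj_sup, card_cj] at h5
  nlinarith

theorem core (h : DF t c s n) (pT : IsPGroup 2 T) (hS : zpowers c ⊔ zpowers s ⊔ zpowers t ≤ T)
    (h2 : 2 * #(zpowers c ⊔ zpowers s ⊔ zpowers t) < #T) (hW : W ⊴ T) (aW : Abelem 2 W) (h4 : #W = 2 ^ 2)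
    (ht : t ∈ C[W]) : ∃ s', DF t c s' 0 ∧ zpowers c ⊔ zpowers s' ⊔ zpowers t ≤ T ∧ T ≤ N[zpowers (c ^ 2) ⊔ zpowers s'] := by
  have hz := tz h pT (lt_of_le_of_ne hS fun e => by rw [e] at h2; omega)
  have WS : W ≤ zpowers c ⊔ zpowers s ⊔ zpowers t := CT h pT hS ▸ le_inf hW.le (le_cent1_iff.2 ht)
  have WD : W ≤ zpowers c ⊔ zpowers s := fun w hw => by
    obtain ⟨d, hd, e | e⟩ := (memS h).1 (WS hw) <;> subst e
    · exact hd
    · have := aW.pow hw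
      rw [pow_two, dt2 h (Dt h hd)] at this
      exact absurd (invT h hz hd this) (ncW h pT h2 hW aW h4 hw)
  obtain ⟨v, hv, hn⟩ := Sig.exists_not_mem_zp h4.ge (z2 h)
  obtain ⟨k, rfl | rfl⟩ := (memD h).1 (WD hv)
  · exact absurd ((Sig.mem_zp2 (z2 h)).2 (invC h (by rw [← pow_two, aW.pow hv]))) hn
  have cT : c ∈ T := hS (mem_sup_left (mem_sup_left (mem_zpowers c)))
  have c2 : c ^ 2 ∈ W := by
    have := mul_mem (hW.conj_mem cT hv) (inv_mem hv)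
    rwa [show c * (c ^ k * s) * c⁻¹ * (c ^ k * s)⁻¹ = c * (c ^ k * s * c * (c ^ k * s)⁻¹)⁻¹ by group, csc h k, inv_inv,
      ← pow_two] at this
  have h0 : n = 0 := by
    have h1 : orderOf c ∣ 2 ^ 2 := orderOf_dvd_of_pow_eq_one (by rw [pow_two 2, pow_mul, aW.pow c2])
    have := (Nat.pow_dvd_pow_iff_le_right one_lt_two).1 (h.oc ▸ h1)
    omega
  subst h0
  refine ⟨_, shift h k, Dshift c s k ▸ hS, ?_⟩
  rw [Sig.four_eq aW h4 c2 (z1 h) hv hn]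
  exact hW.norm

end D7

theorem d4 (hG : ∀ H : Subgroup G, H.index ≠ 2) (h : DF t c s n) (hT : SylowIn 2 T ⊤)
    (hS : zpowers c ⊔ zpowers s ⊔ zpowers t ≤ T) (h2 : 2 < (zpowers c ⊔ zpowers s ⊔ zpowers t).relIndex T) :
    ∃ t' c' s' : G, ∃ T' : Subgroup G, DF t' c' s' 0 ∧ SylowIn 2 T' ⊤ ∧ zpowers c' ⊔ zpowers s' ⊔ zpowers t' ≤ T' ∧
      T' ≤ N[zpowers (c' ^ 2) ⊔ zpowers s'] := by
  have pT := hT.pg
  have h3 : 2 * #(zpowers c ⊔ zpowers s ⊔ zpowers t) < #T := by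
    rw [← card_mul_relIndex hS, mul_comm]; exact Nat.mul_lt_mul_of_pos_left h2 Nat.card_pos
  have zc : c ^ 2 ^ (n + 1) ∈ zpowers c := pow_mem (mem_zpowers c) _
  have sz : s ∈ C1[c ^ 2 ^ (n + 1)] := mem_cent1.2 (by
    have e : s * c ^ 2 ^ (n + 1) * s⁻¹ = (c ^ 2 ^ (n + 1))⁻¹ := by rw [← conj_pow, h.sc, inv_pow]
    rw [inv_eq_of_mul_eq_one_right (a := c ^ 2 ^ (n + 1)) (by rw [← pow_two, D7.z2 h])] at e
    exact mul_inv_eq_iff_eq_mul.1 e)
  obtain ⟨aV, cV⟩ := Sig.sq_le_sup_zpowers (p := 2) (D7.z2 h) (D7.z1 h) (by rw [pow_two, h.s2]) sz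
    fun e => h.sC (zpowers_le.2 zc e)
  have VD : zpowers (c ^ 2 ^ (n + 1)) ⊔ zpowers s ≤ zpowers c ⊔ zpowers s := sup_le_sup_right (zpowers_le.2 zc) _
  have aE := abelemY aV (cycle_abelem (x := t) (by rw [pow_two, h.t2])) (by rw [C_zpowers]; exact VD.trans (D7.Dt h))
  have cE : 2 ^ 2 < #(zpowers (c ^ 2 ^ (n + 1)) ⊔ zpowers s ⊔ zpowers t) := cV.trans_lt (proper_card
    (lt_of_le_of_ne le_sup_left fun e => h.tD (VD (e.ge (mem_sup_right (mem_zpowers t))))))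
  obtain ⟨W, hW, aW, h4⟩ := Sig.exists_normal_four pT aE ((sup_le_sup_right VD _).trans hS) (Sig.pow_succ_le aE.pg cE)
  by_cases ht : t ∈ C[W]
  · obtain ⟨s', h1, h5, h6⟩ := D7.core h pT hS h3 hW aW h4 ht
    exact ⟨t, c, s', T, h1, hT, h5, h6⟩
  haveI := hW.cent.subgroupOf
  have hc : IsCyclic (T ⧸ (T ⊓ C[W]).subgroupOf T) := isCyclic_of_card_dvd_prime (p := 2) (by
    have := Sig.four_relIndex pT hW.norm aW h4
    rwa [← inf_relIndex_left] at this)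
  obtain ⟨g, hg, hle⟩ := Loc.thompson_transfer_cyclic (S := T) (T := T ⊓ C[W])
    (Nat.not_even_iff_odd.1 fun e => hT.not_dvd (by rw [relIndex_top_right]; exact e.two_dvd)) hc h.t2
    (hS (mem_sup_right (mem_zpowers t))) (fun e => ht e.2) inf_le_left
    (Invol.mem_commutator_of_no_index_two hG (k := 1) (by rw [pow_one, pow_two, h.t2])) h.syl.pg h.syl.le
  rw [← cj_def, cj_sup, cj_sup, cj_zpowers, cj_zpowers, cj_zpowers] at hle
  obtain ⟨s', h1, h5, h6⟩ := D7.core (D7.conj h g) pT hle (by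
    rwa [← cj_zpowers, ← cj_zpowers, ← cj_zpowers, ← cj_sup, ← cj_sup, card_cj]) hW aW h4 hg.2
  exact ⟨_, _, s', T, h1, hT, h5, h6⟩

end Cfsg.Agent.JT2
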