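import Cfsg.Agent.JT2.T8a
import Cfsg.Agent.JT2.C
import Cfsg.Agent.JT2.T7

/-! S3216, step T8: the case `C(t) ⊇ ⟨t⟩ × D₈` with a Sylow `2`-subgroup normalising a four-group of
`D₈` is impossible in a group without subgroups of index two (`dfin`). -/

set_option autoImplicit false
set_option linter.unusedSectionVars false

namespace Cfsg.Agent.JT2

open Cfsg.Agent.BG Subgroup

variable {G : Type*} [Group G]

/-- The three involutions of the four-group `⟨z, s⟩`. -/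
def ee8 (z s : G) : Fin 3 → G := ![z, s, z * s]

/-- `g` permutes the three involutions as `σ`. -/
def Ac8 (z s g : G) (σ : Equiv.Perm (Fin 3)) : Prop := ∀ i, g * ee8 z s i * g⁻¹ = ee8 z s (σ i)

/-- `⟨z, s⟩` is a four-group. -/
structure K48 (z s : G) : Prop where
  z2 : z * z = 1
  s2 : s * s = 1
  zs : z * s = s * z
  z1 : z ≠ 1
  s1 : s ≠ 1
  ne : z ≠ s

variable {z s g g' x : G} {σ σ' : Equiv.Perm (Fin 3)}

theorem Ac8.mul (h : Ac8 z s g σ) (h' : Ac8 z s g' σ') : Ac8 z s (g * g') (σ * σ') := fun i => by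
  rw [Equiv.Perm.mul_apply, ← h, ← h']; group

theorem Ac8.inv (h : Ac8 z s g σ) : Ac8 z s g⁻¹ σ⁻¹ := fun i => by
  have := h (σ⁻¹ i)
  rw [show σ (σ⁻¹ i) = i by simp] at this
  rw [← this]; group

theorem ac8_one : Ac8 z s 1 1 := fun i => by simp

theorem Ac8.pow (h : Ac8 z s g σ) (k : ℕ) : Ac8 z s (g ^ k) (σ ^ k) := by
  induction k with
  | zero => simpa using ac8_one
  | succ k ih => rw [pow_succ, pow_succ]; exact ih.mul h

/-- The elements inducing an even permutation of the three involutions. -/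
def HH8 (z s : G) : Subgroup G where
  carrier := {g | ∃ σ, σ ^ 3 = 1 ∧ Ac8 z s g σ}
  one_mem' := ⟨1, by simp, ac8_one⟩
  mul_mem' := by
    rintro a b ⟨σ, h1, h2⟩ ⟨σ', h1', h2'⟩
    exact ⟨σ * σ', by revert σ σ'; exact fun σ h1 _ σ' h1' _ => (by decide +kernel :
      ∀ σ σ' : Equiv.Perm (Fin 3), σ ^ 3 = 1 → σ' ^ 3 = 1 → (σ * σ') ^ 3 = 1) σ σ' h1 h1', h2.mul h2'⟩
  inv_mem' := by
    rintro a ⟨σ, h1, h2⟩
    exact ⟨σ⁻¹, by rw [inv_pow, h1, inv_one], h2.inv⟩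

namespace K48

theorem zN (k : K48 z s) : s ∈ C[zpowers z] := by rw [C_zpowers]; exact mem_cent1.2 k.zs.symm

theorem memZ (k : K48 z s) : x ∈ zpowers z ↔ x = 1 ∨ x = z := by
  have := t8_mem_sup (A := (⊥ : Subgroup G)) (y := z) (x := x) (by simp) (by simpa using k.z2)
  rw [bot_sup_eq, mem_bot, mem_bot] at this
  rw [this, ← k.z2, mul_left_inj]

theorem mem (k : K48 z s) : x ∈ zpowers z ⊔ zpowers s ↔ x = 1 ∨ ∃ i, x = ee8 z s i := by
  rw [t8_mem_sup (cent_sub _ k.zN) (k.s2 ▸ one_mem _), k.memZ, k.memZ, Fin.exists_fin_succ,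
    Fin.exists_fin_succ, Fin.exists_fin_succ]
  have e1 : x * s = 1 ↔ x = s := by rw [← k.s2, mul_left_inj]
  have e2 : x * s = z ↔ x = z * s := by
    constructor
    · rintro rfl; rw [mul_assoc, k.s2, mul_one]
    · rintro rfl; rw [mul_assoc, k.s2, mul_one]
  simp [e1, e2, ee8, or_assoc]

theorem card (k : K48 z s) : #(zpowers z ⊔ zpowers s : Subgroup G) = 4 := by
  have := t8_card (A := (⊥ : Subgroup G)) (y := z) (by simp) (by simpa using k.z2) (by simpa using k.z1)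
  rw [bot_sup_eq, card_bot] at this
  rw [t8_card (cent_sub _ k.zN) (k.s2 ▸ one_mem _), this]
  rw [k.memZ]
  exact fun h => h.elim k.s1 fun h => k.ne h.symm

theorem ne1 (k : K48 z s) (i : Fin 3) : ee8 z s i ≠ 1 := by
  have : z * s ≠ 1 := fun h => k.ne (by rw [← k.s2, mul_left_inj] at h; exact h)
  fin_cases i
  exacts [k.z1, k.s1, this]

theorem inj (k : K48 z s) : Function.Injective (ee8 z s) := by
  have h1 := k.ne
  have h2 := k.z1
  have h3 := k.s1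
  intro i j h
  fin_cases i <;> fin_cases j <;> simp_all [ee8]

theorem sq (k : K48 z s) (hx : x ∈ zpowers z ⊔ zpowers s) : x * x = 1 := by
  rcases k.mem.1 hx with rfl | ⟨i, rfl⟩
  · simp
  fin_cases i
  · exact k.z2
  · exact k.s2
  · change z * s * (z * s) = 1
    calc _ = z * (s * z) * s := by group
      _ = (z * z) * (s * s) := by rw [← k.zs]; group
      _ = 1 := by rw [k.z2, k.s2, one_mul]

theorem uniq (k : K48 z s) (h : Ac8 z s g σ) (h' : Ac8 z s g σ') : σ = σ' :=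
  Equiv.ext fun i => k.inj (by rw [← h, ← h'])

theorem ex (k : K48 z s) (hg : g ∈ N[(zpowers z ⊔ zpowers s : Subgroup G)]) : ∃ σ, Ac8 z s g σ := by
  have : ∀ i, ∃ j, g * ee8 z s i * g⁻¹ = ee8 z s j := fun i =>
    (k.mem.1 (conj_mem_of_norm hg (k.mem.2 (.inr ⟨i, rfl⟩)))).resolve_left (by simpa using k.ne1 i)
  choose f hf using this
  have hi : Function.Injective f := fun i j e => k.inj (by
    have := hf i
    rw [e, ← hf j] at this
    simpa using this)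
  exact ⟨Equiv.ofBijective f (Finite.injective_iff_bijective.1 hi), hf⟩

theorem cen (k : K48 z s) (h : Ac8 z s g σ) : g ∈ C[(zpowers z ⊔ zpowers s : Subgroup G)] ↔ σ = 1 := by
  constructor
  · intro hg
    exact k.uniq h fun i => conj_eq_of_cent hg (k.mem.2 (.inr ⟨i, rfl⟩))
  · rintro rfl
    refine mem_cent.2 fun a ha => ?_
    rcases k.mem.1 ha with rfl | ⟨i, rfl⟩
    · simp
    · exact (mul_inv_eq_iff_eq_mul.1 (h i)).symm

theorem memH (k : K48 z s) (h : Ac8 z s g σ) : g ∈ HH8 z s ↔ σ ^ 3 = 1 :=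
  ⟨fun ⟨_, h1, h2⟩ => k.uniq h2 h ▸ h1, fun h1 => ⟨σ, h1, h⟩⟩

theorem CH (k : K48 z s) : C[(zpowers z ⊔ zpowers s : Subgroup G)] ≤ HH8 z s := fun _ hg =>
  ⟨1, by simp, fun i => conj_eq_of_cent hg (k.mem.2 (.inr ⟨i, rfl⟩))⟩

theorem norm [Finite G] (k : K48 z s) (h : Ac8 z s g σ) : g ∈ N[(zpowers z ⊔ zpowers s : Subgroup G)] := by
  refine mem_norm_of_cj_le ?_
  rintro _ ⟨a, ha, rfl⟩
  rcases k.mem.1 ha with rfl | ⟨i, rfl⟩
  · simp
  · exact k.mem.2 (.inr ⟨_, h i⟩)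

end K48

variable [Finite G]

theorem t8_pack {H V : Subgroup G} {t ρ : G} (tH : t ∈ H) (ρH : ρ ∈ H) (VH : V ≤ H)
    (hE : EF (⟨t, tH⟩ : H) (V.subgroupOf H) ⟨ρ, ρH⟩) (hV : ∀ v ∈ V, ¬ IsConj t v)
    (h3 : ∀ g ∈ H, g ^ 3 ∈ C[V]) (hf : ∀ g ∈ H, g ∉ C[V] → ∀ v ∈ V, g * v = v * g → v = 1) :
    ∃ (Q : Subgroup G) (r : G), t ∉ Q ∧ t ∈ N[Q] ∧ SylowIn 2 (Q ⊔ zpowers t) H ∧
      (∀ g ∈ H, g ∈ N[(Q ⊔ zpowers t : Subgroup G)] → g ∉ C[V] → ∀ q ∈ Q, g * q = q * g → q = 1) ∧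
      r ∈ H ∧ r ∈ N[Q] ∧ r ∈ N[(Q ⊔ zpowers t : Subgroup G)] ∧ r ∉ C[V] ∧
      (∀ a ∈ H, ∀ b ∈ H, a⁻¹ * (b * a * b⁻¹) ∈ Q ⊔ zpowers t → a⁻¹ * (b * a * b⁻¹) ∈ Q) ∧
      ∀ u ∈ Q, u ∉ V → u * u = 1 → ∃ E : Subgroup G, E ≤ C1[u] ∧ #E = 4 * #V ∧ ∀ x ∈ E, x * x = 1 := by
  have hC : ∀ g : H, g ∈ C[V.subgroupOf H] ↔ (g : G) ∈ C[V] := fun g => by
    simp only [mem_cent]
    exact ⟨fun h a ha => congrArg Subtype.val (h ⟨a, VH ha⟩ ha), fun h a ha => Subtype.ext (h a ha)⟩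
  have hNm : ∀ (A : Subgroup H) (g : H), (g : G) ∈ N[A.map H.subtype] ↔ g ∈ N[A] := fun A g => by
    rw [mem_norm, mem_norm]
    exact (Iff.of_eq (congrArg (· = _) (map_cj H.subtype g A).symm)).trans (map_injective H.subtype_injective).eq_iff
  have h3' : ∀ g : H, g ^ 3 ∈ C[V.subgroupOf H] := fun g => (hC _).2 (h3 g g.2)
  have hf' : ∀ g : H, g ∉ C[V.subgroupOf H] → ∀ v ∈ V.subgroupOf H, g * v = v * g → v = 1 :=
    fun g hg v hv e => Subtype.ext (hf g g.2 (mt (hC g).2 hg) v hv (congrArg Subtype.val e))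
  obtain ⟨r, Q, h, hQ⟩ := chain hE fun v hv e => hV v hv (H.subtype.map_isConj e)
  obtain ⟨hS, ho⟩ := hQ.resolve_right (h.t8_beta h3')
  have eN : Q.map H.subtype ⊔ zpowers t = (Q ⊔ zpowers (⟨t, tH⟩ : H)).map H.subtype := by
    rw [Subgroup.map_sup, MonoidHom.map_zpowers]; rfl
  have mm : ∀ (A : Subgroup H) (g : H), (g : G) ∈ A.map H.subtype ↔ g ∈ A := fun A g =>
    mem_map_iff_mem H.subtype_injective
  have rN := h.t8_rhoN 1
  rw [pow_one] at rN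
  refine ⟨Q.map H.subtype, r, fun e => h.tQ ((mm Q ⟨t, tH⟩).1 e), (hNm Q ⟨t, tH⟩).2 h.tN, ?_, ?_, r.2,
    (hNm Q r).2 h.ρQ, eN ▸ (hNm _ r).2 rN, mt (hC r).2 h.t8_rho, ?_, ?_⟩
  · rw [eN]
    exact pHall_map_subtype.2 (pHall_top.1 hS)
  · rintro g hg hN hc _ ⟨q, hq, rfl⟩ e
    rw [eN] at hN
    exact congrArg Subtype.val (h.t8_fp ho h3' hf' ((hNm _ ⟨g, hg⟩).1 hN) (mt (hC ⟨g, hg⟩).1 hc) q hq
      (Subtype.ext e))
  · intro a ha b hb hm
    obtain ⟨K, hK, hNK⟩ := h.t8_idx hS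
    have hKn : K.Normal := normal_of_index_eq_two hK
    have cK : ∀ a b : H, a⁻¹ * (b * a * b⁻¹) ∈ K := fun a b => by
      rw [mul_mem_iff_of_index_two hK, inv_mem_iff]
      exact (hKn.mem_comm_iff.trans (by simp)).symm
    have QK : Q ≤ K := fun q hq => by
      obtain ⟨a, -, rfl⟩ := t8_surj h.ρQ (h.t8_fp ho h3' hf' rN h.t8_rho) hq
      exact cK _ _
    rw [eN] at hm
    let w : H := (⟨a, ha⟩ : H)⁻¹ * (⟨b, hb⟩ * ⟨a, ha⟩ * (⟨b, hb⟩ : H)⁻¹)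
    refine (mm Q w).2 ((h.t8_mem.1 ((mm _ w).1 hm)).resolve_right fun e => hNK ?_)
    exact sup_le QK (zpowers_le.2 ((mul_mem_cancel_left (cK _ _)).1 (QK e)))
  · rintro _ ⟨u, hu, rfl⟩ uV u2
    obtain ⟨E, h1, h2, h4⟩ := h.t8_E ho h3' hf' hu uV (Subtype.ext u2)
    refine ⟨E.map H.subtype, ?_, ?_, ?_⟩
    · rintro _ ⟨x, hx, rfl⟩
      exact mem_cent1.2 (congrArg Subtype.val (mem_cent1.1 (h1 hx)))
    · rw [card_map_of_injective H.subtype_injective, h2, card_subgroupOf VH]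
    · rintro _ ⟨x, hx, rfl⟩
      exact congrArg Subtype.val (h4 x hx)

theorem dfin {t c s : G} {T : Subgroup G} (hG : ∀ H : Subgroup G, H.index ≠ 2) (h : DF t c s 0)
    (hT : SylowIn 2 T ⊤) (hS : zpowers c ⊔ zpowers s ⊔ zpowers t ≤ T)
    (hN : T ≤ N[(zpowers (c ^ 2) ⊔ zpowers s : Subgroup G)]) : False := by
  have : Fact (Nat.Prime 2) := ⟨Nat.prime_two⟩
  have sc : s * c = c⁻¹ * s := by rw [← h.sc]; group
  have z2 : c ^ 2 * c ^ 2 = 1 := by simpa [pow_two] using D7.z2 h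
  have k : K48 (c ^ 2) s :=
    { z2 := z2
      s2 := h.s2
      zs := by
        calc c ^ 2 * s = (c ^ 2 * c ^ 2)⁻¹ * (c ^ 2 * s) := by rw [z2]; group
          _ = c⁻¹ * (c⁻¹ * s) := by group
          _ = _ := by rw [← sc, ← mul_assoc, ← sc, pow_two, mul_assoc]
      z1 := by simpa using D7.z1 h
      s1 := fun e => h.sC (e ▸ one_mem _)
      ne := fun e => h.sC (e ▸ pow_mem (mem_zpowers c) 2) }
  set V : Subgroup G := zpowers (c ^ 2) ⊔ zpowers s with hV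
  set H := HH8 (c ^ 2) s with hH
  have HN : H ≤ N[V] := fun g ⟨_, _, hg⟩ => k.norm hg
  have VD : V ≤ zpowers c ⊔ zpowers s :=
    sup_le_sup_right (zpowers_le.2 (pow_mem (mem_zpowers c) 2)) _
  have Vt : V ≤ C1[t] := VD.trans (D7.Dt h)
  have tC : t ∈ C[V] := le_cent1_iff.1 Vt
  have VC : V ≤ C[V] := le_cent_iff.2 fun a ha b hb => by
    calc a * b = b * b * (a * b) * (a * a) := by rw [k.sq ha, k.sq hb]; group
      _ = b * (b * a * (b * a)) * a := by group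
      _ = _ := by rw [k.sq (mul_mem hb ha)]; group
  have tH : t ∈ H := k.CH tC
  have VH : V ≤ H := VC.trans k.CH
  have h3 : ∀ g ∈ H, g ^ 3 ∈ C[V] := fun g ⟨σ, h1, h2⟩ => (k.cen (h2.pow 3)).2 h1
  have hf : ∀ g ∈ H, g ∉ C[V] → ∀ v ∈ V, g * v = v * g → v = 1 := by
    rintro g ⟨σ, h1, h2⟩ hg v hv e
    refine (k.mem.1 hv).resolve_right ?_
    rintro ⟨i, rfl⟩
    have : σ i = i := k.inj (by rw [← h2, e, mul_inv_cancel_right])
    exact hg ((k.cen h2).2 ((by decide +kernel :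
      ∀ (σ : Equiv.Perm (Fin 3)) (i : Fin 3), σ ^ 3 = 1 → σ i = i → σ = 1) σ i h1 this))
  have par : ∀ a ∈ N[V], ∀ b ∈ N[V], a ∉ H → b ∉ H → a * b ∈ H := by
    intro a ha b hb
    obtain ⟨σ, h1⟩ := k.ex ha
    obtain ⟨σ', h2⟩ := k.ex hb
    rw [k.memH h1, k.memH h2, k.memH (h1.mul h2)]
    revert σ σ'
    exact fun σ _ σ' _ => (by decide +kernel :
      ∀ σ σ' : Equiv.Perm (Fin 3), ¬ σ ^ 3 = 1 → ¬ σ' ^ 3 = 1 → (σ * σ') ^ 3 = 1) σ σ'
  have nH : ∀ a ∈ N[V], ∀ b ∈ H, a * b * a⁻¹ ∈ H := by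
    rintro a ha b ⟨σ', h1, h2⟩
    obtain ⟨σ, h4⟩ := k.ex ha
    exact ⟨_, by rw [conj_pow, h1]; simp, (h4.mul h2).mul h4.inv⟩
  have cyc : ∀ a ∈ N[V], a ∉ H → ∀ r ∈ H, r ∉ C[V] → a * (r * a * r⁻¹) ∉ C[V] := by
    rintro a ha aH r ⟨σ', h1, h2⟩
    obtain ⟨σ, h4⟩ := k.ex ha
    rw [k.memH h4] at aH
    rw [k.cen h2, k.cen (h4.mul ((h2.mul h4).mul h2.inv))]
    exact (by decide +kernel : ∀ σ σ' : Equiv.Perm (Fin 3), ¬ σ ^ 3 = 1 → σ' ^ 3 = 1 → ¬ σ' = 1 →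
      ¬ σ * (σ' * σ * σ'⁻¹) = 1) σ σ' aH h1
  obtain ⟨ρ, ρt, ρ1, ρ2⟩ := h.fus 0
  simp only [zero_add, pow_one, pow_zero, one_mul] at ρ1 ρ2
  have ρA : Ac8 (c ^ 2) s ρ (finRotate 3) := by
    intro i
    fin_cases i
    · exact ρ1
    · exact ρ2
    · change ρ * (c ^ 2 * s) * ρ⁻¹ = c ^ 2
      calc _ = (ρ * c ^ 2 * ρ⁻¹) * (ρ * s * ρ⁻¹) := by group
        _ = s * (s * c ^ 2) := by rw [ρ1, ρ2, k.zs]
        _ = _ := by rw [← mul_assoc, h.s2, one_mul]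
  have ρH : ρ ∈ H := ⟨_, by decide +kernel, ρA⟩
  have cA : Ac8 (c ^ 2) s c (Equiv.swap 1 2) := by
    have e : c * s * c⁻¹ = c ^ 2 * s := by
      calc _ = c * (s * c * s⁻¹)⁻¹ * s * (s * s)⁻¹ * (s * s) := by group
        _ = _ := by rw [h.sc, h.s2, pow_two]; group
    intro i
    fin_cases i
    · change c * c ^ 2 * c⁻¹ = c ^ 2
      group
    · exact e
    · change c * (c ^ 2 * s) * c⁻¹ = s
      calc _ = c ^ 2 * (c * s * c⁻¹) := by group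
        _ = _ := by rw [e, ← mul_assoc, z2, one_mul]
  have cN : c ∈ N[V] := k.norm cA
  have cH : c ∉ H := by rw [k.memH cA]; decide +kernel
  have sV : s ∈ V := mem_sup_right (mem_zpowers s)
  have zV : c ^ 2 ∈ V := mem_sup_left (mem_zpowers _)
  have tV : t ∉ V := fun e => h.tD (VD e)
  set W : Subgroup G := V ⊔ zpowers t with hW
  have cW : c ∈ N[W] := by
    rw [mem_norm, hW, cj_sup, cj_of_norm cN, cj_zpowers, mem_cent1.1 h.ct, mul_inv_cancel_right]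
  have WH : W ≤ H := sup_le VH (zpowers_le.2 tH)
  have eS : zpowers c ⊔ zpowers s ⊔ zpowers t = W ⊔ zpowers c := by
    refine le_antisymm (sup_le (sup_le le_sup_right ?_) ?_) (sup_le (sup_le_sup_right VD _) ?_)
    · exact zpowers_le.2 (mem_sup_left (mem_sup_left sV))
    · exact le_sup_right.trans le_sup_left
    · exact le_sup_left.trans le_sup_left
  have c2W : c * c ∈ W := mem_sup_left (pow_two c ▸ zV)
  have cS : #(zpowers c ⊔ zpowers s ⊔ zpowers t : Subgroup G) = 16 := by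
    rw [eS, t8_card cW c2W fun e => cH (WH e), t8_card (cent_sub _ tC) (h.t2 ▸ one_mem _) tV, k.card]
  have sylW : SylowIn 2 W (H ⊓ C1[t]) := by
    have h1 : SylowIn 2 (zpowers c ⊔ zpowers s ⊔ zpowers t) (N[V] ⊓ C1[t]) :=
      pHall_subl (le_inf (hS.trans hN) h.syl.le) inf_le_right h.syl
    have h2 : H ⊓ C1[t] ⊴ N[V] ⊓ C1[t] := ⟨inf_le_inf_right _ HN, le_norm_iff.2 fun a ha b hb =>
      ⟨nH a ha.1 b hb.1, Subgroup.mul_mem _ (Subgroup.mul_mem _ ha.2 hb.2) (Subgroup.inv_mem _ ha.2)⟩⟩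
    have h4 := Sylow_setI_normal h2 h1
    rwa [show H ⊓ C1[t] ⊓ (zpowers c ⊔ zpowers s ⊔ zpowers t) = W from ?_] at h4
    refine le_antisymm (fun x hx => ?_) (le_inf (le_inf WH (sup_le Vt (zpowers_le.2 (cent1_self t))))
      (eS ▸ le_sup_left))
    refine ((t8_mem_sup cW c2W).1 (eS ▸ hx.2)).resolve_right fun e => cH ?_
    exact (H.mul_mem_cancel_left hx.1.1).1 (WH e)
  have hE : EF (⟨t, tH⟩ : H) (V.subgroupOf H) ⟨ρ, ρH⟩ :=
    { t2 := Subtype.ext h.t2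
      tV := tV
      eV := fun v hv => Subtype.ext (k.sq hv)
      c4 := by rw [card_subgroupOf VH, k.card]
      Vt := fun v hv => mem_cent1.2 (Subtype.ext (mem_cent1.1 (Vt hv)))
      syl := by
        refine (pHall_map_inj H.subtype_injective).1 ?_
        rw [Subgroup.map_sup, MonoidHom.map_zpowers, map_subgroupOf_eq_of_le VH]
        suffices e : map H.subtype C1[(⟨t, tH⟩ : H)] = H ⊓ C1[t] from e ▸ sylW
        ext x
        constructor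
        · rintro ⟨y, hy, rfl⟩
          exact ⟨y.2, mem_cent1.2 (congrArg Subtype.val (mem_cent1.1 hy))⟩
        · intro hx
          exact ⟨⟨x, hx.1⟩, mem_cent1.2 (Subtype.ext (mem_cent1.1 hx.2)), rfl⟩
      ρt := mem_cent1.2 (Subtype.ext (mem_cent1.1 ρt))
      ρN := mem_norm_of_cj_le (by
        rintro _ ⟨x, hx, rfl⟩
        exact conj_mem_of_norm (A := V) (HN ρH) hx)
      tr := fun u hu v hv u1 v1 => by
        obtain ⟨i, hi⟩ := (k.mem.1 hu).resolve_left fun e => u1 (Subtype.ext e)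
        obtain ⟨j, hj⟩ := (k.mem.1 hv).resolve_left fun e => v1 (Subtype.ext e)
        obtain ⟨m, hm⟩ := (by decide +kernel : ∀ i j : Fin 3, ∃ m : Fin 3, (finRotate 3 ^ (m : ℕ)) i = j) i j
        refine ⟨m, Subtype.ext ?_⟩
        change ρ ^ (m : ℕ) * u * (ρ ^ (m : ℕ))⁻¹ = v
        rw [show (u : G) = _ from hi, show (v : G) = _ from hj, ρA.pow m i, hm]
      nρ := fun g _ _ => ⟨1, fun v hv => Subtype.ext (by
        obtain ⟨σ, h1, h2⟩ := g.2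
        change g * ρ * (g : G)⁻¹ * v * (g * ρ * (g : G)⁻¹)⁻¹ = ρ ^ 1 * v * (ρ ^ 1)⁻¹
        rcases k.mem.1 hv with e | ⟨i, e⟩ <;> rw [show (v : G) = _ from e]
        · group
        · rw [pow_one, ρA, ((h2.mul ρA).mul h2.inv) i, (by decide +kernel :
            ∀ σ : Equiv.Perm (Fin 3), σ ^ 3 = 1 → σ * finRotate 3 * σ⁻¹ = finRotate 3) σ h1])⟩ }
  have hVc : ∀ v ∈ V, ¬ IsConj t v := fun v hv => D7.invD h (VD hv) (k.sq hv)
  obtain ⟨Q, r, tQ, tN, sN, fp, rH, rQ, rN, rC, cm, hE16⟩ := t8_pack tH ρH VH hE hVc h3 hf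
  set N := Q ⊔ zpowers t with hNdef
  have mN : ∀ {x : G}, x ∈ N ↔ x ∈ Q ∨ x * t ∈ Q := t8_mem_sup tN (h.t2 ▸ one_mem _)
  have QH : Q ≤ H := le_sup_left.trans sN.le
  obtain ⟨T', hT', NT⟩ := Sylow_superset (sN.le.trans HN) sN.pg
  obtain ⟨g, hg, rfl⟩ := Sylow_trans (pHall_subl hN le_top hT) hT'
  have csD : c * s ∈ zpowers c ⊔ zpowers s := mul_mem_sup (mem_zpowers c) (mem_zpowers s)
  have cs2 : c * s * (c * s) = 1 := by simpa using D7.refl2 h 1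
  obtain ⟨y, yT, y2, yH, yc⟩ : ∃ y ∈ cj g T, y * y = 1 ∧ y ∉ H ∧ ¬ IsConj t y := by
    refine ⟨_, conj_mem_cj g (hS (mem_sup_left csD)), ?_, fun e => cH ?_, fun e => D7.invD h csD cs2 ?_⟩
    · calc _ = g * (c * s * (c * s)) * g⁻¹ := by group
        _ = 1 := by rw [cs2]; group
    · have := nH _ (inv_mem hg) _ e
      rw [show g⁻¹ * (g * (c * s) * g⁻¹) * g⁻¹⁻¹ = c * s by group] at this
      exact (mul_mem_cancel_right (VH sV)).1 this
    · exact e.trans (isConj_iff.2 ⟨g, rfl⟩).symm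
  have hT'' : SylowIn 2 (cj g T) ⊤ := pHallJsub (mem_top g) hT
  generalize cj g T = P at *
  have PH : ∀ x ∈ P, x ∈ H → x ∈ N := fun x hx hx' => by
    rw [← Hall_max sN (le_inf NT sN.le) inf_le_right (pgroupS inf_le_left hT'.pi)]
    exact ⟨hx, hx'⟩
  have PN : ∀ x ∈ P, x ∈ N[N] := fun x hx => mem_norm_of_cj_le (by
    rintro _ ⟨a, ha, rfl⟩
    exact PH _ (P.mul_mem (P.mul_mem hx (NT ha)) (P.inv_mem hx)) (nH x (hT'.le hx) a (sN.le ha)))
  have PQ : ∀ x ∈ P, x ∈ N[Q] := fun x hx => mem_norm_of_cj_le (by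
    rintro _ ⟨q, hq, rfl⟩
    have h1 : x * q * x⁻¹ ∈ N := conj_mem_of_norm (PN x hx) (mem_sup_left hq)
    obtain ⟨a, ha, rfl⟩ := t8_surj rQ (fp r rH rN rC) hq
    change x * _ * x⁻¹ ∈ Q
    rw [show x * (a⁻¹ * (r * a * r⁻¹)) * x⁻¹ =
      (x * a * x⁻¹)⁻¹ * (x * r * x⁻¹ * (x * a * x⁻¹) * (x * r * x⁻¹)⁻¹) by group] at h1 ⊢
    exact cm _ (nH x (hT'.le hx) a (QH ha)) _ (nH x (hT'.le hx) r rH) h1)
  have mM : ∀ {x : G}, x ∈ Q ⊔ zpowers y ↔ x ∈ Q ∨ x * y ∈ Q := t8_mem_sup (PQ y yT) (y2 ▸ one_mem _)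
  have tP : t ∈ P := NT (mem_sup_right (mem_zpowers t))
  have tM : t ∉ Q ⊔ zpowers y := fun e => (mM.1 e).elim tQ fun e => yH ((mul_mem_cancel_left tH).1 (QH e))
  have yi : y⁻¹ = y := inv_eq_of_mul_eq_one_left y2
  have iM : (Q ⊔ zpowers y).relIndex P = 2 := by
    rw [relIndex_eq_two_iff]
    refine ⟨t, tP, fun b hb => ?_⟩
    by_cases h1 : b ∈ Q ⊔ zpowers y
    · exact Or.inr ⟨h1, fun e => tM ((mul_mem_cancel_left h1).1 e)⟩
    refine Or.inl ⟨?_, h1⟩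
    by_cases bH : b ∈ H
    · exact mem_sup_left ((mN.1 (PH b hb bH)).resolve_left fun e => h1 (mem_sup_left e))
    · have h2 := (mN.1 (PH _ (P.mul_mem hb yT) (par b (hT'.le hb) y (hT'.le yT) bH yH))).resolve_left
        fun e => h1 (mM.2 (.inr e))
      have h4 : y * t * y⁻¹ * t ∈ Q := (mN.1 (conj_mem_of_norm (PN y yT) (mem_sup_right (mem_zpowers t)))).resolve_left
        fun e => tQ ((conj_mem_iff_of_norm (PQ y yT)).1 e)
      refine mM.2 (.inr ?_)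
      have h5 := Q.mul_mem h2 (conj_mem_of_norm tN h4)
      rwa [show b * y * t * (t * (y * t * y⁻¹ * t) * t⁻¹) = b * y * (t * t) * y * t * y⁻¹ by group, h.t2,
        mul_one, mul_assoc b, y2, mul_one, yi] at h5
  obtain ⟨P', hP'⟩ := sylow_of_sylowIn_top hT''
  obtain ⟨a, -, ha⟩ := Invol.thompson_transfer hG P' (hP' ▸ iM) h.t2 (hP' ▸ tP)
  have u2 : a * t * a⁻¹ * (a * t * a⁻¹) = 1 := by
    calc _ = a * (t * t) * a⁻¹ := by group
      _ = 1 := by rw [h.t2]; group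
  rcases mM.1 ha with hu | hu
  · obtain ⟨E, E1, E2, E3⟩ := hE16 _ hu (fun e => hVc _ e (isConj_iff.2 ⟨a, rfl⟩)) u2
    rw [C1_conj, le_cj_iff] at E1
    have pE : IsPGroup 2 (cj a⁻¹ E) := pgroup_of_card (k := 4) (by rw [card_cj, E2, k.card]; rfl)
    obtain ⟨b, -, hb⟩ := Sylow_Jsub h.syl E1 pE
    have e := eq_of_le_of_card_ge hb (by rw [card_cj, card_cj, E2, k.card, cS])
    have : c ∈ cj b (cj a⁻¹ E) := e ▸ mem_sup_left (mem_sup_left (mem_zpowers c))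
    have := E3 _ (mem_cj.1 (mem_cj.1 this))
    apply k.z1
    calc c ^ 2 = b * a⁻¹ * (a⁻¹⁻¹ * (b⁻¹ * c * b) * a⁻¹ * (a⁻¹⁻¹ * (b⁻¹ * c * b) * a⁻¹)) * a * b⁻¹ := by
          rw [pow_two]; group
      _ = 1 := by rw [this]; group
  · have tu : IsConj t (a * t * a⁻¹) := isConj_iff.2 ⟨a, rfl⟩
    generalize a * t * a⁻¹ = u at *
    have yN := hT'.le yT
    have wH : y * (r * y * r⁻¹) ∈ H := by
      have := H.mul_mem (nH y yN r rH) (H.inv_mem rH)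
      rwa [yi, mul_assoc, mul_assoc, ← mul_assoc r] at this
    have wN : y * (r * y * r⁻¹) ∈ N[N] :=
      Subgroup.mul_mem _ (PN y yT) (Subgroup.mul_mem _ (Subgroup.mul_mem _ rN (PN y yT)) (Subgroup.inv_mem _ rN))
    have wQ : y * (r * y * r⁻¹) ∈ N[Q] :=
      Subgroup.mul_mem _ (PQ y yT) (Subgroup.mul_mem _ (Subgroup.mul_mem _ rQ (PQ y yT)) (Subgroup.inv_mem _ rQ))
    have fw := fp _ wH wN (cyc y yN yH r rH rC)
    have iv : ∀ x : G, x * x = 1 → x * (x * (r * x * r⁻¹)) * x⁻¹ = (x * (r * x * r⁻¹))⁻¹ := by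
      intro x x2
      calc _ = (x * x) * r * (x * x) * x⁻¹ * r⁻¹ * x⁻¹ := by group
        _ = _ := by rw [x2]; group
    rw [← yi] at hu
    have q1 : u * (r * u * r⁻¹) * (y * (r * y * r⁻¹))⁻¹ ∈ Q := by
      have := Q.mul_mem hu (conj_mem_of_norm (PQ y yT) (conj_mem_of_norm rQ hu))
      rwa [show u * y⁻¹ * (y * (r * (u * y⁻¹) * r⁻¹) * y⁻¹) =
        u * (r * u * r⁻¹) * (y * (r * y * r⁻¹))⁻¹ by group] at this
    obtain ⟨b, hb, e⟩ := t8_surj wQ fw q1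
    have i1 := iv u u2
    have i2 := iv y y2
    generalize y * (r * y * r⁻¹) = w at *
    have e' : u * (r * u * r⁻¹) = b⁻¹ * w * b := by
      calc _ = u * (r * u * r⁻¹) * w⁻¹ * w := by group
        _ = _ := by rw [e]; group
    rw [e'] at i1
    have d1 : b * u * b⁻¹ * y⁻¹ ∈ Q := by
      have := Q.mul_mem (Q.mul_mem hb hu) (conj_mem_of_norm (PQ y yT) (Q.inv_mem hb))
      rwa [show b * (u * y⁻¹) * (y * b⁻¹ * y⁻¹) = b * u * b⁻¹ * y⁻¹ by group] at this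
    have d2 := fw _ d1 (by
      calc w * (b * u * b⁻¹ * y⁻¹) = b * (b⁻¹ * w * b)⁻¹⁻¹ * u * b⁻¹ * y⁻¹ := by group
        _ = b * u * b⁻¹ * w⁻¹ * y⁻¹ := by rw [← i1]; group
        _ = b * u * b⁻¹ * y⁻¹ * (y * w * y⁻¹)⁻¹ := by group
        _ = _ := by rw [i2, inv_inv])
    exact yc (tu.trans (isConj_iff.2 ⟨b, mul_inv_eq_one.1 d2⟩))

end Cfsg.Agent.JT2
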