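import Cfsg.Agent.JT2.A

/-! S3216, step T8 (first half): consequences of the chain frame `CQ` in a group acting on `V` through
a group of exponent three. -/

set_option autoImplicit false
set_option linter.unusedSectionVars false

namespace Cfsg.Agent.JT2

open Cfsg.Agent.BG Subgroup

variable {G : Type*} [Group G]

theorem t8_mem_sup {A : Subgroup G} {y x : G} (hy : y ∈ N[A]) (y2 : y * y ∈ A) :
    x ∈ A ⊔ zpowers y ↔ x ∈ A ∨ x * y ∈ A := by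
  constructor
  · intro hx
    obtain ⟨a, ha, b, ⟨k, rfl⟩, rfl⟩ := (mem_sup_norml (zpowers_le.2 hy)).1 hx
    obtain ⟨m, rfl | rfl⟩ := Int.even_or_odd' k
    · left
      refine mul_mem ha ?_
      beta_reduce
      rw [zpow_mul]
      exact zpow_mem (by rwa [zpow_two]) m
    · right
      beta_reduce
      rw [mul_assoc, ← zpow_add_one, show 2 * m + 1 + 1 = 2 * (m + 1) by ring, zpow_mul]
      exact mul_mem ha (zpow_mem (by rwa [zpow_two]) _)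
  · rintro (h | h)
    · exact mem_sup_left h
    · have := mul_mem (mem_sup_left (T := zpowers y) h) (inv_mem (mem_sup_right (mem_zpowers y)))
      simpa using this

theorem t8_relIndex {A : Subgroup G} {y : G} (hy : y ∈ N[A]) (y2 : y * y ∈ A) (hA : y ∉ A) :
    A.relIndex (A ⊔ zpowers y) = 2 := by
  rw [relIndex_eq_two_iff]
  refine ⟨y, mem_sup_right (mem_zpowers y), fun b hb => ?_⟩
  by_cases h : b ∈ A
  · exact Or.inr ⟨h, fun h' => hA (by simpa using mul_mem (inv_mem h) h')⟩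
  · exact Or.inl ⟨((t8_mem_sup hy y2).1 hb).resolve_left h, h⟩

theorem t8_card {A : Subgroup G} {y : G} (hy : y ∈ N[A]) (y2 : y * y ∈ A) (hA : y ∉ A) :
    #(A ⊔ zpowers y : Subgroup G) = 2 * #A := by
  have := (A.subgroupOf (A ⊔ zpowers y)).card_mul_index
  rw [card_subgroupOf le_sup_left] at this
  rw [← this, mul_comm]
  congr 1
  exact t8_relIndex hy y2 hA

theorem t8_pg2 {y : G} (k : ℕ) (h : y ^ 2 ^ k = 1) : IsPGroup 2 (zpowers y) := by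
  rintro ⟨_, m, rfl⟩
  refine ⟨k, Subtype.ext ?_⟩
  change (y ^ m) ^ 2 ^ k = 1
  rw [← zpow_natCast, ← zpow_mul, mul_comm, zpow_mul, zpow_natCast, h, one_zpow]

theorem t8_pg3 {y : G} (k : ℕ) (h : y ^ 3 ^ k = 1) : IsPGroup 3 (zpowers y) := by
  rintro ⟨_, m, rfl⟩
  refine ⟨k, Subtype.ext ?_⟩
  change (y ^ m) ^ 3 ^ k = 1
  rw [← zpow_natCast, ← zpow_mul, mul_comm, zpow_mul, zpow_natCast, h, one_zpow]

variable [Finite G] {t ρ : G} {V Q : Subgroup G}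

theorem t8_surj {r : G} (hr : r ∈ N[Q]) (hf : ∀ q ∈ Q, r * q = q * r → q = 1) {q : G} (hq : q ∈ Q) :
    ∃ a ∈ Q, q = a⁻¹ * (r * a * r⁻¹) := by
  let φ : Q → Q := fun a => ⟨(a : G)⁻¹ * (r * a * r⁻¹), mul_mem (inv_mem a.2) (conj_mem_of_norm hr a.2)⟩
  have hφ : Function.Injective φ := by
    intro p a e
    have e' : (p : G)⁻¹ * (r * p * r⁻¹) = (a : G)⁻¹ * (r * a * r⁻¹) := congrArg Subtype.val e
    have := hf (p * (a : G)⁻¹) (mul_mem p.2 (inv_mem a.2)) (by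
      calc r * (p * (a : G)⁻¹) = p * ((p : G)⁻¹ * (r * p * r⁻¹)) * (r * (a : G)⁻¹) := by group
        _ = _ := by rw [e']; group)
    exact Subtype.ext (mul_inv_eq_one.1 this)
  obtain ⟨a, ha⟩ := Finite.surjective_of_injective hφ ⟨q, hq⟩
  exact ⟨a, a.2, (congrArg Subtype.val ha).symm⟩

theorem t8_three (h3 : ∀ g : G, g ^ 3 ∈ C[V]) {g : G} (hg : g ∉ C[V]) :
    ∃ m k : ℕ, (g ^ m) ^ 3 ^ k = 1 ∧ g ^ m ∉ C[V] := by
  obtain ⟨k, m, hm, e⟩ := Nat.exists_eq_pow_mul_and_not_dvd (orderOf_pos g).ne' 3 (by norm_num)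
  refine ⟨m, k, by rw [← pow_mul, mul_comm, ← e, pow_orderOf_eq_one], fun h => hg ?_⟩
  have e1 : g ^ (m % 3) ∈ C[V] := by
    have := mul_mem (inv_mem (pow_mem (h3 g) (m / 3))) h
    rwa [← pow_mul, ← Nat.div_add_mod m 3, pow_add, Nat.div_add_mod, inv_mul_cancel_left] at this
  have : m % 3 = 1 ∨ m % 3 = 2 := by omega
  rcases this with e | e <;> rw [e] at e1
  · simpa using e1
  · have := mul_mem (inv_mem e1) (h3 g)
    rwa [pow_succ g 2, inv_mul_cancel_left] at this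

theorem t8_two (h3 : ∀ g : G, g ^ 3 ∈ C[V]) {P : Subgroup G} (hP : IsPGroup 2 P) : P ≤ C[V] := by
  intro g hg
  by_contra hg'
  obtain ⟨m, k, e, hm⟩ := t8_three h3 hg'
  obtain ⟨j, hj⟩ := hP ⟨g ^ m, pow_mem hg m⟩
  have hj' : (g ^ m) ^ 2 ^ j = 1 := congrArg Subtype.val hj
  have := Nat.dvd_gcd (orderOf_dvd_of_pow_eq_one e) (orderOf_dvd_of_pow_eq_one hj')
  rw [Nat.Coprime.gcd_eq_one (Nat.Coprime.pow _ _ (by norm_num)), Nat.dvd_one, orderOf_eq_one_iff] at this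
  exact hm (this ▸ one_mem _)

theorem EF.t8_tC (h : EF t V ρ) : t ∈ C[V] := le_cent1_iff.1 h.Vt

theorem CQ.t8_mem (h : CQ t V ρ Q) {x : G} : x ∈ Q ⊔ zpowers t ↔ x ∈ Q ∨ x * t ∈ Q :=
  t8_mem_sup h.tN (h.t2 ▸ one_mem _)

theorem CQ.t8_pg (h : CQ t V ρ Q) : IsPGroup 2 (Q ⊔ zpowers t : Subgroup G) :=
  (pgroupY (.inr (zpowers_le.2 h.tN)) h.pQ.pi (t8_pg2 1 (by simpa [pow_two] using h.t2)).pi).pg

theorem CQ.t8_cen (h : CQ t V ρ Q) {u : G} (hu : IsConj t u) (hN : u ∈ Q ⊔ zpowers t) {q : G}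
    (hq : q ∈ Q) (hc : q * u = u * q) : q ∈ V := by
  have uQ : u ∉ Q := fun hQ => h.nc u hQ hu
  have uC : u ∈ C[V] := (sup_le h.QV (zpowers_le.2 h.t8_tC)) hN
  obtain ⟨g, rfl⟩ := isConj_iff.1 hu
  have u2 : g * t * g⁻¹ * (g * t * g⁻¹) = 1 := by
    calc _ = g * (t * t) * g⁻¹ := by group
      _ = 1 := by rw [h.t2]; group
  have h1 := pHallJ g h.syl
  rw [← C1_conj] at h1
  have hle : V ⊔ zpowers (g * t * g⁻¹) ≤ (Q ⊔ zpowers t) ⊓ C1[g * t * g⁻¹] :=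
    sup_le (le_inf (h.VQ.trans le_sup_left) (le_cent1_iff.2 uC)) (zpowers_le.2 ⟨hN, cent1_self _⟩)
  have hp := pgroupS (inf_le_left (b := C1[g * t * g⁻¹])) h.t8_pg.pi
  have h2 := pHall_of_card_le h1 (hle.trans inf_le_right) (pgroupS hle hp) (by
    rw [card_cj, t8_card (cent_sub _ h.t8_tC) (h.t2 ▸ one_mem _) h.tV,
      t8_card (cent_sub _ uC) (u2 ▸ one_mem _) fun h' => uQ (h.VQ h')])
  have h3 : q ∈ V ⊔ zpowers (g * t * g⁻¹) := by
    rw [← Hall_max h2 hle inf_le_right hp]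
    exact ⟨mem_sup_left hq, mem_cent1.2 hc⟩
  refine ((t8_mem_sup (cent_sub _ uC) (u2 ▸ one_mem _)).1 h3).resolve_right fun h4 => uQ ?_
  simpa using mul_mem (inv_mem hq) (h.VQ h4)

theorem CQ.t8_beta (h : CQ t V ρ Q) (h3 : ∀ g : G, g ^ 3 ∈ C[V]) : ¬ Beta t V Q := by
  rintro ⟨-, hS, hb⟩
  apply hS
  refine Sylow_subnorm (max_pgroup_Sylow (le_inf le_top (normG _)) h.t8_pg fun P hP hle hPN => ?_)
  refine le_antisymm (fun g hg => ?_) hle
  obtain ⟨a, ha, e⟩ := hb g (t8_two h3 hP hg) (hPN hg).2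
  have hle' : V ⊔ zpowers t ≤ P ⊓ C1[t] :=
    le_inf ((sup_le_sup_right h.VQ _).trans hle) h.syl.le
  have h1 : a⁻¹ * g ∈ V ⊔ zpowers t := by
    rw [← Hall_max h.syl hle' inf_le_right (pgroupS inf_le_left hP.pi)]
    refine ⟨P.mul_mem (P.inv_mem (hle (mem_sup_left ha))) hg, mem_cent1.2 ?_⟩
    calc a⁻¹ * g * t = a⁻¹ * (g * t * g⁻¹) * g := by group
      _ = _ := by rw [e]; group
  simpa using mul_mem (mem_sup_left (T := zpowers t) ha) (sup_le_sup_right h.VQ _ h1)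

theorem CQ.t8_fix (h : CQ t V ρ Q) (ho : One t Q ∨ All t Q) {r : G} (hr : r ∈ N[(Q ⊔ zpowers t : Subgroup G)])
    {k : ℕ} (r3 : r ^ 3 ^ k = 1) : ∃ u ∈ Q ⊔ zpowers t, IsConj t u ∧ r * u = u * r := by
  set N := Q ⊔ zpowers t with hN
  let X := {x : G // x ∈ N ∧ IsConj t x}
  let ac : MulAction N[N] X :=
    { smul := fun g x => ⟨g * x * (g : G)⁻¹, conj_mem_of_norm g.2 x.2.1,
        x.2.2.trans (isConj_iff.2 ⟨g, rfl⟩)⟩
      one_smul := fun x => Subtype.ext (by change (1 : G) * x * (1 : G)⁻¹ = x; group)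
      mul_smul := fun g g' x => Subtype.ext (by
        change (g * g' : G) * x * (g * g' : G)⁻¹ = g * (g' * x * (g' : G)⁻¹) * (g : G)⁻¹; group) }
  have hv : ∀ (g : N[N]) (x : X), ((g • x : X) : G) = g * x * (g : G)⁻¹ := fun _ _ => rfl
  have hQN : Q ≤ N[N] := le_sup_left.trans (normG N)
  have hx : ∀ x : X, t * x ∈ Q := by
    intro x
    have := (h.t8_mem.1 x.2.1).resolve_left fun hq => h.nc _ hq x.2.2
    have := conj_mem_of_norm h.tN this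
    simpa [mul_assoc] using this
  have htt : ∀ x : G, t * (t * x) = x := fun x => by rw [← mul_assoc, h.t2, one_mul]
  have hc : Nat.card X ∣ #Q := by
    rcases ho with ho | ho
    · let t0 : X := ⟨t, mem_sup_right (mem_zpowers t), IsConj.refl t⟩
      have : MulAction.IsPretransitive (Q.subgroupOf N[N]) X := by
        refine MulAction.IsPretransitive.of_orbit (x₀ := t0) fun x => ?_
        obtain ⟨a, ha, e⟩ := ho _ (hx x) (by rw [htt]; exact x.2.2)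
        rw [htt] at e
        exact ⟨⟨⟨a, hQN ha⟩, ha⟩, Subtype.ext e.symm⟩
      rw [← MulAction.index_stabilizer_of_transitive (Q.subgroupOf N[N]) t0, ← card_subgroupOf hQN]
      exact index_dvd_card _
    · refine (Nat.card_congr (Equiv.ofBijective (fun x : X => (⟨t * x, hx x⟩ : Q)) ⟨?_, ?_⟩)).dvd
      · intro x y e
        exact Subtype.ext (mul_left_cancel (congrArg Subtype.val e : t * x = t * y))
      · intro q
        exact ⟨⟨t * q, mul_mem (mem_sup_right (mem_zpowers t)) (mem_sup_left q.2), ho q q.2⟩,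
          Subtype.ext (htt q)⟩
  have : Fact (Nat.Prime 3) := ⟨Nat.prime_three⟩
  have hP : IsPGroup 3 (zpowers (⟨r, hr⟩ : N[N])) := t8_pg3 k (Subtype.ext r3)
  obtain ⟨x, hx'⟩ := hP.nonempty_fixed_point_of_prime_not_dvd_card X (by
    intro h3
    obtain ⟨j, hj⟩ := IsPGroup.iff_card.1 h.pQ
    have := Nat.prime_three.dvd_of_dvd_pow (hj ▸ h3.trans hc)
    omega)
  have e : r * x * r⁻¹ = x := congrArg Subtype.val (hx' ⟨⟨r, hr⟩, mem_zpowers _⟩)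
  exact ⟨x, x.2.1, x.2.2, mul_inv_eq_iff_eq_mul.1 e⟩

theorem CQ.t8_fp (h : CQ t V ρ Q) (ho : One t Q ∨ All t Q) (h3 : ∀ g : G, g ^ 3 ∈ C[V])
    (hf : ∀ g : G, g ∉ C[V] → ∀ v ∈ V, g * v = v * g → v = 1) {g : G}
    (hN : g ∈ N[(Q ⊔ zpowers t : Subgroup G)]) (hg : g ∉ C[V]) :
    ∀ q ∈ Q, g * q = q * g → q = 1 := by
  obtain ⟨m, k, e, hm⟩ := t8_three h3 hg
  obtain ⟨u, hu, hc, hr⟩ := h.t8_fix ho (pow_mem hN m) e
  intro q hq hgq
  by_contra hq1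
  have uN : u ∈ N[Q] := (sup_le (normG Q) (zpowers_le.2 h.tN)) hu
  have h1 := pgroup_cent_ne_bot (p := 2) (P := zpowers u) (V := Q ⊓ C1[g ^ m])
    (h.t8_pg.to_le (zpowers_le.2 hu)) (h.pQ.to_le inf_le_left) (zpowers_le.2 (mem_norm_of_cj_le (by
      rintro _ ⟨x, hx, rfl⟩
      exact ⟨conj_mem_of_norm uN hx.1, Subgroup.mul_mem _ (Subgroup.mul_mem _ (mem_cent1.2 hr.symm) hx.2)
        (Subgroup.inv_mem _ (mem_cent1.2 hr.symm))⟩))) (by
      intro hb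
      have : q ∈ Q ⊓ C1[g ^ m] := ⟨hq, mem_cent1.2 ((show Commute g q from hgq).pow_left m).symm⟩
      rw [hb] at this
      exact hq1 this)
  apply h1
  rw [eq_bot_iff]
  rintro x ⟨⟨hx, hx1⟩, hx2⟩
  rw [C_zpowers] at hx2
  exact hf _ hm x (h.t8_cen hc hu hx (mem_cent1.1 hx2)) (mem_cent1.1 hx1).symm

theorem EF.t8_rho (h : EF t V ρ) : ρ ∉ C[V] := by
  intro hρ
  have : 2 < Nat.card V := by have := h.c4; omega
  have : Fintype V := Fintype.ofFinite V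
  rw [Nat.card_eq_fintype_card, Fintype.two_lt_card_iff] at *
  obtain ⟨a, b, c, hab, hac, hbc⟩ := ‹∃ a b c : V, _›
  obtain ⟨k, hk⟩ := h.tr (a⁻¹ * b : V) (a⁻¹ * b).2 (a⁻¹ * c : V) (a⁻¹ * c).2
    (by simpa [inv_mul_eq_one] using fun e => hab (Subtype.ext e))
    (by simpa [inv_mul_eq_one] using fun e => hac (Subtype.ext e))
  rw [conj_eq_of_cent (pow_mem hρ k) (a⁻¹ * b).2] at hk
  exact hbc (mul_left_cancel (Subtype.ext hk))

theorem CQ.t8_rhoN (h : CQ t V ρ Q) (k : ℕ) : ρ ^ k ∈ N[(Q ⊔ zpowers t : Subgroup G)] := by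
  refine pow_mem (mem_norm.2 ?_) k
  rw [cj_sup, cj_of_norm h.ρQ, cj_zpowers, mem_cent1.1 h.ρt, mul_inv_cancel_right]

theorem CQ.t8_idx (h : CQ t V ρ Q) (hS : SylowIn 2 (Q ⊔ zpowers t) ⊤) :
    ∃ K : Subgroup G, K.index = 2 ∧ ¬ Q ⊔ zpowers t ≤ K := by
  have : ∃ K : Subgroup G, K.index = 2 := by
    by_contra hne
    push Not at hne
    obtain ⟨P, hP⟩ := sylow_of_sylowIn_top hS
    obtain ⟨g, -, hg⟩ := Invol.thompson_transfer hne P (Q := Q)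
      (hP ▸ t8_relIndex h.tN (h.t2 ▸ one_mem _) h.tQ) h.t2 (hP ▸ mem_sup_right (mem_zpowers t))
    exact h.nc _ hg (isConj_iff.2 ⟨g, rfl⟩)
  obtain ⟨K, hK⟩ := this
  refine ⟨K, hK, fun hle => hS.not_dvd ?_⟩
  rw [relIndex_top_right, ← hK]
  exact index_dvd_of_le hle

theorem CQ.t8_E (h : CQ t V ρ Q) (ho : One t Q ∨ All t Q) (h3 : ∀ g : G, g ^ 3 ∈ C[V])
    (hf : ∀ g : G, g ∉ C[V] → ∀ v ∈ V, g * v = v * g → v = 1) {u : G} (hu : u ∈ Q) (uV : u ∉ V)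
    (u2 : u * u = 1) : ∃ E : Subgroup G, E ≤ C1[u] ∧ #E = 4 * #V ∧ ∀ x ∈ E, x * x = 1 := by
  obtain ⟨m, k, e, hm⟩ := t8_three h3 h.t8_rho
  have rQ : ρ ^ m ∈ N[Q] := pow_mem h.ρQ m
  have rV : ρ ^ m ∈ N[V] := pow_mem h.ρN m
  have rt : ρ ^ m ∈ C1[t] := pow_mem h.ρt m
  have fp := h.t8_fp ho h3 hf (h.t8_rhoN m) hm
  generalize ρ ^ m = r at *
  have r3 : r ^ 3 ∈ C[Q] := by
    refine zpowers_le.1 (Solv.thompson_PxQ (p := 2) (P := zpowers t) (t8_pg2 1 (by simpa [pow_two] using h.t2))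
      ?_ h.pQ ?_ (zpowers_le.2 h.tN) (zpowers_le.2 (pow_mem rQ 3)) ?_)
    · obtain ⟨j, hj⟩ := (haveI : Fact (Nat.Prime 3) := ⟨Nat.prime_three⟩
        IsPGroup.iff_card.1 (t8_pg3 (y := r ^ 3) k (by rw [← pow_mul, mul_comm, pow_mul, e, one_pow])))
      rw [hj]
      exact Nat.Coprime.pow_left _ (by norm_num)
    · rw [C_zpowers]
      exact zpowers_le.2 (mem_cent1_comm.1 (pow_mem rt 3))
    · rintro x ⟨hx, hx'⟩
      rw [C_zpowers] at hx' ⊢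
      have := h.t8_cen (IsConj.refl t) (mem_sup_right (mem_zpowers t)) hx (mem_cent1.1 hx')
      exact mem_cent1.2 (mem_cent.1 (h3 r) x this)
  obtain ⟨a, ha, ea⟩ := t8_surj rQ fp hu
  have c2 : ∀ g : G, g * u * g⁻¹ * (g * u * g⁻¹) = 1 := fun g => by
    calc _ = g * (u * u) * g⁻¹ := by group
      _ = 1 := by rw [u2]; group
  have e1 : u * (r * u * r⁻¹) * (r * r * u * (r * r)⁻¹) = 1 := by
    calc _ = a⁻¹ * (r ^ 3 * a) * (r ^ 3)⁻¹ := by rw [ea, pow_succ, pow_two]; group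
      _ = 1 := by rw [← mem_cent.1 r3 a ha]; group
  have e2 : u * (r * u * r⁻¹) * (u * (r * u * r⁻¹)) = 1 := by
    rw [eq_inv_of_mul_eq_one_left e1, ← mul_inv_rev, c2, inv_one]
  have e3 : u * (r * u * r⁻¹) = r * u * r⁻¹ * u := by
    rw [eq_inv_of_mul_eq_one_left e2, mul_inv_rev, inv_eq_of_mul_eq_one_left (c2 r),
      inv_eq_of_mul_eq_one_left u2]
  have uC : u ∈ C[V] := h.QV hu
  have wC : r * u * r⁻¹ ∈ C[V ⊔ zpowers u] := by
    rw [cent_sup, C_zpowers]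
    exact ⟨h.QV (conj_mem_of_norm rQ hu), mem_cent1.2 e3.symm⟩
  have m1 : ∀ {x : G}, x ∈ V ⊔ zpowers u ↔ x ∈ V ∨ x * u ∈ V := t8_mem_sup (cent_sub _ uC) (u2 ▸ one_mem _)
  have sq : ∀ (A : Subgroup G) (y : G), y ∈ C[A] → y * y = 1 → (∀ x ∈ A, x * x = 1) →
      ∀ x ∈ A ⊔ zpowers y, x * x = 1 := by
    intro A y hy y2 hA x hx
    rcases (t8_mem_sup (cent_sub _ hy) (y2 ▸ one_mem _)).1 hx with h1 | h1
    · exact hA x h1
    · calc x * x = x * (y * y) * x := by rw [y2, mul_one]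
        _ = x * y * (y * (x * y)) * y⁻¹ := by group
        _ = x * y * (x * y) := by rw [← mem_cent.1 hy _ h1]; group
        _ = 1 := hA _ h1
  refine ⟨V ⊔ zpowers u ⊔ zpowers (r * u * r⁻¹), ?_, ?_, sq _ _ wC (c2 r) (sq _ _ uC u2 h.eV)⟩
  · exact sup_le (sup_le (le_cent1_iff.2 uC) (zpowers_le.2 (cent1_self u))) (zpowers_le.2 (mem_cent1.2 e3.symm))
  · rw [t8_card (cent_sub _ wC) (c2 r ▸ one_mem _), t8_card (cent_sub _ uC) (u2 ▸ one_mem _) uV]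
    · ring
    · intro h1
      rcases m1.1 h1 with h2 | h2
      · exact uV ((conj_mem_iff_of_norm rV).1 h2)
      · obtain ⟨w, hw, ew⟩ := t8_surj rV (hf r hm) h2
        have := fp (u * w⁻¹) (mul_mem hu (inv_mem (h.VQ hw))) (by
          rw [← e3] at ew
          calc r * (u * w⁻¹) = u⁻¹ * (u * (r * u * r⁻¹)) * r * w⁻¹ := by group
            _ = u⁻¹ * w⁻¹ * r := by rw [ew]; group
            _ = _ := by rw [inv_eq_of_mul_eq_one_left u2])
        exact uV (mul_inv_eq_one.1 this ▸ hw)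

end Cfsg.Agent.JT2
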